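import Cfsg.Agent.Lib.L34Sylow.Acts

/-!
The two elementary pieces are weakly closed, and their normalisers control their fusion.

Blueprint: `blueprint/S3198.md`, section 1.
-/

set_option autoImplicit false
set_option linter.unusedSectionVars false
set_option linter.style.haveILetI false

namespace CfsgLib.L34Sylow

open Subgroup Cfsg

variable {G : Type*} [Group G]

/-- The conjugate subgroup. -/
abbrev cj (g : G) (H : Subgroup G) : Subgroup G := H.map (MulAut.conj g).toMonoidHom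

theorem mem_cj {g x : G} {H : Subgroup G} : x ∈ cj g H ↔ g⁻¹ * x * g ∈ H := by
  rw [Subgroup.mem_map_equiv, MulAut.conj_symm_apply]

theorem conj_mem_cj {g x : G} {H : Subgroup G} (hx : x ∈ H) : g * x * g⁻¹ ∈ cj g H := ⟨x, hx, rfl⟩

theorem cj_mul (g h : G) (H : Subgroup G) : cj g (cj h H) = cj (g * h) H := by
  ext x
  simp only [mem_cj, mul_inv_rev, mul_assoc]

theorem cj_one (H : Subgroup G) : cj 1 H = H := by
  ext x
  simp [mem_cj]

theorem card_cj (g : G) (H : Subgroup G) : Nat.card (cj g H) = Nat.card H :=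
  Subgroup.card_map_of_injective (MulAut.conj g).injective

theorem cj_eq_of_mem {g : G} {H : Subgroup G} (hg : g ∈ normalizer (H : Set G)) : cj g H = H := by
  ext x
  rw [mem_cj]
  exact (Subgroup.mem_normalizer_iff''.mp hg x).symm

theorem mem_normalizer_of_cj {g : G} {H : Subgroup G} (h : cj g H = H) : g ∈ normalizer (H : Set G) := by
  refine Subgroup.mem_normalizer_iff''.mpr fun x => ?_
  rw [← mem_cj, h]

theorem mem_normalizer_of_forall [Finite G] {g : G} {H : Subgroup G} (h : ∀ x ∈ H, g * x * g⁻¹ ∈ H) :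
    g ∈ normalizer (H : Set G) := by
  refine mem_normalizer_of_cj (Subgroup.eq_of_le_of_card_ge ?_ (card_cj g H).ge)
  rintro _ ⟨x, hx, rfl⟩
  exact h x hx

/-- A two-subgroup of a subgroup is carried into another two-subgroup that is maximal there. -/
theorem exists_conj_into [Finite G] {D R Q : Subgroup G} (hR : IsPGroup 2 R) (hRD : R ≤ D) (hQ : IsPGroup 2 Q)
    (hQD : Q ≤ D) : ∃ T : Subgroup G, IsPGroup 2 T ∧ R ≤ T ∧ T ≤ D ∧ ∃ c ∈ D, cj c Q ≤ T := by
  haveI : Fact (Nat.Prime 2) := ⟨Nat.prime_two⟩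
  obtain ⟨P, hP⟩ := (hR.comap_subtype (K := D)).exists_le_sylow
  obtain ⟨P', hP'⟩ := (hQ.comap_subtype (K := D)).exists_le_sylow
  obtain ⟨d, hd⟩ := MulAction.exists_smul_eq D P' P
  refine ⟨(P : Subgroup D).map D.subtype, P.2.map _, fun x hx => ⟨⟨x, hRD hx⟩, hP hx, rfl⟩,
    Subgroup.map_subtype_le _, d, d.2, ?_⟩
  rintro _ ⟨x, hx, rfl⟩
  refine ⟨d * ⟨x, hQD hx⟩ * d⁻¹, ?_, rfl⟩
  rw [← hd]
  exact Subgroup.smul_mem_pointwise_smul (⟨x, hQD hx⟩ : D) (MulAut.conj d) _ (hP' hx)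

namespace Base

variable {F : Type*} [Field F] (B : Base G F) [Finite G]

theorem isPGroup_S : IsPGroup 2 (B.S : Subgroup G) := B.S.isPGroup'

theorem isPGroup_E₁ : IsPGroup 2 B.E₁ := B.isPGroup_S.to_le B.E₁_le

theorem isPGroup_E₂ : IsPGroup 2 B.E₂ := B.isPGroup_S.to_le B.E₂_le

/-- Every two-subgroup is conjugate into the Sylow subgroup. -/
theorem exists_cj_le {R : Subgroup G} (hR : IsPGroup 2 R) : ∃ k : G, R ≤ cj k (B.S : Subgroup G) := by
  haveI := two_fact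
  obtain ⟨P, hP⟩ := hR.exists_le_sylow
  obtain ⟨k, hk⟩ := MulAction.exists_smul_eq G B.S P
  refine ⟨k, fun x hx => ?_⟩
  have := hP hx
  rw [← hk] at this
  exact this

theorem S_le_normalizer₁ : (B.S : Subgroup G) ≤ normalizer (B.E₁ : Set G) :=
  Subgroup.le_normalizer.trans B.normalizer_S_le₁

theorem S_le_normalizer₂ : (B.S : Subgroup G) ≤ normalizer (B.E₂ : Set G) :=
  Subgroup.le_normalizer.trans B.normalizer_S_le₂

theorem E₁_ne_E₂ : B.E₁ ≠ B.E₂ := fun e => by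
  have h := B.inf_eq
  rw [e, inf_idem] at h
  have := B.card_E₂
  rw [h, B.card_Z] at this
  omega

/-- The pieces are not conjugate. -/
theorem not_conj (g : G) : cj g B.E₁ ≠ B.E₂ := by
  intro e
  haveI := two_fact
  have h1 : (B.S : Subgroup G) ≤ normalizer (B.E₂ : Set G) := B.S_le_normalizer₂
  have h2 : ((g • B.S : Sylow 2 G) : Subgroup G) ≤ normalizer (B.E₂ : Set G) := by
    rintro _ ⟨s, hs, rfl⟩
    refine mem_normalizer_of_cj ?_
    show cj (g * s * g⁻¹) B.E₂ = B.E₂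
    rw [← e, cj_mul, inv_mul_cancel_right, ← cj_mul, cj_eq_of_mem (B.S_le_normalizer₁ hs)]
  obtain ⟨n, hn⟩ := MulAction.exists_smul_eq ↥(normalizer (B.E₂ : Set G)) ((g • B.S).subtype h2) (B.S.subtype h1)
  rw [Sylow.smul_subtype] at hn
  have hn' := Sylow.subtype_injective hn
  rw [Subgroup.smul_def, smul_smul] at hn'
  have h3 := B.normalizer_S_le₁ (Sylow.smul_eq_iff_mem_normalizer.mp hn')
  have h4 := cj_eq_of_mem h3
  rw [← cj_mul, e, cj_eq_of_mem n.2] at h4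
  exact B.E₁_ne_E₂ h4.symm

/-- The first piece is weakly closed. -/
theorem cj_E₁_eq {g : G} (h : cj g B.E₁ ≤ (B.S : Subgroup G)) : cj g B.E₁ = B.E₁ := by
  refine (B.eq_E h ?_ (by rw [card_cj, B.card_E₁])).resolve_right (B.not_conj g)
  rintro _ ⟨x, hx, rfl⟩
  rw [← map_mul, B.sq_E₁ hx, map_one]

/-- Conjugates of the first piece in one Sylow subgroup coincide. -/
theorem cj_E₁_eq' {g k : G} (h : cj g B.E₁ ≤ cj k (B.S : Subgroup G)) : cj g B.E₁ = cj k B.E₁ := by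
  have h1 : cj (k⁻¹ * g) B.E₁ ≤ (B.S : Subgroup G) := by
    rw [← cj_mul]
    refine (Subgroup.map_mono h).trans ?_
    show cj k⁻¹ (cj k (B.S : Subgroup G)) ≤ _
    rw [cj_mul, inv_mul_cancel, cj_one]
  have h2 := congrArg (cj k) (B.cj_E₁_eq h1)
  rwa [cj_mul, mul_inv_cancel_left] at h2

/-- The normaliser of the first piece controls its fusion in every subgroup containing it. -/
theorem control₁ {C : Subgroup G} (hC : B.E₁ ≤ C) {x g : G} (hg : g ∈ C) (hx : x ∈ B.E₁)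
    (hy : g * x * g⁻¹ ∈ B.E₁) :
    ∃ n ∈ normalizer (B.E₁ : Set G), n ∈ C ∧ n * x * n⁻¹ = g * x * g⁻¹ := by
  set y := g * x * g⁻¹ with hy'
  set D := C ⊓ centralizer ({y} : Set G)
  have h1 : B.E₁ ≤ D := le_inf hC fun e he => Subgroup.mem_centralizer_singleton_iff.mpr (B.comm_E₁ he hy)
  have h2 : cj g B.E₁ ≤ D := by
    rintro _ ⟨e, he, rfl⟩
    refine ⟨C.mul_mem (C.mul_mem hg (hC he)) (C.inv_mem hg), Subgroup.mem_centralizer_singleton_iff.mpr ?_⟩
    show g * e * g⁻¹ * y = y * (g * e * g⁻¹)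
    calc g * e * g⁻¹ * y = g * (e * x) * g⁻¹ := by rw [hy']; group
      _ = g * (x * e) * g⁻¹ := by rw [B.comm_E₁ he hx]
      _ = _ := by rw [hy']; group
  obtain ⟨T, hT, hET, hTD, c, hc, hcT⟩ := exists_conj_into B.isPGroup_E₁ h1 (B.isPGroup_E₁.map _) h2
  obtain ⟨k, hk⟩ := B.exists_cj_le hT
  have e1 : cj (1 : G) B.E₁ = cj k B.E₁ := B.cj_E₁_eq' (by rw [cj_one]; exact hET.trans hk)
  rw [cj_mul] at hcT
  have e2 : cj (c * g) B.E₁ = cj k B.E₁ := B.cj_E₁_eq' (hcT.trans hk)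
  rw [← e1, cj_one] at e2
  refine ⟨c * g, mem_normalizer_of_cj e2, C.mul_mem hc.1 hg, ?_⟩
  calc c * g * x * (c * g)⁻¹ = c * y * c⁻¹ := by rw [hy']; group
    _ = y := by rw [Subgroup.mem_centralizer_singleton_iff.mp hc.2, mul_inv_cancel_right]

theorem control₂ {C : Subgroup G} (hC : B.E₂ ≤ C) {x g : G} (hg : g ∈ C) (hx : x ∈ B.E₂)
    (hy : g * x * g⁻¹ ∈ B.E₂) :
    ∃ n ∈ normalizer (B.E₂ : Set G), n ∈ C ∧ n * x * n⁻¹ = g * x * g⁻¹ := by
  rw [← swap_E₁] at hC hx hy ⊢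
  exact B.swap.control₁ hC hg hx hy

end Base

end CfsgLib.L34Sylow
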