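import Cfsg.Agent.Lib.Involutions
import Cfsg.Agent.Lib.Basic

/-!
The involution between two involutions, and counting by fibres.

Blueprint: `blueprint/S3198.md`, section 4.
-/

set_option autoImplicit false
set_option linter.unusedSectionVars false

namespace CfsgLib.L34Sylow

variable {G : Type*} [Group G]

/-- The involution of the cyclic part of the dihedral group generated by two involutions. -/
noncomputable def mid (u v : G) : G := (u * v) ^ (orderOf (u * v) / 2)

theorem mid_conj (g u v : G) : mid (g * u * g⁻¹) (g * v * g⁻¹) = g * mid u v * g⁻¹ := by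
  unfold mid
  rw [show g * u * g⁻¹ * (g * v * g⁻¹) = g * (u * v) * g⁻¹ by group, Involutions.orderOf_conj, conj_pow]

theorem mid_mem {H : Subgroup G} {u v : G} (hu : u ∈ H) (hv : v ∈ H) : mid u v ∈ H := pow_mem (mul_mem hu hv) _

theorem even_of_not_isConj {u v : G} (hu : orderOf u = 2) (hv : orderOf v = 2) (h : ¬ IsConj u v) :
    Even (orderOf (u * v)) := by
  rw [← Nat.not_odd_iff_even]
  intro ho
  obtain ⟨d, -, hd⟩ := Involutions.exists_conj_eq_of_odd (Involutions.mul_self_eq_one_of_orderOf hu)
    (Involutions.mul_self_eq_one_of_orderOf hv) ho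
  exact h (isConj_iff.mpr ⟨d, hd⟩)

theorem mid_spec [Finite G] {u v : G} (hu : orderOf u = 2) (hv : orderOf v = 2) (he : Even (orderOf (u * v))) :
    orderOf (mid u v) = 2 ∧ mid u v * u = u * mid u v ∧ mid u v * v = v * mid u v := by
  have h := Involutions.central_half (Involutions.mul_self_eq_one_of_orderOf hu)
    (Involutions.mul_self_eq_one_of_orderOf hv) he
  exact ⟨Involutions.orderOf_half he, h.1.eq, h.2.eq⟩

/-- For commuting involutions the involution between them is the product. -/
theorem mid_of_comm [Finite G] {u v : G} (hu : orderOf u = 2) (hv : orderOf v = 2) (hne : u ≠ v)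
    (hc : u * v = v * u) : mid u v = u * v := by
  have h : orderOf (u * v) = 2 := by
    refine orderOf_eq_prime (p := 2) (hp := ⟨Nat.prime_two⟩) ?_ fun e => ?_
    · rw [pow_two, mul_assoc, ← mul_assoc v, ← hc, mul_assoc u v v, Involutions.mul_self_eq_one_of_orderOf hv,
        mul_one, Involutions.mul_self_eq_one_of_orderOf hu]
    · exact hne (by rw [eq_inv_of_mul_eq_one_left e, Involutions.inv_eq_self_of_orderOf hv])
  rw [mid, h, Nat.div_self two_pos, pow_one]

/-- Counting by fibres of the same size. -/
theorem card_eq_mul_of_fibres {α β : Type*} [Finite α] [Finite β] (f : α → β) {k : ℕ}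
    (h : ∀ b, Nat.card {a // f a = b} = k) : Nat.card α = Nat.card β * k := by
  haveI := Fintype.ofFinite β
  rw [← Nat.card_congr (Equiv.sigmaFiberEquiv f), Nat.card_sigma, Finset.sum_congr rfl fun b _ => h b,
    Finset.sum_const, Finset.card_univ, smul_eq_mul, Nat.card_eq_fintype_card]

/-- Counting by fibres of bounded size. -/
theorem card_le_mul_of_fibres {α β : Type*} [Finite α] [Finite β] (f : α → β) {k : ℕ}
    (h : ∀ b, Nat.card {a // f a = b} ≤ k) : Nat.card α ≤ Nat.card β * k := by
  haveI := Fintype.ofFinite β
  rw [← Nat.card_congr (Equiv.sigmaFiberEquiv f), Nat.card_sigma, Nat.card_eq_fintype_card,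
    ← Finset.card_univ, ← smul_eq_mul]
  exact Finset.sum_le_card_nsmul _ _ _ fun b _ => h b

/-- Counting a subtype and its complement. -/
theorem card_and_add_card_and_not {α : Type*} [Finite α] (p q : α → Prop) :
    Nat.card {a // p a ∧ q a} + Nat.card {a // p a ∧ ¬ q a} = Nat.card {a // p a} := by
  classical
  haveI := Fintype.ofFinite α
  simp only [Nat.card_eq_fintype_card, Fintype.card_subtype]
  rw [← Finset.card_union_of_disjoint]
  · congr 1
    ext a
    by_cases h : q a <;> simp [h]
  · exact Finset.disjoint_filter.mpr fun a _ h h' => h'.2 h.2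

end CfsgLib.L34Sylow
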