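import Cfsg.Agent.Lib.Basic
import Cfsg.Agent.Lib.L34Sylow.Mid
import Cfsg.Agent.Lib.Transfer
import Cfsg.Agent.Lib.Blocks.HallHigman
import Cfsg.Agent.Lib.PLocal.SolvableSeparable
import Cfsg.Agent.Lib.HallE8.Solvable
import Cfsg.Agent.Lib.Counting.Kulakoff
import Cfsg.Agent.Lib.ZStar.Main
import Mathlib.GroupTheory.FixedPointFree

/-!
A group of odd order with an involutory automorphism fixing a subgroup of order three.

Blueprint: `blueprint/S3198.md`, section 5.
-/

set_option autoImplicit false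
set_option linter.unusedSectionVars false
set_option linter.style.haveILetI false

namespace CfsgLib.L34Sylow

open Subgroup Cfsg
open scoped commutatorElement

universe u

variable {H : Type u} [Group H]

/-- The restriction of an involutory automorphism to an invariant subgroup. -/
def resInv (β : H ≃* H) (hβ : Function.Involutive β) (K : Subgroup H) (hK : ∀ x ∈ K, β x ∈ K) : K ≃* K where
  toFun x := ⟨β x, hK x x.2⟩
  invFun x := ⟨β x, hK x x.2⟩
  left_inv x := Subtype.ext (hβ x)
  right_inv x := Subtype.ext (hβ x)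
  map_mul' x y := Subtype.ext (map_mul β _ _)

theorem resInv_involutive (β : H ≃* H) (hβ : Function.Involutive β) (K : Subgroup H) (hK : ∀ x ∈ K, β x ∈ K) :
    Function.Involutive (resInv β hβ K hK) := fun x => Subtype.ext (hβ x)

theorem involutive_fixed_of_odd {α : Type*} [Finite α] (h : Odd (Nat.card α)) (f : α → α)
    (hf : Function.Involutive f) : ∃ a, f a = a := by
  classical
  haveI := Fintype.ofFinite α
  haveI : Fact (Nat.Prime 2) := ⟨Nat.prime_two⟩
  obtain ⟨a, ha⟩ := Equiv.Perm.exists_fixed_point_of_prime (p := 2) (n := 1) (α := α)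
    (by rwa [← Nat.card_eq_fintype_card, ← even_iff_two_dvd, Nat.not_even_iff_odd])
    (σ := hf.toPerm) (by rw [pow_one, pow_two]; ext x; exact hf x)
  exact ⟨a, ha⟩

/-- An invariant coset of a subgroup of odd order contains a fixed element. -/
theorem exists_fixed_in_coset [Finite H] (β : H ≃* H) (hβ : Function.Involutive β) {N : Subgroup H}
    (hN : Odd (Nat.card N)) (hNb : ∀ x ∈ N, β x ∈ N) {y : H} (hy : y⁻¹ * β y ∈ N) :
    ∃ w, y⁻¹ * w ∈ N ∧ β w = w := by
  obtain ⟨n, hn⟩ := involutive_fixed_of_odd hN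
    (fun n : N => ⟨y⁻¹ * β y * β n, mul_mem hy (hNb n n.2)⟩) fun n => Subtype.ext (by
      show y⁻¹ * β y * β (y⁻¹ * β y * β n) = n
      rw [map_mul, map_mul, map_inv, hβ, hβ]
      group)
  refine ⟨y * n, by rw [inv_mul_cancel_left]; exact n.2, ?_⟩
  have h : y⁻¹ * β y * β n = n := congrArg Subtype.val hn
  calc β (y * n) = y * (y⁻¹ * β y * β n) := by rw [map_mul]; group
    _ = _ := by rw [h]

theorem beta_pow_fix (β : H ≃* H) {d : H} (hd : β d = d) (i : ℕ) : β (d ^ i) = d ^ i := by rw [map_pow, hd]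

theorem eq_pow_of_fixed [Finite H] (β : H ≃* H) {d : H} (hfix : ∀ y, β y = y → y ∈ zpowers d) {y : H}
    (hy : β y = y) : ∃ i : ℕ, d ^ i = y := by
  obtain ⟨i, hi⟩ := Submonoid.mem_powers_iff _ _ |>.mp ((mem_powers_iff_mem_zpowers (x := d)).mpr (hfix y hy))
  exact ⟨i, hi⟩

/-- **The three-group.** -/
theorem three_group [Finite H] (hH : IsPGroup 3 H) (β : H ≃* H) (hβ : Function.Involutive β) {d : H}
    (hd : orderOf d = 3) (hβd : β d = d) (hfix : ∀ y, β y = y → y ∈ zpowers d)
    (hC : Nat.card (centralizer ({d} : Set H)) = 9) (h27 : 27 ≤ Nat.card H) :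
    ∃ A : Subgroup H, (∀ a ∈ A, β a = a⁻¹) ∧ (∀ a ∈ A, ∀ b ∈ A, a * b = b * a) ∧ d ∉ A ∧
      (∀ x, ∃ i : ℕ, x * (d ^ i)⁻¹ ∈ A) ∧ commutator H ≤ A ∧ (∀ a ∈ A, β a ∈ A) ∧ (commutator H).index = 9 := by
  haveI : Fact (Nat.Prime 3) := ⟨Nat.prime_three⟩
  have hodd : ∀ K : Subgroup H, Odd (Nat.card K) := fun K => by
    obtain ⟨k, hk⟩ := IsPGroup.iff_card.mp (hH.to_subgroup K)
    rw [hk]
    exact (by decide : Odd 3).pow
  set D := commutator H with hD
  haveI : D.Characteristic := by rw [hD]; infer_instance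
  have hDb : ∀ x ∈ D, β x ∈ D := fun x hx => by
    have h := Subgroup.characteristic_iff_map_eq.mp ‹D.Characteristic› β
    exact h ▸ Subgroup.mem_map_of_mem β.toMonoidHom hx
  have hCtop : centralizer ({d} : Set H) ≠ ⊤ := fun e => by
    rw [e, Subgroup.card_top] at hC
    omega
  have hnc : ¬ IsCyclic H := fun h => hCtop (top_le_iff.mp fun x _ => Subgroup.mem_centralizer_singleton_iff.mpr (by
    haveI := h
    letI := IsCyclic.commGroup (α := H)
    exact mul_comm x d))
  have hDidx : 9 ≤ D.index := by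
    obtain ⟨h1, h2⟩ := CfsgLib.Kulakoff.commutator_index_ne hH hnc
    obtain ⟨k, hk⟩ := IsPGroup.iff_card.mp (hH.to_quotient D)
    rw [← hD] at h1 h2
    rw [Subgroup.index_eq_card, hk] at h1 h2 ⊢
    match k with
    | 0 => simp at h2
    | 1 => simp at h1
    | k + 2 => calc 9 = 3 ^ 2 := rfl
        _ ≤ 3 ^ (k + 2) := Nat.pow_le_pow_right (by norm_num) (by omega)
  -- the fixed element avoids the derived subgroup
  have hdD : d ∉ D := by
    intro hdD
    set K := ⁅D, (⊤ : Subgroup H)⁆ with hK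
    have hKle : K ≤ D := by
      rw [hK, hD, commutator_def]
      exact Subgroup.commutator_mono le_top le_rfl
    have hne : K ≠ D := by
      intro e
      haveI := hH.isNilpotent
      haveI : Group.IsNilpotent (⊤ : Subgroup H) := inferInstance
      have hb := CfsgLib.Transfer.eq_bot_of_le_commutator (Q := D) (P := ⊤) le_top e.ge
      rw [hb, Subgroup.mem_bot] at hdD
      rw [hdD, orderOf_one] at hd
      omega
    have h3 : 3 * Nat.card K ≤ Nat.card D := by
      have hmul : Nat.card K * K.relIndex D = Nat.card D := by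
        rw [← Nat.card_congr (Subgroup.subgroupOfEquivOfLe hKle).toEquiv]
        exact (K.subgroupOf D).card_mul_index
      obtain ⟨k, hk⟩ := IsPGroup.iff_card.mp ((hH.to_subgroup D).to_quotient (K.subgroupOf D))
      rw [← Subgroup.index_eq_card] at hk
      change K.relIndex D = 3 ^ k at hk
      rcases k with _ | k
      · exact absurd (Subgroup.relIndex_eq_one.mp hk) fun h => hne (le_antisymm hKle h)
      · rw [hk] at hmul
        have : 3 ≤ 3 ^ (k + 1) := Nat.le_self_pow (by omega) 3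
        nlinarith
    have hcls : Nat.card H ≤ Nat.card K * 9 := by
      refine le_trans (CfsgLib.L34Sylow.card_le_mul_of_fibres (k := 9) (fun g : H =>
        (⟨⁅d, g⁆, Subgroup.commutator_mem_commutator hdD (Subgroup.mem_top g)⟩ : K)) fun b => ?_) le_rfl
      rcases isEmpty_or_nonempty {g : H // (⟨⁅d, g⁆, Subgroup.commutator_mem_commutator hdD (Subgroup.mem_top g)⟩ : K) = b}
        with he | ⟨⟨g₀, hg₀⟩⟩
      · rw [Nat.card_of_isEmpty]; omega
      rw [← hC]
      refine Nat.card_le_card_of_injective (fun g => ⟨g₀⁻¹ * g.1, ?_⟩) fun a b e =>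
        Subtype.ext (mul_left_cancel (congrArg Subtype.val e :))
      have h : ⁅d, g.1⁆ = ⁅d, g₀⁆ := congrArg Subtype.val (g.2.trans hg₀.symm)
      simp only [commutatorElement_def] at h
      refine Subgroup.mem_centralizer_singleton_iff.mpr ?_
      have h' : g.1 * d⁻¹ * g.1⁻¹ = g₀ * d⁻¹ * g₀⁻¹ := by
        calc g.1 * d⁻¹ * g.1⁻¹ = d⁻¹ * (d * g.1 * d⁻¹ * g.1⁻¹) := by group
          _ = d⁻¹ * (d * g₀ * d⁻¹ * g₀⁻¹) := by rw [h]
          _ = _ := by group
      calc g₀⁻¹ * g.1 * d = g₀⁻¹ * (g.1 * d⁻¹ * g.1⁻¹)⁻¹ * g.1 := by group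
        _ = g₀⁻¹ * (g₀ * d⁻¹ * g₀⁻¹)⁻¹ * g.1 := by rw [h']
        _ = _ := by group
    have h1 := D.card_mul_index
    nlinarith [Nat.card_pos (α := K)]
  -- the map to the fixed points modulo the derived subgroup
  let q : H →* Abelianization H := Abelianization.of
  have hq : ∀ a b : H, q a = q b ↔ a⁻¹ * b ∈ D := fun a b => QuotientGroup.eq
  let φ : H →* Abelianization H :=
    { toFun := fun x => q x * q (β x)
      map_one' := by simp
      map_mul' := fun x y => by simp only [map_mul]; exact mul_mul_mul_comm _ _ _ _ }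
  set A := φ.ker with hA
  have hmemA : ∀ x, x ∈ A ↔ x * β x ∈ D := fun x => by
    rw [hA, MonoidHom.mem_ker]
    show q x * q (β x) = 1 ↔ _
    rw [← map_mul, ← map_one q, hq, mul_one, inv_mem_iff]
  have hdA : d ∉ A := fun h => hdD (by
    rw [hmemA, hβd] at h
    have h3 : d ^ 3 = 1 := by rw [← hd]; exact pow_orderOf_eq_one d
    have := mul_mem h h
    rwa [show d * d * (d * d) = d ^ 3 * d by rw [pow_succ, pow_two]; group, h3, one_mul] at this)
  have hAb : ∀ a ∈ A, β a ∈ A := fun a ha => by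
    rw [hmemA, hβ] at *
    have : β a * a = a⁻¹ * (a * β a) * a⁻¹⁻¹ := by group
    rw [this]
    exact (inferInstance : D.Normal).conj_mem _ ha _
  have hdec : ∀ x, ∃ i : ℕ, x * (d ^ i)⁻¹ ∈ A := by
    intro x
    obtain ⟨w, hw, hwf⟩ := exists_fixed_in_coset β hβ (hodd D) hDb (y := x * β x) (by
      rw [map_mul, hβ, show (x * β x)⁻¹ * (β x * x) = ⁅(β x)⁻¹, x⁻¹⁆ by rw [commutatorElement_def]; group]
      exact Subgroup.commutator_mem_commutator (Subgroup.mem_top _) (Subgroup.mem_top _))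
    obtain ⟨j, rfl⟩ := eq_pow_of_fixed β hfix hwf
    refine ⟨2 * j, ?_⟩
    rw [hA, MonoidHom.mem_ker, map_mul, map_inv, mul_inv_eq_one]
    show q x * q (β x) = q (d ^ (2 * j)) * q (β (d ^ (2 * j)))
    rw [beta_pow_fix β hβd, ← map_mul, ← map_mul, (hq (x * β x) (d ^ j)).mpr hw, ← pow_add,
      show 2 * j + 2 * j = j + 3 * j by ring, pow_add, pow_mul d 3, show d ^ 3 = 1 by rw [← hd]; exact pow_orderOf_eq_one d,
      one_pow, mul_one]
  have hDA : D ≤ A := fun x hx => (hmemA x).mpr (mul_mem hx (hDb x hx))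
  let γ := resInv β hβ A hAb
  have hfpf : MonoidHom.FixedPointFree γ := by
    intro a ha
    obtain ⟨i, hi⟩ := eq_pow_of_fixed β hfix (congrArg Subtype.val ha : β a = a)
    have ha3 : (a : H) ∈ zpowers d := hi ▸ Subgroup.npow_mem_zpowers d i
    by_contra h1
    refine hdA ?_
    have hle : zpowers (a : H) ≤ zpowers d := zpowers_le.mpr ha3
    have heq : zpowers (a : H) = zpowers d := Subgroup.eq_of_le_of_card_ge hle (by
      rw [Nat.card_zpowers d, hd, Nat.card_zpowers]
      have hdvd := Subgroup.orderOf_dvd_natCard _ ha3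
      rw [Nat.card_zpowers, hd] at hdvd
      rcases (Nat.dvd_prime Nat.prime_three).mp hdvd with h | h
      · exact absurd (Subtype.ext (orderOf_eq_one_iff.mp h)) h1
      · omega)
    exact (zpowers_le.mpr a.2) (heq.symm ▸ mem_zpowers d)
  have hinv : ∀ a ∈ A, β a = a⁻¹ := fun a ha =>
    congrArg Subtype.val (congrFun (hfpf.coe_eq_inv_of_involutive (resInv_involutive β hβ A hAb)) ⟨a, ha⟩)
  have hcomm : ∀ a ∈ A, ∀ b ∈ A, a * b = b * a := fun a ha b hb =>
    congrArg Subtype.val ((hfpf.commute_all_of_involutive (resInv_involutive β hβ A hAb) ⟨a, ha⟩ ⟨b, hb⟩).eq)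
  refine ⟨A, hinv, hcomm, hdA, hdec, hDA, hAb, ?_⟩
  -- the derived subgroup has index nine
  haveI hAn : A.Normal := by rw [hA]; infer_instance
  let κ : A →* D :=
    { toFun := fun a => ⟨⁅(a : H), d⁆, Subgroup.commutator_mem_commutator (Subgroup.mem_top _) (Subgroup.mem_top _)⟩
      map_one' := Subtype.ext (by simp [commutatorElement_def])
      map_mul' := fun a b => Subtype.ext (by
        have hbd : ⁅(b : H), d⁆ ∈ A := by
          rw [commutatorElement_def, show (b : H) * d * (b : H)⁻¹ * d⁻¹ = b * (d * (b : H)⁻¹ * d⁻¹) by group]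
          exact mul_mem b.2 (hAn.conj_mem _ (inv_mem b.2) d)
        show ⁅((a * b : A) : H), d⁆ = ⁅(a : H), d⁆ * ⁅(b : H), d⁆
        calc ⁅((a * b : A) : H), d⁆ = a * ⁅(b : H), d⁆ * (a : H)⁻¹ * ⁅(a : H), d⁆ := by
              simp only [commutatorElement_def, Subgroup.coe_mul]; group
          _ = ⁅(b : H), d⁆ * ⁅(a : H), d⁆ := by rw [hcomm _ a.2 _ hbd, mul_inv_cancel_right]
          _ = _ := hcomm _ hbd _ (by
              rw [commutatorElement_def, show (a : H) * d * (a : H)⁻¹ * d⁻¹ = a * (d * (a : H)⁻¹ * d⁻¹) by group]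
              exact mul_mem a.2 (hAn.conj_mem _ (inv_mem a.2) d))) }
  have hker : Nat.card κ.ker ≤ 3 := by
    have hle : κ.ker.map A.subtype ≤ centralizer ({d} : Set H) := by
      rintro _ ⟨a, ha, rfl⟩
      have h : ⁅(a : H), d⁆ = 1 := congrArg Subtype.val (MonoidHom.mem_ker.mp ha)
      exact Subgroup.mem_centralizer_singleton_iff.mpr (commutatorElement_eq_one_iff_mul_comm.mp h)
    have hne : κ.ker.map A.subtype ≠ centralizer ({d} : Set H) := fun e => hdA (by
      have : d ∈ κ.ker.map A.subtype := e.symm ▸ Subgroup.mem_centralizer_singleton_iff.mpr rfl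
      obtain ⟨a, -, ha⟩ := this
      exact ha ▸ a.2)
    have hdvd := Subgroup.card_dvd_of_le hle
    rw [hC, Subgroup.card_map_of_injective A.subtype_injective] at hdvd
    have hlt : Nat.card κ.ker ≠ 9 := fun e => hne (Subgroup.eq_of_le_of_card_ge hle (by
      rw [hC, Subgroup.card_map_of_injective A.subtype_injective, e]))
    obtain ⟨k, hk, he⟩ := (Nat.dvd_prime_pow Nat.prime_three).mp (show Nat.card κ.ker ∣ 3 ^ 2 by simpa using hdvd)
    rw [he] at hlt ⊢
    interval_cases k <;> simp_all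
  have hAidx : A.index ≤ 3 := by
    rw [Subgroup.index_eq_card, ← hd, ← Nat.card_zpowers]
    refine Nat.card_le_card_of_surjective (fun y : zpowers d => QuotientGroup.mk (y : H)) fun x => ?_
    induction x using QuotientGroup.induction_on with | _ x => ?_
    obtain ⟨i, hi⟩ := hdec x
    refine ⟨⟨d ^ i, Subgroup.npow_mem_zpowers d i⟩, QuotientGroup.eq.mpr ?_⟩
    have := hAn.conj_mem _ hi (d ^ i)⁻¹
    convert this using 1
    group
  have h1 := D.card_mul_index
  have h2 := A.card_mul_index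
  have h3 := κ.ker.card_mul_index
  rw [Subgroup.index_ker] at h3
  have h4 : Nat.card κ.range ≤ Nat.card D := Subgroup.card_le_card_group _
  have h5 : Nat.card A ≤ 3 * Nat.card D := by rw [← h3]; exact Nat.mul_le_mul hker h4
  have hle : D.index ≤ 9 := by
    refine Nat.le_of_mul_le_mul_left ?_ (Nat.card_pos (α := D))
    calc Nat.card D * D.index = Nat.card A * A.index := h1.trans h2.symm
      _ ≤ 3 * Nat.card D * 3 := Nat.mul_le_mul h5 hAidx
      _ = _ := by ring
  omega

/-- An automorphism of order prime to six fixes a group of order nine pointwise. -/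
theorem fix_of_nine {V : Type*} [Group V] [Finite V] (h9 : Nat.card V = 9) (γ : V ≃* V) {b : ℕ}
    (hb : γ ^ b = 1) (hb6 : b.Coprime 6) : γ = 1 := by
  classical
  by_contra hne
  obtain ⟨p, hp, hpd⟩ := Nat.exists_prime_and_dvd (show orderOf γ ≠ 1 from fun h => hne (orderOf_eq_one_iff.mp h))
  haveI := Fact.mk hp
  have hpb : p ∣ b := hpd.trans (orderOf_dvd_of_pow_eq_one hb)
  have hp6 : p.Coprime 6 := hb6.coprime_dvd_left hpb
  obtain ⟨γ', hγ'⟩ : ∃ γ' : V ≃* V, orderOf γ' = p := by
    refine ⟨γ ^ (orderOf γ / p), ?_⟩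
    rw [orderOf_pow, Nat.gcd_eq_right (Nat.div_dvd_of_dvd hpd), Nat.div_div_self hpd (orderOf_pos γ).ne']
  have hP : IsPGroup p (zpowers γ') := IsPGroup.of_card (n := 1) (by rw [Nat.card_zpowers, hγ', pow_one])
  letI : MulAction (zpowers γ') V := MulAction.compHom V ((zpowers γ').subtype : _ →* MulAut V)
  have hmod := hP.card_modEq_card_fixedPoints (α := V)
  let Fx : Subgroup V :=
    { carrier := {v | γ' v = v}
      one_mem' := map_one γ'
      mul_mem' := fun {a b} ha hb => by simp only [Set.mem_setOf_eq] at *; rw [map_mul, ha, hb]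
      inv_mem' := fun {a} ha => by simp only [Set.mem_setOf_eq] at *; rw [map_inv, ha] }
  have hfx : Nat.card (MulAction.fixedPoints (zpowers γ') V) = Nat.card Fx := by
    refine Nat.card_congr (Equiv.subtypeEquivRight fun v => ?_)
    constructor
    · intro h
      exact h ⟨γ', mem_zpowers γ'⟩
    · intro h g
      have hle : zpowers γ' ≤ MulAction.stabilizer (MulAut V) v := zpowers_le.mpr h
      exact hle g.2
  rw [hfx, h9] at hmod
  have hd := Fx.card_subgroup_dvd_card
  rw [h9] at hd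
  have hlt : Nat.card Fx ≠ 9 := fun e => by
    have htop : Fx = ⊤ := Subgroup.eq_top_of_card_eq _ (e.trans h9.symm)
    have h1 : γ' = 1 := MulEquiv.ext fun v => (htop.symm ▸ Subgroup.mem_top v : v ∈ Fx)
    rw [h1, orderOf_one] at hγ'
    exact hp.ne_one hγ'.symm
  have h5 : 5 ≤ p := by
    rcases Nat.lt_or_ge p 5 with h | h
    · have h2 := hp.two_le
      interval_cases p <;> first | (norm_num at hp6) | (exact absurd hp (by norm_num))
    · exact h
  obtain ⟨k, hk, he⟩ := (Nat.dvd_prime_pow Nat.prime_three).mp (show Nat.card Fx ∣ 3 ^ 2 by simpa using hd)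
  rw [he] at hmod hlt
  have hp8 : p ∣ 9 - 3 ^ k := (Nat.modEq_iff_dvd' (by interval_cases k <;> norm_num)).mp hmod.symm
  interval_cases k
  · have : p ≤ 8 := Nat.le_of_dvd (by norm_num) hp8
    interval_cases p <;> first | (norm_num at hp; done) | (norm_num at hp8; done)
  · have : p ≤ 6 := Nat.le_of_dvd (by norm_num) hp8
    interval_cases p <;> first | (norm_num at hp; done) | (norm_num at hp8; done)
  · simp at hlt

/-- A group of odd order contains an invariant Sylow subgroup above an invariant subgroup. -/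
theorem exists_invariant_sylow_ge [Finite H] (hodd : Odd (Nat.card H)) {p : ℕ} [Fact p.Prime] (β : H ≃* H)
    (hβ : Function.Involutive β) {Q : Subgroup H} (hQ : IsPGroup p Q) (hQb : ∀ x ∈ Q, β x ∈ Q) :
    ∃ P : Sylow p H, Q ≤ (P : Subgroup H) ∧ ∀ x ∈ (P : Subgroup H), β x ∈ (P : Subgroup H) := by
  obtain ⟨R, ⟨hR, hRb, hQR⟩, hmax⟩ := (Set.toFinite {R : Subgroup H |
    IsPGroup p R ∧ (∀ x ∈ R, β x ∈ R) ∧ Q ≤ R}).exists_maximal ⟨Q, hQ, hQb, le_rfl⟩
  obtain ⟨P, hP⟩ := hR.exists_le_sylow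
  suffices hPR : (P : Subgroup H) = R by exact ⟨P, hPR ▸ hQR, hPR.symm ▸ hRb⟩
  by_contra hne
  have hlt : R < (P : Subgroup H) := lt_of_le_of_ne hP (Ne.symm hne)
  haveI := P.isPGroup'.isNilpotent
  obtain ⟨y, hy, hyR⟩ : ∃ y, y ∈ (P : Subgroup H) ⊓ normalizer (R : Set H) ∧ y ∉ R := by
    by_contra hcon
    push Not at hcon
    have hsub : R.subgroupOf P < ⊤ := lt_top_iff_ne_top.mpr fun e => hlt.not_ge (Subgroup.subgroupOf_eq_top.mp e)
    have h := Group.normalizerCondition_of_isNilpotent (R.subgroupOf P) hsub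
    refine h.not_ge fun z hz => ?_
    refine hcon _ ⟨z.2, Subgroup.mem_normalizer_iff.mpr fun r => ⟨fun hr => ?_, fun hr => ?_⟩⟩
    · exact (Subgroup.mem_normalizer_iff.mp hz ⟨r, hP hr⟩).mp hr
    · have hr' : r ∈ (P : Subgroup H) := by
        have := mul_mem (mul_mem (inv_mem z.2) (hP hr)) z.2
        simpa [mul_assoc] using this
      exact (Subgroup.mem_normalizer_iff.mp hz ⟨r, hr'⟩).mpr hr
  set N := normalizer (R : Set H) with hN
  have hNb : ∀ x ∈ N, β x ∈ N := fun x hx => Subgroup.mem_normalizer_iff.mpr fun r => by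
    have h := Subgroup.mem_normalizer_iff.mp hx (β r)
    constructor
    · intro hr
      have := hRb _ (h.mp (hRb r hr))
      rwa [map_mul, map_mul, hβ, map_inv] at this
    · intro hr
      have h1 := hRb _ hr
      rw [map_mul, map_mul, hβ, map_inv, hβ] at h1
      have h2 := hRb _ (h.mpr h1)
      rwa [hβ] at h2
  let γ := resInv β hβ N hNb
  have hcard : Odd (Nat.card (Sylow p N)) := by
    refine (hodd.of_dvd_nat (N.card_subgroup_dvd_card)).of_dvd_nat ?_
    exact (Sylow.card_dvd_index default).trans (Subgroup.index_dvd_card _)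
  obtain ⟨T, hT⟩ := involutive_fixed_of_odd hcard (fun T => T.comapOfInjective γ.toMonoidHom γ.injective (by
      rw [MonoidHom.range_eq_top.mpr γ.surjective]; exact le_top))
    fun T => Sylow.ext (by
      ext x
      show γ (γ x) ∈ (T : Subgroup N) ↔ x ∈ (T : Subgroup N)
      rw [resInv_involutive β hβ N hNb x])
  have hTinv : ∀ x : N, x ∈ (T : Subgroup N) → γ x ∈ (T : Subgroup N) := fun x hx => by
    conv at hx => rw [← hT]
    exact hx
  have hRT : R.subgroupOf N ≤ (T : Subgroup N) := by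
    haveI : (R.subgroupOf N).Normal := Subgroup.normal_in_normalizer
    haveI : (R.comap N.subtype).Normal := Subgroup.normal_in_normalizer
    exact (hR.comap_subtype).le_sylow_of_normal T
  have hbig : R < (T : Subgroup N).map N.subtype := by
    refine lt_of_le_of_ne (fun r hr => ⟨⟨r, Subgroup.le_normalizer hr⟩, hRT hr, rfl⟩) fun e => hyR ?_
    have hTR : R.subgroupOf N = (T : Subgroup N) := by
      conv_lhs => rw [e]
      exact Subgroup.comap_map_eq_self_of_injective N.subtype_injective _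
    have hsup : IsPGroup p ↥(zpowers (⟨y, hy.2⟩ : N) ⊔ R.subgroupOf N) := by
      haveI : (R.subgroupOf N).Normal := Subgroup.normal_in_normalizer
      refine IsPGroup.to_sup_of_normal_right ?_ hR.comap_subtype
      exact (P.isPGroup'.comap_subtype (K := N)).to_le (zpowers_le.mpr hy.1)
    have := T.is_maximal' hsup (hTR ▸ le_sup_right)
    have h1 : (⟨y, hy.2⟩ : N) ∈ (T : Subgroup N) := this ▸ Subgroup.mem_sup_left (mem_zpowers _)
    rw [← hTR] at h1
    exact h1
  exact hbig.not_ge (hmax ⟨T.isPGroup'.map _, by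
    rintro _ ⟨x, hx, rfl⟩
    exact ⟨γ x, hTinv x hx, rfl⟩, hQR.trans hbig.le⟩ hbig.le)

/-- **The group of odd order.** -/
theorem odd_three {Y : Type u} [Group Y] [Finite Y] (hodd : Odd (Nat.card Y)) (α : Y ≃* Y)
    (hα : Function.Involutive α) {d : Y} (hd : orderOf d = 3) (hαd : α d = d)
    (hfix : ∀ y, α y = y → y ∈ zpowers d) (hC : Nat.card (centralizer ({d} : Set Y)) = 9) {Q : Subgroup Y}
    (hQ : IsPGroup 3 Q) (hQb : ∀ x ∈ Q, α x ∈ Q) (hQ27 : 27 ≤ Nat.card Q) (hCQ : centralizer ({d} : Set Y) ≤ Q) :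
    ∃ (P : Sylow 3 Y) (A : Subgroup Y), A ≤ (P : Subgroup Y) ∧ Q ≤ (P : Subgroup Y) ∧
      (∀ x ∈ (P : Subgroup Y), α x ∈ (P : Subgroup Y)) ∧ (∀ a ∈ A, α a = a⁻¹) ∧
      (∀ a ∈ A, ∀ b ∈ A, a * b = b * a) ∧ d ∉ A ∧ (∀ x ∈ (P : Subgroup Y), ∃ i : ℕ, x * (d ^ i)⁻¹ ∈ A) ∧
      ∀ x ∈ (P : Subgroup Y), ∀ g : Y, g * x * g⁻¹ ∈ (P : Subgroup Y) → g * x * g⁻¹ * x⁻¹ ∈ A := by
  haveI : Fact (Nat.Prime 3) := ⟨Nat.prime_three⟩
  obtain ⟨P, hQP, hPb⟩ := exists_invariant_sylow_ge hodd α hα hQ hQb
  have hdP : d ∈ (P : Subgroup Y) := hQP (hCQ (Subgroup.mem_centralizer_singleton_iff.mpr rfl))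
  set dP : (P : Subgroup Y) := ⟨d, hdP⟩ with hdP'
  obtain ⟨A, hAinv, hAcomm, hdA, hdec, hDA, hAb, hidx⟩ := three_group P.isPGroup' (resInv α hα P hPb)
    (resInv_involutive α hα P hPb) (d := dP) (by rw [Subgroup.orderOf_mk]; exact hd) (Subtype.ext hαd)
    (fun y hy => by
      obtain ⟨i, hi⟩ := eq_pow_of_fixed α hfix (congrArg Subtype.val hy : α y = y)
      rw [show y = dP ^ i from Subtype.ext (by rw [Subgroup.coe_pow]; exact hi.symm)]
      exact Subgroup.npow_mem_zpowers dP i)
    (by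
      rw [← hC]
      refine Nat.card_congr
        { toFun := fun c => ⟨c.1.1, Subgroup.mem_centralizer_singleton_iff.mpr
            (congrArg Subtype.val (Subgroup.mem_centralizer_singleton_iff.mp c.2))⟩
          invFun := fun c => ⟨⟨c.1, hQP (hCQ c.2)⟩, Subgroup.mem_centralizer_singleton_iff.mpr
            (Subtype.ext (Subgroup.mem_centralizer_singleton_iff.mp c.2))⟩
          left_inv := fun _ => rfl
          right_inv := fun _ => rfl })
    (hQ27.trans (Subgroup.card_le_of_le hQP))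
  refine ⟨P, A.map (P : Subgroup Y).subtype, Subgroup.map_subtype_le _, hQP, hPb, ?_, ?_, ?_, ?_, ?_⟩
  · rintro _ ⟨a, ha, rfl⟩
    exact congrArg Subtype.val (hAinv a ha)
  · rintro _ ⟨a, ha, rfl⟩ _ ⟨b, hb, rfl⟩
    exact congrArg Subtype.val (hAcomm a ha b hb)
  · rintro ⟨a, ha, e⟩
    exact hdA ((Subtype.ext e : a = dP) ▸ ha)
  · intro x hx
    obtain ⟨i, hi⟩ := hdec ⟨x, hx⟩
    exact ⟨i, _, hi, by simp [hdP']⟩
  -- the quotient by the core has normal Sylow subgroup
  haveI hsolv : Group.IsSolvable Y := CfsgLib.HallE8.isSolvable_of_odd (by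
    rwa [← even_iff_two_dvd, Nat.not_even_iff_odd])
  set K := pPrimeCore 3 Y with hKdef
  have hKb : ∀ x ∈ K, α x ∈ K := fun x hx => by
    have h := Subgroup.characteristic_iff_map_eq.mp (inferInstance : (pPrimeCore 3 Y).Characteristic) α
    exact h.le (Subgroup.mem_map_of_mem α.toMonoidHom hx)
  haveI hKn : K.Normal := inferInstanceAs (pPrimeCore 3 Y).Normal
  set π := QuotientGroup.mk' K with hπdef
  have hπ : Function.Surjective π := QuotientGroup.mk'_surjective _
  let αb : Y ⧸ K →* Y ⧸ K := QuotientGroup.map K K α.toMonoidHom fun x hx => hKb x hx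
  have hαb : ∀ y, αb (π y) = π (α y) := fun y => rfl
  have hαb2 : Function.Involutive αb := fun y => by
    obtain ⟨y, rfl⟩ := hπ y
    rw [hαb, hαb, hα]
  let α' : (Y ⧸ K) ≃* (Y ⧸ K) :=
    { toFun := αb, invFun := αb, left_inv := hαb2, right_inv := hαb2, map_mul' := map_mul αb }
  have hfix' : ∀ y, α' y = y → y ∈ zpowers (π d) := by
    intro y hy
    obtain ⟨y, rfl⟩ := hπ y
    obtain ⟨w, hw, hwf⟩ := exists_fixed_in_coset α hα (hodd.of_dvd_nat K.card_subgroup_dvd_card) hKb (y := y)
      (QuotientGroup.eq.mp (hy.symm : π y = π (α y)))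
    obtain ⟨i, rfl⟩ := eq_pow_of_fixed α hfix hwf
    rw [show π y = π (d ^ i) from QuotientGroup.eq.mpr hw, map_pow]
    exact Subgroup.npow_mem_zpowers _ i
  set R := pCore 3 (Y ⧸ K) with hRdef
  have hRb : ∀ x ∈ R, α' x ∈ R := fun x hx => by
    have h := Subgroup.characteristic_iff_map_eq.mp (inferInstance : (pCore 3 (Y ⧸ K)).Characteristic) α'
    exact h.le (Subgroup.mem_map_of_mem α'.toMonoidHom hx)
  haveI hRn : R.Normal := CfsgLib.Blocks.pCore_normal'
  have hRp : IsPGroup 3 R := (CfsgLib.sSup_prop_of_closed_sup (fun N : Subgroup (Y ⧸ K) => N.Normal ∧ IsPGroup 3 N)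
    ⟨inferInstance, IsPGroup.of_bot⟩ (fun _ _ => CfsgLib.pCore_mem_sup 3) (fun _ h => h)).2
  haveI hsq : Group.IsSolvable (Y ⧸ K) := Group.isSolvable_of_surjective hπ
  have hcent : centralizer (R : Set (Y ⧸ K)) ≤ R :=
    CfsgLib.Blocks.hall_higman (CfsgLib.PLocal.isPSolvable_of_isSolvable _ _ rfl hsq)
      (CfsgLib.pPrimeCore_quotient_eq_bot 3)
  have hodd' : ∀ L : Subgroup (Y ⧸ K), Odd (Nat.card L) := fun L =>
    (hodd.of_dvd_nat (Subgroup.card_quotient_dvd_card K)).of_dvd_nat L.card_subgroup_dvd_card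
  -- the image of the fixed element lies in the core
  have hdR : π d ∈ R := by
    by_contra hdR
    let γ := resInv α' hαb2 R hRb
    have hfpf : MonoidHom.FixedPointFree γ := by
      intro a ha
      have hmem := hfix' a (congrArg Subtype.val ha)
      by_contra h1
      refine hdR ((zpowers_le.mpr a.2) ?_)
      have hle : zpowers (a : Y ⧸ K) ≤ zpowers (π d) := zpowers_le.mpr hmem
      have h3 : Nat.card (zpowers (π d)) ∣ 3 := by
        rw [Nat.card_zpowers]; exact (orderOf_map_dvd π d).trans (dvd_of_eq hd)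
      have heq := Subgroup.eq_of_le_of_card_ge hle (by
        rcases (Nat.dvd_prime Nat.prime_three).mp ((Subgroup.card_dvd_of_le hle).trans h3) with h | h
        · rw [Nat.card_zpowers, orderOf_eq_one_iff] at h
          exact absurd (Subtype.ext h) h1
        · rw [h]; exact Nat.le_of_dvd (by norm_num) h3)
      exact heq.symm ▸ mem_zpowers (π d)
    have hinvR : ∀ r ∈ R, α' r = r⁻¹ := fun r hr =>
      congrArg Subtype.val (congrFun (hfpf.coe_eq_inv_of_involutive (resInv_involutive α' hαb2 R hRb)) ⟨r, hr⟩)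
    have htop : ∀ y : Y ⧸ K, ∃ i : ℕ, y⁻¹ * (π d) ^ i ∈ R := by
      intro y
      have hmem : y⁻¹ * α' y ∈ R := hcent (Subgroup.mem_centralizer_iff.mpr fun r hr => by
        have hr' := hinvR _ (hRn.conj_mem r hr y)
        rw [map_mul, map_mul, map_inv, hinvR r hr] at hr'
        have e : α' y * r⁻¹ * (α' y)⁻¹ = y * r⁻¹ * y⁻¹ := hr'.trans (by group)
        have e' : α' y * r * (α' y)⁻¹ = y * r * y⁻¹ := by
          have := congrArg (·⁻¹) e
          simpa [mul_assoc] using this
        calc r * (y⁻¹ * α' y) = y⁻¹ * (y * r * y⁻¹) * α' y := by group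
          _ = y⁻¹ * (α' y * r * (α' y)⁻¹) * α' y := by rw [e']
          _ = _ := by group)
      obtain ⟨w, hw, hwf⟩ := exists_fixed_in_coset α' hαb2 (hodd' R) hRb hmem
      obtain ⟨i, rfl⟩ := eq_pow_of_fixed α' hfix' hwf
      exact ⟨i, hw⟩
    have hp : IsPGroup 3 (Y ⧸ K) := fun y => by
      obtain ⟨i, hi⟩ := htop y
      have h1 : IsPGroup 3 ↥(zpowers (π d) ⊔ R) := by
        refine IsPGroup.to_sup_of_normal_right (IsPGroup.of_card_dvd_pow (n := 1) ?_) hRp
        rw [pow_one, Nat.card_zpowers]; exact (orderOf_map_dvd π d).trans (dvd_of_eq hd)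
      have hy : y ∈ zpowers (π d) ⊔ R := by
        rw [show y = (π d) ^ i * (y⁻¹ * (π d) ^ i)⁻¹ by group]
        exact mul_mem (Subgroup.mem_sup_left (Subgroup.npow_mem_zpowers _ i)) (Subgroup.mem_sup_right (inv_mem hi))
      obtain ⟨k, hk⟩ := h1 ⟨y, hy⟩
      exact ⟨k, congrArg Subtype.val hk⟩
    exact hdR ((CfsgLib.le_pCore (N := ⊤) (hp.to_subgroup ⊤)) (Subgroup.mem_top _))
  -- so the image of the Sylow subgroup is normal
  set Pb := P.mapSurjective hπ
  have hRPb : R ≤ (Pb : Subgroup (Y ⧸ K)) := hRp.le_sylow_of_normal Pb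
  have hPn : (Pb : Subgroup (Y ⧸ K)).Normal := by
    have hcomm : ∀ a b : Y ⧸ K, a⁻¹ * b⁻¹ * a * b ∈ R := by
      have hq : ∀ y : Y ⧸ K, y⁻¹ * α' y ∈ R → y ∈ R := by
        intro y hy
        obtain ⟨w, hw, hwf⟩ := exists_fixed_in_coset α' hαb2 (hodd' R) hRb hy
        obtain ⟨i, rfl⟩ := eq_pow_of_fixed α' hfix' hwf
        have := mul_mem (pow_mem hdR i) (inv_mem hw)
        simpa using this
      let δ : (Y ⧸ K) ⧸ R →* (Y ⧸ K) ⧸ R := QuotientGroup.map R R α'.toMonoidHom fun x hx => hRb x hx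
      have hδ : Function.Involutive δ := fun y => by
        induction y using QuotientGroup.induction_on with | _ y => ?_
        exact congrArg QuotientGroup.mk (hαb2 y)
      have hfpf : MonoidHom.FixedPointFree δ := by
        intro y
        induction y using QuotientGroup.induction_on with | _ y => ?_
        intro h
        exact (QuotientGroup.eq_one_iff y).mpr (hq y (QuotientGroup.eq.mp h.symm))
      intro a b
      have h := (hfpf.commute_all_of_involutive hδ (a : (Y ⧸ K) ⧸ R) (b : (Y ⧸ K) ⧸ R)).eq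
      rw [← QuotientGroup.mk_mul, ← QuotientGroup.mk_mul, QuotientGroup.eq] at h
      have := hRn.conj_mem _ (inv_mem h) 1
      simpa [mul_assoc] using this
    refine ⟨fun x hx g => ?_⟩
    have h := hRPb (hcomm x⁻¹ g⁻¹)
    have := mul_mem (inv_mem h) hx
    simpa [mul_assoc] using this
  intro x hx g hgx
  -- reduce to the normaliser
  have hMn : (K ⊔ (P : Subgroup Y)).Normal := by
    have : K ⊔ (P : Subgroup Y) = (Pb : Subgroup (Y ⧸ K)).comap π := by
      rw [show (Pb : Subgroup (Y ⧸ K)) = (P : Subgroup Y).map π from rfl, Subgroup.comap_map_eq, hπdef,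
        QuotientGroup.ker_mk', sup_comm]
    rw [this]
    exact hPn.comap π
  haveI := hMn
  have hfr := Sylow.normalizer_sup_eq_top (P.subtype (le_sup_right : (P : Subgroup Y) ≤ K ⊔ (P : Subgroup Y)))
  rw [Sylow.coe_subtype, Subgroup.subgroupOf_map_subtype, inf_of_le_left (le_sup_right : (P : Subgroup Y) ≤ _),
    ← sup_assoc, sup_comm (normalizer ((P : Subgroup Y) : Set Y)) K, sup_assoc,
    sup_of_le_left (Subgroup.le_normalizer (H := (P : Subgroup Y)))] at hfr
  obtain ⟨k, hk, n, hn, rfl⟩ := Subgroup.mem_sup_of_normal_left.mp (hfr.symm ▸ Subgroup.mem_top g)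
  have hnx : n * x * n⁻¹ ∈ (P : Subgroup Y) := (Subgroup.mem_normalizer_iff.mp hn x).mp hx
  have heq : k * n * x * (k * n)⁻¹ = n * x * n⁻¹ := by
    have h1 : k * n * x * (k * n)⁻¹ * (n * x * n⁻¹)⁻¹ ∈ K := by
      rw [show k * n * x * (k * n)⁻¹ * (n * x * n⁻¹)⁻¹ = k * ((n * x * n⁻¹) * k⁻¹ * (n * x * n⁻¹)⁻¹) by group]
      exact mul_mem hk (hKn.conj_mem _ (inv_mem hk) _)
    have h2 := mul_mem hgx (inv_mem hnx)
    refine mul_inv_eq_one.mp (orderOf_eq_one_iff.mp ?_)
    obtain ⟨j, hj⟩ := IsPGroup.iff_card.mp P.isPGroup'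
    refine Nat.eq_one_of_dvd_coprimes ((CfsgLib.card_pPrimeCore_coprime 3 (G := Y)).pow_right j)
      (Subgroup.orderOf_dvd_natCard _ h1) (hj ▸ Subgroup.orderOf_dvd_natCard _ h2)
  rw [heq]
  -- the normaliser acts trivially on the Sylow subgroup modulo its derived subgroup
  set φn : (P : Subgroup Y) ≃* (P : Subgroup Y) := (P : Subgroup Y).normalizerMonoidHom ⟨n, hn⟩
  haveI : (commutator (P : Subgroup Y)).Characteristic := inferInstance
  let act : ↥(normalizer ((P : Subgroup Y) : Set Y)) →* MulAut (Abelianization (P : Subgroup Y)) :=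
    { toFun := fun m => MulEquiv.abelianizationCongr ((P : Subgroup Y).normalizerMonoidHom m)
      map_one' := by
        ext v
        induction v using QuotientGroup.induction_on with | _ v => ?_
        show Abelianization.of ((P : Subgroup Y).normalizerMonoidHom 1 v) = Abelianization.of v
        rw [map_one]; rfl
      map_mul' := fun a b => by
        ext v
        induction v using QuotientGroup.induction_on with | _ v => ?_
        show Abelianization.of ((P : Subgroup Y).normalizerMonoidHom (a * b) v) =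
          Abelianization.of ((P : Subgroup Y).normalizerMonoidHom a ((P : Subgroup Y).normalizerMonoidHom b v))
        rw [map_mul]; rfl }
  have hcard : Nat.card (Abelianization (P : Subgroup Y)) = 9 := by
    rw [← hidx, Subgroup.index_eq_card]
    rfl
  obtain ⟨j, b, hb, hjb⟩ := Nat.exists_eq_pow_mul_and_not_dvd
    (orderOf_pos (⟨n, hn⟩ : ↥(normalizer ((P : Subgroup Y) : Set Y)))).ne' 3 (by norm_num)
  have hnb : (⟨n, hn⟩ : ↥(normalizer ((P : Subgroup Y) : Set Y))) ^ b ∈
      (P : Subgroup Y).subgroupOf (normalizer ((P : Subgroup Y) : Set Y)) := by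
    haveI : ((P : Subgroup Y).subgroupOf (normalizer ((P : Subgroup Y) : Set Y))).Normal :=
      Subgroup.normal_in_normalizer
    set PN := P.subtype (Subgroup.le_normalizer (H := (P : Subgroup Y)))
    have hp : IsPGroup 3 ↥(zpowers ((⟨n, hn⟩ : ↥(normalizer ((P : Subgroup Y) : Set Y))) ^ b)) :=
      IsPGroup.of_card_dvd_pow (n := j) (by
        rw [Nat.card_zpowers]
        refine orderOf_dvd_of_pow_eq_one ?_
        rw [← pow_mul, mul_comm, ← hjb, pow_orderOf_eq_one])
    haveI : (PN : Subgroup ↥(normalizer ((P : Subgroup Y) : Set Y))).Normal := by rw [Sylow.coe_subtype]; exact Subgroup.normal_in_normalizer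
    have := PN.is_maximal' (IsPGroup.to_sup_of_normal_right hp PN.isPGroup') le_sup_right
    have h1 : (⟨n, hn⟩ : ↥(normalizer ((P : Subgroup Y) : Set Y))) ^ b ∈ (PN : Subgroup _) :=
      this ▸ Subgroup.mem_sup_left (mem_zpowers _)
    exact h1
  have htriv : act ⟨n, hn⟩ ^ b = 1 := by
    rw [← map_pow]
    ext v
    induction v using QuotientGroup.induction_on with | _ v => ?_
    show Abelianization.of ((P : Subgroup Y).normalizerMonoidHom _ v) = Abelianization.of v
    set m : (P : Subgroup Y) := ⟨_, hnb⟩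
    rw [show (P : Subgroup Y).normalizerMonoidHom _ v = m * v * m⁻¹ from Subtype.ext rfl, map_mul, map_mul,
      mul_comm (Abelianization.of m), mul_assoc, ← map_mul, mul_inv_cancel, map_one, mul_one]
  have h6 : b.Coprime 6 := by
    have hodd_b : Odd b := by
      have h := (hodd.of_dvd_nat (normalizer ((P : Subgroup Y) : Set Y)).card_subgroup_dvd_card).of_dvd_nat
        (orderOf_dvd_natCard (⟨n, hn⟩ : ↥(normalizer ((P : Subgroup Y) : Set Y))))
      rw [hjb] at h
      exact (Nat.odd_mul.mp h).2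
    exact Nat.Coprime.mul_right (show b.Coprime 2 from Nat.coprime_two_right.mpr hodd_b)
      ((Nat.prime_three.coprime_iff_not_dvd.mpr hb).symm)
  have hid := fix_of_nine hcard _ htriv h6
  have hof : Abelianization.of ((P : Subgroup Y).normalizerMonoidHom ⟨n, hn⟩ ⟨x, hx⟩) = Abelianization.of ⟨x, hx⟩ := by
    have := congrArg (fun γ : MulAut _ => γ (Abelianization.of (⟨x, hx⟩ : (P : Subgroup Y)))) hid
    exact this
  have hmem : (⟨n * x * n⁻¹, hnx⟩ : (P : Subgroup Y)) * ⟨x, hx⟩⁻¹ ∈ A := by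
    refine hDA ?_
    rw [← Abelianization.ker_of, MonoidHom.mem_ker, map_mul, map_inv, mul_inv_eq_one]
    exact hof
  exact ⟨_, hmem, rfl⟩

end CfsgLib.L34Sylow
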