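import Cfsg.Agent.Lib.L34Sylow.Coord

/-!
The action of the normaliser of the Sylow subgroup.

Blueprint: `blueprint/S3198.md`, section 0.
-/

set_option autoImplicit false
set_option linter.unusedSectionVars false

namespace CfsgLib.L34Sylow

open Subgroup Cfsg

variable {G : Type*} [Group G] {F : Type*} [Field F]

namespace Base

variable (B : Base G F)

/-- The action of `n` has multipliers `l` and `m`. -/
def Acts (n : G) (l m : F) : Prop :=
  l ≠ 0 ∧ m ≠ 0 ∧ ∀ u : U F, ∃ v : U F, n * B.pt u * n⁻¹ = B.pt v ∧ v.a = l * u.a ∧ v.b = m * u.b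

/-- The automorphism of the coordinates induced by an element of the normaliser. -/
def conjU (n : G) (hn : n ∈ normalizer ((B.S : Subgroup G) : Set G)) : U F ≃* U F :=
  (B.e.trans (
    { toFun := fun x => ⟨n * x * n⁻¹, (Subgroup.mem_normalizer_iff.mp hn _).mp x.2⟩
      invFun := fun x => ⟨n⁻¹ * x * n, (Subgroup.mem_normalizer_iff''.mp hn _).mp x.2⟩
      left_inv := fun x => Subtype.ext (by simp [mul_assoc])
      right_inv := fun x => Subtype.ext (by simp [mul_assoc])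
      map_mul' := fun x y => Subtype.ext (by simp [mul_assoc]) } : (B.S : Subgroup G) ≃* (B.S : Subgroup G))).trans B.e.symm

theorem pt_conjU (n : G) (hn : n ∈ normalizer ((B.S : Subgroup G) : Set G)) (u : U F) :
    B.pt (B.conjU n hn u) = n * B.pt u * n⁻¹ := by
  simp [conjU, pt]

theorem acts_of_lin {n : G} (hn : n ∈ normalizer ((B.S : Subgroup G) : Set G)) {l m : F} (hl : l ≠ 0) (hm : m ≠ 0)
    (h : U.Lin (B.conjU n hn) l m) : B.Acts n l m :=
  ⟨hl, hm, fun u => ⟨B.conjU n hn u, (B.pt_conjU n hn u).symm, h u⟩⟩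

theorem acts_one : B.Acts 1 1 1 :=
  ⟨one_ne_zero, one_ne_zero, fun u => ⟨u, by simp, by simp, by simp⟩⟩

theorem acts_mem {s : G} (hs : s ∈ (B.S : Subgroup G)) : B.Acts s 1 1 := by
  obtain ⟨w, rfl⟩ := B.exists_pt hs
  refine ⟨one_ne_zero, one_ne_zero, fun u => ⟨w * u * w⁻¹, by simp, by simp, by simp⟩⟩

theorem acts_mul {n n' : G} {l m l' m' : F} (h : B.Acts n l m) (h' : B.Acts n' l' m') :
    B.Acts (n * n') (l * l') (m * m') := by
  refine ⟨mul_ne_zero h.1 h'.1, mul_ne_zero h.2.1 h'.2.1, fun u => ?_⟩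
  obtain ⟨v, hv, hva, hvb⟩ := h'.2.2 u
  obtain ⟨w, hw, hwa, hwb⟩ := h.2.2 v
  refine ⟨w, ?_, by rw [hwa, hva, mul_assoc], by rw [hwb, hvb, mul_assoc]⟩
  rw [← hw, ← hv]
  group

theorem acts_pow {n : G} {l m : F} (h : B.Acts n l m) : ∀ k : ℕ, B.Acts (n ^ k) (l ^ k) (m ^ k)
  | 0 => by simpa using B.acts_one
  | k + 1 => by
    rw [pow_succ, pow_succ, pow_succ]
    exact B.acts_mul (acts_pow h k) h

theorem acts_inv {n : G} (hn : n ∈ normalizer ((B.S : Subgroup G) : Set G)) {l m : F} (h : B.Acts n l m) :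
    B.Acts n⁻¹ l⁻¹ m⁻¹ := by
  refine ⟨inv_ne_zero h.1, inv_ne_zero h.2.1, fun u => ?_⟩
  obtain ⟨w, hw⟩ : ∃ w, B.pt w = n⁻¹ * B.pt u * n⁻¹⁻¹ :=
    B.exists_pt ((Subgroup.mem_normalizer_iff.mp (inv_mem hn) _).mp (B.pt_mem u))
  obtain ⟨v, hv, ha, hb⟩ := h.2.2 w
  have hvu : v = u := B.pt_injective (by rw [← hv, hw]; group)
  subst hvu
  exact ⟨w, hw.symm, by rw [ha, inv_mul_cancel_left₀ h.1], by rw [hb, inv_mul_cancel_left₀ h.2.1]⟩

theorem acts_unique {n : G} {l m l' m' : F} (h : B.Acts n l m) (h' : B.Acts n l' m') : l = l' ∧ m = m' := by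
  constructor
  · obtain ⟨v, hv, ha, -⟩ := h.2.2 ⟨1, 0, 0⟩
    obtain ⟨v', hv', ha', -⟩ := h'.2.2 ⟨1, 0, 0⟩
    rw [B.pt_injective (hv.symm.trans hv'), ha'] at ha
    simpa using ha.symm
  · obtain ⟨v, hv, -, hb⟩ := h.2.2 ⟨0, 1, 0⟩
    obtain ⟨v', hv', -, hb'⟩ := h'.2.2 ⟨0, 1, 0⟩
    rw [B.pt_injective (hv.symm.trans hv'), hb'] at hb
    simpa using hb.symm

theorem Acts.conj_E₁ {n : G} {l m : F} (h : B.Acts n l m) {x : G} (hx : x ∈ B.E₁) : n * x * n⁻¹ ∈ B.E₁ := by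
  obtain ⟨u, hu, rfl⟩ := hx
  obtain ⟨v, hv, -, hb⟩ := h.2.2 u
  rw [hv]
  exact B.pt_mem_E₁.mpr (by rw [hb, hu, mul_zero])

theorem Acts.conj_E₂ {n : G} {l m : F} (h : B.Acts n l m) {x : G} (hx : x ∈ B.E₂) : n * x * n⁻¹ ∈ B.E₂ := by
  obtain ⟨u, hu, rfl⟩ := hx
  obtain ⟨v, hv, ha, -⟩ := h.2.2 u
  rw [hv]
  exact B.pt_mem_E₂.mpr (by rw [ha, hu, mul_zero])

/-- The action on the centre. -/
theorem Acts.conj_Z {n : G} (hn : n ∈ normalizer ((B.S : Subgroup G) : Set G)) {l m : F} (h : B.Acts n l m) (c : F) :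
    n * B.pt ⟨0, 0, c⟩ * n⁻¹ = B.pt ⟨0, 0, l * m * c⟩ := by
  have hlin : U.Lin (B.conjU n hn) l m := fun u => by
    obtain ⟨v, hv, ha, hb⟩ := h.2.2 u
    rw [show B.conjU n hn u = v from B.pt_injective (by rw [B.pt_conjU]; exact hv)]
    exact ⟨ha, hb⟩
  rw [← B.pt_conjU n hn]
  congr 1
  have h1 := U.lin_center hlin (two_eq_zero B.hF) (z := (⟨0, 0, c⟩ : U F)) rfl rfl
  have h2 := hlin ⟨0, 0, c⟩
  ext
  · simpa using h2.1
  · simpa using h2.2
  · simpa using h1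

/-- The action on the first piece with the coordinates exchanged. -/
theorem Acts.swap {n : G} {l m : F} (h : B.Acts n l m) : B.swap.Acts n m l := by
  refine ⟨h.2.1, h.1, fun u => ?_⟩
  obtain ⟨v, hv, ha, hb⟩ := h.2.2 (U.flip B.hF u)
  refine ⟨(U.flip B.hF).symm v, ?_, ?_, ?_⟩
  · rw [swap_pt, swap_pt, MulEquiv.apply_symm_apply, hv]
  · show v.b = m * u.a
    rw [hb]; rfl
  · show v.a = l * u.b
    rw [ha]; rfl

variable [Finite G]

theorem two_fact : Fact (Nat.Prime 2) := ⟨Nat.prime_two⟩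

/-- An odd power of an element of the normaliser lies in the Sylow subgroup. -/
theorem exists_odd_pow_mem {n : G} (hn : n ∈ normalizer ((B.S : Subgroup G) : Set G)) :
    ∃ j : ℕ, n ^ (2 * j + 1) ∈ (B.S : Subgroup G) := by
  haveI := two_fact
  set N := normalizer ((B.S : Subgroup G) : Set G)
  haveI : ((B.S : Subgroup G).subgroupOf N).Normal := Subgroup.normal_in_normalizer
  have h1 := Subgroup.pow_index_mem ((B.S : Subgroup G).subgroupOf N) ⟨n, hn⟩
  have h2 : ¬ 2 ∣ ((B.S : Subgroup G).subgroupOf N).index := by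
    have := (B.S.subtype (Subgroup.le_normalizer (H := (B.S : Subgroup G)))).not_dvd_index
    exact this
  obtain ⟨j, hj⟩ := Nat.odd_iff.mpr (Nat.two_dvd_ne_zero.mp h2)
  exact ⟨j, by rw [← hj]; exact Subgroup.mem_subgroupOf.mp h1⟩

theorem exists_acts_of_keeps {n : G} (hn : n ∈ normalizer ((B.S : Subgroup G) : Set G))
    (hk : U.Keeps (B.conjU n hn) ∧ U.Keeps' (B.conjU n hn)) : ∃ l m, B.Acts n l m := by
  obtain ⟨l, m, hl, hm, h | h⟩ := U.exists_semi B.hF hk.1 hk.2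
  · exact ⟨l, m, B.acts_of_lin hn hl hm h⟩
  · obtain ⟨j, hj⟩ := B.exists_odd_pow_mem hn
    have hnn : n * n ∈ normalizer ((B.S : Subgroup G) : Set G) := mul_mem hn hn
    have h2 : B.Acts (n * n) (l * l ^ 2) (m * m ^ 2) := by
      refine B.acts_of_lin hnn (mul_ne_zero hl (pow_ne_zero _ hl)) (mul_ne_zero hm (pow_ne_zero _ hm)) fun u => ?_
      have e : B.conjU (n * n) hnn u = B.conjU n hn (B.conjU n hn u) := B.pt_injective (by
        rw [B.pt_conjU, B.pt_conjU, B.pt_conjU]; group)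
      rw [e]
      exact U.semi_sq B.hF h u
    have h3 := B.acts_mul (B.acts_mem hj) (B.acts_inv (pow_mem hnn j) (B.acts_pow h2 j))
    rw [show n ^ (2 * j + 1) * ((n * n) ^ j)⁻¹ = n by
      rw [← pow_two, ← pow_mul, pow_succ, ← (Commute.pow_right (Commute.refl n) (2 * j)).eq, mul_inv_cancel_right]] at h3
    exact ⟨_, _, h3⟩

/-- **The action of the normaliser.** -/
theorem exists_acts {n : G} (hn : n ∈ normalizer ((B.S : Subgroup G) : Set G)) : ∃ l m, B.Acts n l m := by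
  have hnn : n * n ∈ normalizer ((B.S : Subgroup G) : Set G) := mul_mem hn hn
  have e2 : ∀ u, B.conjU (n * n) hnn u = B.conjU n hn (B.conjU n hn u) := fun u => B.pt_injective (by
    rw [B.pt_conjU, B.pt_conjU, B.pt_conjU]; group)
  obtain ⟨l, m, h2⟩ : ∃ l m, B.Acts (n * n) l m := B.exists_acts_of_keeps hnn (by
    rcases U.keeps_or B.hF (B.conjU n hn) with ⟨ha, hb⟩ | ⟨ha, hb⟩
    · exact ⟨fun u hu => by rw [e2]; exact ha _ (ha u hu), fun u hu => by rw [e2]; exact hb _ (hb u hu)⟩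
    · exact ⟨fun u hu => by rw [e2]; exact hb _ (ha u hu), fun u hu => by rw [e2]; exact ha _ (hb u hu)⟩)
  obtain ⟨j, hj⟩ := B.exists_odd_pow_mem hn
  have h3 := B.acts_mul (B.acts_mem hj) (B.acts_inv (pow_mem hnn j) (B.acts_pow h2 j))
  rw [show n ^ (2 * j + 1) * ((n * n) ^ j)⁻¹ = n by
    rw [← pow_two, ← pow_mul, pow_succ, ← (Commute.pow_right (Commute.refl n) (2 * j)).eq, mul_inv_cancel_right]] at h3
  exact ⟨_, _, h3⟩

theorem normalizer_S_le₁ : normalizer ((B.S : Subgroup G) : Set G) ≤ normalizer (B.E₁ : Set G) := fun n hn => by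
  obtain ⟨l, m, h⟩ := B.exists_acts hn
  obtain ⟨l', m', h'⟩ := B.exists_acts (inv_mem hn)
  refine Subgroup.mem_normalizer_iff.mpr fun x => ⟨fun hx => h.conj_E₁ B hx, fun hx => ?_⟩
  have := h'.conj_E₁ B hx
  simpa [mul_assoc] using this

theorem normalizer_S_le₂ : normalizer ((B.S : Subgroup G) : Set G) ≤ normalizer (B.E₂ : Set G) := by
  have := B.swap.normalizer_S_le₁
  rwa [swap_E₁, swap_S] at this

/-- The multipliers occurring in the normaliser. -/
def InH (l m : F) : Prop := ∃ n ∈ normalizer ((B.S : Subgroup G) : Set G), B.Acts n l m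

theorem inH_mul {l m l' m' : F} (h : B.InH l m) (h' : B.InH l' m') : B.InH (l * l') (m * m') := by
  obtain ⟨n, hn, hA⟩ := h
  obtain ⟨n', hn', hA'⟩ := h'
  exact ⟨n * n', mul_mem hn hn', B.acts_mul hA hA'⟩

theorem inH_swap {l m : F} : B.swap.InH m l ↔ B.InH l m := by
  constructor
  · rintro ⟨n, hn, hA⟩
    obtain ⟨l', m', hA'⟩ := B.exists_acts hn
    obtain ⟨h1, h2⟩ := B.swap.acts_unique hA (hA'.swap B)
    exact ⟨n, hn, h1 ▸ h2 ▸ hA'⟩
  · rintro ⟨n, hn, hA⟩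
    exact ⟨n, hn, hA.swap B⟩

end Base

end CfsgLib.L34Sylow
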