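import Cfsg.Agent.Lib.L34Sylow.CaseUnfused
import Cfsg.Agent.S1221

/-!
Both pieces fused: the cores of the centralisers of involutions are trivial.

Blueprint: `blueprint/S3198.md`, section 4 (b,b).
-/

set_option autoImplicit false
set_option linter.unusedSectionVars false
set_option linter.style.haveILetI false

namespace CfsgLib.L34Sylow

open Subgroup Cfsg

variable {G : Type*} [Group G] [Finite G] {F : Type*} [Field F]

namespace Base

variable (B : Base G F)

theorem transitive₂ (h : B.swap.Fused₁) {z : G} (hz : z ∈ B.Z) (hz1 : z ≠ 1) {e : G} (he : e ∈ B.E₂) (he1 : e ≠ 1) :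
    ∃ n ∈ normalizer (B.E₂ : Set G), n * z * n⁻¹ = e := by
  obtain ⟨n, hn, e'⟩ := B.swap.transitive₁ h (B.swap_Z.symm ▸ hz) hz1 (B.swap_E₁.symm ▸ he) he1
  exact ⟨n, B.swap_E₁ ▸ hn, e'⟩

/-- With both pieces fused every involution is conjugate to a given central one. -/
theorem isConj_of_fused (h1 : B.Fused₁) (h2 : B.swap.Fused₁) {z t : G} (hz : z ∈ B.Z) (hz1 : z ≠ 1)
    (ht : orderOf t = 2) : IsConj z t := by
  obtain ⟨m, -, hm⟩ := exists_conj_mem (S := B.S) (M := ⊤) le_top (Subgroup.mem_top t)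
    (Involutions.mul_self_eq_one_of_orderOf ht)
  have ho : orderOf (m * t * m⁻¹) = 2 := by rw [Involutions.orderOf_conj]; exact ht
  have h : IsConj z (m * t * m⁻¹) := by
    rcases B.mem_E_of_sq hm (Involutions.mul_self_eq_one_of_orderOf ho) with h | h
    · obtain ⟨n, -, e⟩ := B.transitive₁ h1 hz hz1 h (ne_one_of_orderOf ho)
      exact isConj_iff.mpr ⟨n, e⟩
    · obtain ⟨n, -, e⟩ := B.transitive₂ h2 hz hz1 h (ne_one_of_orderOf ho)
      exact isConj_iff.mpr ⟨n, e⟩
  exact h.trans (isConj_iff.mpr ⟨m, rfl⟩ : IsConj t (m * t * m⁻¹)).symm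

theorem Wf_E₂_eq (hb1 : Balanced B.E₁) (hb2 : Balanced B.E₂) : Wf B.E₂ = Wf B.E₁ := by
  have key : ∀ (A A' : Subgroup G), (∀ z ∈ B.Z, z ∈ A ∧ z ∈ A') → Balanced A' →
      (∀ t ∈ A', ∀ z ∈ B.Z, z * t = t * z) → Wf A' ≤ Wf A := by
    intro A A' hZ hb hc
    refine Wf_le fun t ht ht1 => ?_
    have hnd : ¬ 2 ∣ Nat.card (oddC t) := by
      rw [← even_iff_two_dvd, Nat.not_even_iff_odd]; exact odd_oddC t
    have hnorm : B.Z ≤ normalizer (oddC t : Set G) := fun z hz => mem_normalizer_of_forall fun r hr =>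
      oddC_normal (Subgroup.mem_centralizer_singleton_iff.mpr (hc t ht z hz)) hr
    rw [CfsgLib.Signalizer.gen_index (p := 2) B.ea_Z hnd hnorm]
    refine iSup_le fun C => ?_
    rintro r ⟨hr, hcr⟩
    have hC1 : (C : Subgroup G) ≠ ⊥ := fun e => by
      have := C.2.2
      rw [e, Subgroup.relIndex_bot_left, B.card_Z] at this
      omega
    obtain ⟨z, hz, hz1⟩ := (Subgroup.bot_or_exists_ne_one _).resolve_left hC1
    exact oddC_le_Wf (hZ z (C.2.1 hz)).1 hz1
      (hb t ht ht1 z (hZ z (C.2.1 hz)).2 hz1 r hr (Subgroup.mem_centralizer_iff.mp hcr z hz).symm)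
  exact le_antisymm
    (key B.E₁ B.E₂ (fun z hz => ⟨B.Z_le₁ hz, B.Z_le₂ hz⟩) hb2 fun t ht z hz => B.Z_comm hz (B.E₂_le ht))
    (key B.E₂ B.E₁ (fun z hz => ⟨B.Z_le₂ hz, B.Z_le₁ hz⟩) hb1 fun t ht z hz => B.Z_comm hz (B.E₁_le ht))

/-- **With both pieces fused the cores of the centralisers are trivial.** -/
theorem oddC_bot_of_fused (hO : oddCore G = ⊥) (h1 : B.Fused₁) (h2 : B.swap.Fused₁) {z : G} (hz : z ∈ B.Z)
    (hz1 : z ≠ 1) : oddC z = ⊥ := by
  haveI := two_fact
  have hg1 : ∀ t ∈ B.E₁, t ≠ 1 → Good B.E₁ t := fun t ht ht1 => B.good₁_fused h1 ht ht1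
  have hg2 : ∀ t ∈ B.E₂, t ≠ 1 → Good B.E₂ t := fun t ht ht1 => by
    rw [← swap_E₁] at ht ⊢
    exact B.swap.good₁_fused h2 ht ht1
  have hb1 := balanced_of_good B.ea_E₁ hg1
  set W := Wf B.E₁ with hWdef
  have hW : Odd (Nat.card W) := Wf_spec B.ea_E₁ (by rw [B.card_E₁]; norm_num) hb1
  have e2 : Wf B.E₂ = W := B.Wf_E₂_eq hb1 (balanced_of_good B.ea_E₂ hg2)
  set M := normalizer (W : Set G) with hM
  have hM1 : normalizer (B.E₁ : Set G) ≤ M := fun n hn => mem_normalizer_Wf hn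
  have hM2 : normalizer (B.E₂ : Set G) ≤ M := fun n hn => by
    have := mem_normalizer_Wf hn
    rwa [e2] at this
  have hC : centralizer ({z} : Set G) ≤ M := fun c hc => by
    obtain ⟨o, ho, n, hn, rfl⟩ := (hg1 z (B.Z_le₁ hz) hz1).1 c hc
    exact M.mul_mem (Subgroup.le_normalizer (oddC_le_Wf (B.Z_le₁ hz) hz1 ho)) (hM1 hn)
  have hMtop : M = ⊤ := by
    by_contra hne
    have htr : ∀ t ∈ (B.S : Subgroup G), orderOf t = 2 → ∃ n ∈ M, n * z * n⁻¹ = t := by
      intro t ht hto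
      rcases B.mem_E_of_sq ht (Involutions.mul_self_eq_one_of_orderOf hto) with h | h
      · obtain ⟨n, hn, e⟩ := B.transitive₁ h1 hz hz1 h (ne_one_of_orderOf hto)
        exact ⟨n, hM1 hn, e⟩
      · obtain ⟨n, hn, e⟩ := B.transitive₂ h2 hz hz1 h (ne_one_of_orderOf hto)
        exact ⟨n, hM2 hn, e⟩
    have hSM : (B.S : Subgroup G) ≤ M := fun s hs => hM1 (B.S_le_normalizer₁ hs)
    have hse := isStronglyEmbedded_of B.S hne (fun e => by
      have := B.card_S
      rw [e, Subgroup.card_bot] at this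
      omega) hSM (fun t ht hto g hg => by
        obtain ⟨n, hn, rfl⟩ := htr t ht hto
        obtain ⟨n', hn', e⟩ := htr _ hg (by rw [Involutions.orderOf_conj]; exact hto)
        have h : n'⁻¹ * g * n ∈ centralizer ({z} : Set G) := Subgroup.mem_centralizer_singleton_iff.mpr (by
          calc n'⁻¹ * g * n * z = n'⁻¹ * (g * (n * z * n⁻¹) * g⁻¹) * g * n := by group
            _ = n'⁻¹ * (n' * z * n'⁻¹) * g * n := by rw [e]
            _ = _ := by group)
        have := M.mul_mem (M.mul_mem hn' (hC h)) (M.inv_mem hn)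
        convert this using 1
        group)
    haveI : (W.subgroupOf M).Normal := Subgroup.normal_in_normalizer
    have hle : W ≤ (oddCore ↥M).map M.subtype := fun w hw =>
      ⟨⟨w, Subgroup.le_normalizer hw⟩, CfsgLib.le_oddCore (N := W.subgroupOf M) (by
        rw [Nat.card_congr (Subgroup.subgroupOfEquivOfLe (Subgroup.le_normalizer : W ≤ M)).toEquiv]; exact hW) hw, rfl⟩
    have hbot : W = ⊥ := le_bot_iff.mp ((hle.trans (Cfsg.Agent.S1221.result M hse)).trans hO.le)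
    exact hne (by rw [hM, hbot, Subgroup.normalizer_eq_top_iff]; infer_instance)
  haveI : W.Normal := Subgroup.normalizer_eq_top_iff.mp hMtop
  exact oddC_eq_bot_of_odd (oddC_le_Wf (B.Z_le₁ hz) hz1) (eq_bot_iff.mpr (hO ▸ CfsgLib.le_oddCore hW))

/-- The centraliser of a central involution normalises the Sylow subgroup. -/
theorem mem_normalizer_of_comm (hO : oddCore G = ⊥) (h1 : B.Fused₁) (h2 : B.swap.Fused₁) {z g : G} (hz : z ∈ B.Z)
    (hz1 : z ≠ 1) (hg : g * z = z * g) : g ∈ normalizer ((B.S : Subgroup G) : Set G) := by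
  obtain ⟨o, ho, n, hn, -, rfl⟩ := (B.cent_Z hz hz1).1 g (Subgroup.mem_centralizer_singleton_iff.mpr hg)
  rw [B.oddC_bot_of_fused hO h1 h2 hz hz1, Subgroup.mem_bot] at ho
  rwa [ho, one_mul]

/-- An element of the normaliser acting trivially lies in the Sylow subgroup. -/
theorem mem_S_of_acts_one (hO : oddCore G = ⊥) (h1 : B.Fused₁) (h2 : B.swap.Fused₁) {n : G}
    (hn : n ∈ normalizer ((B.S : Subgroup G) : Set G)) (hA : B.Acts n 1 1) : n ∈ (B.S : Subgroup G) := by
  haveI := two_fact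
  obtain ⟨z, hz, hz1⟩ := B.exists_Z_ne
  have hnz : n * z = z * n := by
    obtain ⟨c, rfl⟩ : ∃ c : F, B.pt ⟨0, 0, c⟩ = z := by
      obtain ⟨u, ha, hb, rfl⟩ := hz
      exact ⟨u.c, by rw [show u = ⟨0, 0, u.c⟩ from U.ext ha hb rfl]⟩
    refine mul_inv_eq_iff_eq_mul.mp ?_
    rw [hA.conj_Z B hn, one_mul, one_mul]
  obtain ⟨j, hj⟩ := B.exists_odd_pow_mem hn
  have hA64 : B.Acts (n ^ 64) 1 1 := by simpa using B.acts_pow hA 64
  have hodd : Odd (orderOf (n ^ 64)) := by
    refine (show Odd (2 * j + 1) from ⟨j, rfl⟩).of_dvd_nat (orderOf_dvd_of_pow_eq_one ?_)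
    rw [← pow_mul, mul_comm, pow_mul, ← B.card_S]
    exact congrArg Subtype.val (pow_card_eq_one' (x := (⟨_, hj⟩ : (B.S : Subgroup G))))
  have h64 : n ^ 64 = 1 := by
    have h := (B.cent_Z hz hz1).2 (n ^ 64) (Subgroup.pow_mem _ (Subgroup.mem_centralizer_singleton_iff.mpr hnz) _) hodd
      fun e he => by
        rw [B.centralizes_of_acts_one (Subgroup.pow_mem _ hn _) hA64 hodd (B.E₁_le he), mul_inv_cancel_right,
          mul_inv_cancel]
        exact one_mem _
    rw [B.oddC_bot_of_fused hO h1 h2 hz hz1, Subgroup.mem_bot] at h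
    exact h
  have hco : (2 * j + 1).Coprime (orderOf n) :=
    ((show Nat.Coprime 64 (2 * j + 1) from by
      rw [show (64 : ℕ) = 2 ^ 6 by norm_num]
      exact (Nat.coprime_two_left.mpr ⟨j, rfl⟩).pow_left 6).symm).coprime_dvd_right (orderOf_dvd_of_pow_eq_one h64)
  obtain ⟨k, hk⟩ := exists_pow_eq_self_of_coprime hco
  rw [← hk]
  exact pow_mem hj k

end Base

end CfsgLib.L34Sylow
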