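import Cfsg.Agent.Lib.L34Sylow.CountFull

/-!
Neither piece fused: the Sylow subgroup is normal.

Blueprint: `blueprint/S3198.md`, section 4 (a,a).
-/

set_option autoImplicit false
set_option linter.unusedSectionVars false

namespace CfsgLib.L34Sylow

open Subgroup Cfsg

namespace Base

variable {G : Type*} [Group G] [Finite G] {F : Type*} [Field F] (B : Base G F)

theorem not_fused_swap_swap (h1 : ¬ B.Fused₁) : ¬ B.swap.swap.Fused₁ := fun ⟨g, z, hz, h, h'⟩ => h1 ⟨g, z, by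
  rwa [swap_Z, swap_Z] at hz, by rwa [swap_E₁, swap_E₂] at h, by rwa [swap_Z, swap_Z] at h'⟩

/-- All multipliers are powers of one of them. -/
theorem forall_of_one {m₀ : F} (hm₀ : m₀ ≠ 0) (h₁ : m₀ ≠ 1) (hfix : B.InH 1 m₀) {m : F} (hm : m ≠ 0) :
    B.InH 1 m := by
  rcases cases_four B.hF hm₀ h₁ m with rfl | rfl | rfl | rfl
  · exact absurd rfl hm
  · exact ⟨1, one_mem _, B.acts_one⟩
  · exact hfix
  · have h := B.inH_mul hfix hfix
    rwa [one_mul, ← pow_two, quad B.hF hm₀ h₁] at h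

/-- **Without fusion of the pieces the Sylow subgroup is normal.** -/
theorem normal_S_of_unfused (hO : oddCore G = ⊥) (h1 : ¬ B.Fused₁) (h2 : ¬ B.swap.Fused₁) :
    (B.S : Subgroup G).Normal := by
  have h1' := B.not_fused_swap_swap h1
  have hy_of : (∀ y ∈ B.swap.E₁, y ∉ B.swap.Z → Good B.swap.E₁ y) → ∀ y ∈ B.E₂, y ∉ B.Z → Good B.E₂ y := by
    intro h y hy hyZ
    rw [← swap_E₁]
    exact h y (B.swap_E₁.symm ▸ hy) (B.swap_Z.symm ▸ hyZ)
  by_cases hA : ∀ m : F, B.InH 1 m → m = 1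
  · by_cases hB : ∀ l : F, B.InH l 1 → l = 1
    · exact B.normal_S_of_good hO h1 h2 (fun x hx hxZ => B.good₁_of_no_fix h1 hA hx hxZ)
        (hy_of fun y hy hyZ => B.swap.good₁_of_no_fix h2 (fun m hm => hB m (B.inH_swap.mp hm)) hy hyZ)
    · push Not at hB
      obtain ⟨l₀, hl₀, hne⟩ := hB
      exact B.swap.normal_S_of_one_fix hO h2 h1' hne (B.inH_swap.mpr hl₀)
        fun l hl => hA l (B.inH_swap.mp hl)
  · push Not at hA
    obtain ⟨m₀, hm₀, hne⟩ := hA
    by_cases hB : ∀ l : F, B.InH l 1 → l = 1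
    · exact B.normal_S_of_one_fix hO h1 h2 hne hm₀ hB
    · push Not at hB
      obtain ⟨l₀, hl₀, hne'⟩ := hB
      have hfull : B.Full := by
        intro l m hl hm
        obtain ⟨_, _, hA₁⟩ := id hm₀
        obtain ⟨_, _, hA₂⟩ := id hl₀
        have e1 := B.forall_of_one hA₁.2.1 hne hm₀ hm
        have e2 := B.inH_swap.mp (B.swap.forall_of_one hA₂.1 hne' (B.inH_swap.mpr hl₀) hl)
        have := B.inH_mul e2 e1
        rwa [mul_one, one_mul] at this
      exact B.normal_S_of_good hO h1 h2 (fun x hx hxZ => B.good₁_of_full h1 h2 hfull hx hxZ)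
        (hy_of fun y hy hyZ => B.swap.good₁_of_full h2 h1' hfull.swap hy hyZ)

end Base

end CfsgLib.L34Sylow
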