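import Cfsg.Agent.Lib.L34Sylow.Fusion
import Cfsg.Agent.Lib.Bender.Q.Main
import Cfsg.Agent.Lib.Bender.Q.General

/-!
The mixed case: only the second piece is fused, so it is strongly closed and normal.

Blueprint: `blueprint/S3198.md`, section 4 (b,a).
-/

set_option autoImplicit false
set_option linter.unusedSectionVars false
set_option linter.style.haveILetI false

namespace CfsgLib.L34Sylow

open Subgroup Cfsg
open CfsgLib.Bender.TwoClosed (IsInv)

universe u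

variable {G : Type u} [Group G] [Finite G] {F : Type*} [Field F]

namespace Base

variable (B : Base G F)

theorem mem_Z_of_mem_inf {x : G} (h1 : x ∈ B.E₁) (h2 : x ∈ B.E₂) : x ∈ B.Z := B.inf_eq ▸ ⟨h1, h2⟩

/-- A normal subgroup meeting the Sylow subgroup nontrivially meets the centre nontrivially. -/
theorem exists_Z_mem {N : Subgroup G} [N.Normal] {x : G} (hx : x ∈ N) (hxS : x ∈ (B.S : Subgroup G)) (hx1 : x ≠ 1) :
    ∃ z ∈ B.Z, z ∈ N ∧ z ≠ 1 := by
  obtain ⟨u, rfl⟩ := B.exists_pt hxS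
  by_cases hu : u.a = 0 ∧ u.b = 0
  · exact ⟨_, B.pt_mem_Z.mpr hu, hx, hx1⟩
  -- some commutator is nontrivial
  obtain ⟨v, hv⟩ : ∃ v : U F, u.a * v.b + v.a * u.b ≠ 0 := by
    by_cases ha : u.a = 0
    · exact ⟨⟨1, 0, 0⟩, by simpa [ha] using (not_and.mp hu ha)⟩
    · exact ⟨⟨0, 1, 0⟩, by simpa using ha⟩
  refine ⟨B.pt u * B.pt v * (B.pt u)⁻¹ * (B.pt v)⁻¹, B.comm_mem_Z (B.pt_mem u) (B.pt_mem v), ?_, ?_⟩
  · rw [show B.pt u * B.pt v * (B.pt u)⁻¹ * (B.pt v)⁻¹ = B.pt u * (B.pt v * (B.pt u)⁻¹ * (B.pt v)⁻¹) by group]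
    exact N.mul_mem hx ((inferInstance : N.Normal).conj_mem _ (N.inv_mem hx) _)
  · intro h
    rw [← map_inv, ← map_inv, ← map_mul, ← map_mul, ← map_mul, U.comm_eq B.hF, ← map_one B.pt] at h
    exact hv (congrArg U.c (B.pt_injective h))

/-- **The mixed case.** -/
theorem normal_E₂ (hO : oddCore G = ⊥) (h1 : ¬ B.Fused₁) (h2 : B.swap.Fused₁) : B.E₂.Normal := by
  haveI := two_fact
  obtain ⟨z₀, hz₀, hz₀1⟩ := B.exists_Z_ne
  have htrans : ∀ t ∈ B.E₂, t ≠ 1 → ∀ z ∈ B.Z, z ≠ 1 → ∃ n ∈ normalizer (B.E₂ : Set G), n * z * n⁻¹ = t := by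
    intro t ht ht1 z hz hz1
    obtain ⟨n, hn, e⟩ := B.swap.transitive₁ h2 (B.swap_Z.symm ▸ hz) hz1 (B.swap_E₁.symm ▸ ht) ht1
    exact ⟨n, B.swap_E₁ ▸ hn, e⟩
  have hgood : ∀ t ∈ B.E₂, t ≠ 1 → Good B.E₂ t := fun t ht ht1 => by
    rw [← swap_E₁] at ht ⊢
    exact B.swap.good₁_fused h2 ht ht1
  -- the second piece is strongly closed
  have hclosed : IsStronglyClosed B.E₂ (B.S : Subgroup G) := by
    refine ⟨B.E₂_le, fun t ht g hg => ?_⟩
    rcases eq_or_ne t 1 with rfl | ht1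
    · simp
    have hsq : g * t * g⁻¹ * (g * t * g⁻¹) = 1 := by
      rw [show g * t * g⁻¹ * (g * t * g⁻¹) = g * (t * t) * g⁻¹ by group, B.sq_E₂ ht]; group
    rcases B.mem_E_of_sq hg hsq with h | h
    · obtain ⟨n, -, hn⟩ := htrans t ht ht1 z₀ hz₀ hz₀1
      have e : g * t * g⁻¹ = g * n * z₀ * (g * n)⁻¹ := by rw [← hn]; group
      rw [e] at h ⊢
      exact B.Z_le₂ (B.not_fused_conj h1 hz₀ h)
    · exact h
  set W := Wf B.E₂
  have hW : Odd (Nat.card W) := Wf_spec B.ea_E₂ (by rw [B.card_E₂]; norm_num) (balanced_of_good B.ea_E₂ hgood)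
  have key : ∀ M : Subgroup G, normalizer (B.E₂ : Set G) ≤ M → (∀ t ∈ B.E₂, t ≠ 1 → oddC t ≤ M) → M = ⊤ := by
    intro M hNM hOM
    by_contra hM
    have hC : ∀ t ∈ B.E₂, t ≠ 1 → centralizer ({t} : Set G) ≤ M := fun t ht ht1 c hc => by
      obtain ⟨o, ho, m, hm, rfl⟩ := (hgood t ht ht1).1 c hc
      exact mul_mem (hOM t ht ht1 ho) (hNM hm)
    have hSM : (B.S : Subgroup G) ≤ M := B.S_le_normalizer₂.trans hNM
    have hzi : IsInv z₀ := ⟨hz₀1, B.sq_E₁ (B.Z_le₁ hz₀)⟩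
    have hcrit : CfsgLib.Bender.Q.Crit M (conjugatesOf z₀) :=
      CfsgLib.Bender.Q.crit_closed hM hclosed (fun g hg => hNM (B.normalizer_S_le₂ hg)) hSM
        (fun t ht hti => hC t ht hti.1) (B.Z_le₂ hz₀) hzi (fun s hs => (B.Z_comm hz₀ hs).symm)
    set L := Subgroup.closure (conjugatesOf z₀) with hL
    have hEL : B.E₂ ≤ L := fun t ht => by
      rcases eq_or_ne t 1 with rfl | ht1
      · exact one_mem _
      obtain ⟨n, -, hn⟩ := htrans t ht ht1 z₀ hz₀ hz₀1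
      exact Subgroup.subset_closure (isConj_iff.mpr ⟨n, hn⟩)
    have hse : IsStronglyEmbedded (M.subgroupOf L) := by
      refine CfsgLib.Bender.Q.stronglyEmbedded_closure CfsgLib.Bender.Q.theoremQ hcrit fun x _ hx hxN => ?_
      obtain ⟨m, -, hm⟩ := exists_conj_mem (M := M) hSM (M.normalCore_le hxN) hx.2
      obtain ⟨z, hz, hzN, hz1⟩ := B.exists_Z_mem (N := M.normalCore)
        (M.normalCore_normal.conj_mem x hxN m) hm (fun e => hx.1 (conj_eq_one_iff.mp e))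
      refine hM ((Subgroup.eq_top_iff' M).mpr fun g => ?_)
      obtain ⟨n, hn, hne⟩ := htrans z (B.Z_le₂ hz) hz1 z₀ hz₀ hz₀1
      have h := hcrit.fix z₀ (mem_conjugatesOf_self) (hSM (B.Z_le hz₀)) (g * n) (M.normalCore_le (by
        rw [show g * n * z₀ * (g * n)⁻¹ = g * (n * z₀ * n⁻¹) * g⁻¹ by group, hne]
        exact M.normalCore_normal.conj_mem z hzN g))
      have := mul_mem h (inv_mem (hNM hn))
      rwa [mul_inv_cancel_right] at this
    obtain ⟨u, hu, huM⟩ : ∃ u : L, orderOf u = 2 ∧ u ∉ M.subgroupOf L := by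
      by_contra hc
      push Not at hc
      refine hse.1 (Subgroup.subgroupOf_eq_top.mpr ((Subgroup.closure_le _).mpr fun y hy => ?_))
      have hyL : y ∈ L := Subgroup.subset_closure hy
      refine hc ⟨y, hyL⟩ ?_
      rw [Subgroup.orderOf_mk]
      obtain ⟨g, rfl⟩ := isConj_iff.mp hy
      rw [Involutions.orderOf_conj, orderOf_two_of_sq hzi.2 hz₀1]
    have hconj : ∀ a b : L, orderOf a = 2 → orderOf b = 2 → IsConj a b := by
      have hzL : (⟨z₀, hEL (B.Z_le₂ hz₀)⟩ : L) ∈ M.subgroupOf L := hSM (B.Z_le hz₀)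
      have ho : orderOf (⟨z₀, hEL (B.Z_le₂ hz₀)⟩ : L) = 2 := by
        rw [Subgroup.orderOf_mk, orderOf_two_of_sq hzi.2 hz₀1]
      exact (Cfsg.Agent.S1225.result _ hse u hu huM _ _ ho hzL ho hzL).2
    by_cases hx : ∃ x ∈ L, x ∈ B.E₁ ∧ x ∉ B.Z
    · obtain ⟨x, hxL, hxE, hxZ⟩ := hx
      obtain ⟨g, hg⟩ := isConj_iff.mp (hconj ⟨z₀, hEL (B.Z_le₂ hz₀)⟩ ⟨x, hxL⟩
        (by rw [Subgroup.orderOf_mk, orderOf_two_of_sq hzi.2 hz₀1])
        (by rw [Subgroup.orderOf_mk, orderOf_two_of_sq (B.sq_E₁ hxE) (fun e => hxZ (e ▸ one_mem _))]))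
      have hg' : (g : G) * z₀ * (g : G)⁻¹ = x := congrArg Subtype.val hg
      exact hxZ (hg' ▸ B.not_fused_conj h1 hz₀ (hg'.symm ▸ hxE))
    push Not at hx
    have hSL : ∀ s ∈ (B.S : Subgroup G), s ∈ L → s ∈ B.E₂ := by
      intro s hs hsL
      obtain ⟨u, rfl⟩ := B.exists_pt hs
      have h := hx (B.pt (u * ⟨0, u.b, 0⟩)) (by
        rw [map_mul]; exact mul_mem hsL (hEL (B.pt_mem_E₂.mpr rfl)))
        (B.pt_mem_E₁.mpr (by simp [add_self B.hF]))
      have := (B.pt_mem_Z.mp h).1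
      rw [U.mul_a, add_zero] at this
      exact B.pt_mem_E₂.mpr this
    -- the image of `N_L(E₂)` in the automorphisms of the piece
    set N := normalizer (B.E₂ : Set G) with hN
    let φ : N →* MulAut B.E₂ := B.E₂.normalizerMonoidHom
    set R := (L.subgroupOf N).map φ with hR
    set A := (B.E₁.subgroupOf N).map φ with hA
    haveI hLn : L.Normal := by
      refine ⟨fun x hx g => ?_⟩
      have h : L ≤ L.comap (MulAut.conj g).toMonoidHom := (Subgroup.closure_le _).mpr fun y hy =>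
        Subgroup.subset_closure (hcrit.conj y hy g)
      exact h hx
    have happ : ∀ (n : N) (e : B.E₂), ((φ n e : B.E₂) : G) = (n : G) * e * (n : G)⁻¹ := fun _ _ => rfl
    have hRodd : ¬ 2 ∣ Nat.card R := by
      intro hdvd
      obtain ⟨⟨r, hr⟩, hr2⟩ := exists_prime_orderOf_dvd_card' (G := R) 2 hdvd
      rw [Subgroup.orderOf_mk] at hr2
      obtain ⟨n, hn, rfl⟩ := hr
      -- a two-part of the preimage
      obtain ⟨v, hv, w, hw, hv2, hwodd, e⟩ := CfsgLib.U34Char.exists_parts n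
      have hvL : (v : G) ∈ L := (Subgroup.zpowers_le.mpr hn) hv
      have hwfix : φ w = 1 := by
        obtain ⟨k, hk⟩ := hw
        have hsq : (φ n) ^ 2 = 1 := by rw [← hr2, pow_orderOf_eq_one]
        have hw2 : (φ w) ^ 2 = 1 := by
          rw [← hk, map_zpow, ← zpow_natCast ((φ n) ^ k) 2, ← zpow_mul, mul_comm, zpow_mul, zpow_natCast, hsq, one_zpow]
        refine orderOf_eq_one_iff.mp (Nat.eq_one_of_dvd_coprimes (a := 2) (Nat.coprime_two_left.mpr hwodd)
          (orderOf_dvd_of_pow_eq_one hw2) (orderOf_map_dvd φ w))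
      obtain ⟨k, hk⟩ := hv2
      -- the two-part lies in `E₂`
      have hvE : (v : G) ∈ B.E₂ := by
        have hle : IsPGroup 2 ↥((zpowers v).map N.subtype) := (IsPGroup.of_card_dvd_pow (n := k) (by
          rw [Nat.card_zpowers]; exact dvd_of_eq hk)).map _
        have hjoin : IsPGroup 2 ↥((zpowers v).map N.subtype ⊔ B.E₂) :=
          IsPGroup.to_sup_of_normal_right' hle B.isPGroup_E₂ (Subgroup.map_subtype_le _)
        obtain ⟨j, hj⟩ := B.exists_cj_le hjoin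
        have e2 : cj (1 : G) B.swap.E₁ = cj j B.swap.E₁ := B.swap.cj_E₁_eq' (by
          rw [cj_one, swap_E₁, swap_S]; exact le_sup_right.trans hj)
        rw [cj_one, swap_E₁] at e2
        have hvj := mem_cj.mp (hj (Subgroup.mem_sup_left ⟨v, mem_zpowers v, rfl⟩))
        have h := hSL _ hvj (by
          have := hLn.conj_mem _ hvL j⁻¹
          rwa [inv_inv] at this)
        rw [e2]
        exact mem_cj.mpr h
      have hvfix : φ v = 1 := MulEquiv.ext fun x => Subtype.ext (by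
        rw [happ]
        show (v : G) * x * (v : G)⁻¹ = x
        rw [B.comm_E₂ hvE x.2, mul_inv_cancel_right])
      rw [e, map_mul, hvfix, hwfix, one_mul, orderOf_one] at hr2
      omega
    have hAea : IsElementaryAbelian 2 A := by
      refine ⟨⟨⟨?_⟩⟩, ?_⟩
      · rintro ⟨_, a, ha, rfl⟩ ⟨_, b, hb, rfl⟩
        refine Subtype.ext ?_
        show φ a * φ b = φ b * φ a
        rw [← map_mul, ← map_mul, show a * b = b * a from Subtype.ext (B.comm_E₁ ha hb)]
      · rintro _ ⟨a, ha, rfl⟩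
        rw [← map_pow, show a ^ 2 = 1 from Subtype.ext (by push_cast; rw [pow_two]; exact B.sq_E₁ ha), map_one]
    have hAR : A ≤ normalizer (R : Set (MulAut B.E₂)) := by
      rintro _ ⟨a, -, rfl⟩
      refine mem_normalizer_of_forall ?_
      rintro _ ⟨r, hr, rfl⟩
      exact ⟨a * r * a⁻¹, hLn.conj_mem _ hr _, by rw [map_mul, map_mul, map_inv]⟩
    have hgen := CfsgLib.Signalizer.gen_index (p := 2) hAea hRodd hAR
    let P : Subgroup N := (normalizer (B.Z : Set G)).subgroupOf N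
    have hRP : R ≤ P.map φ := by
      rw [hgen]
      refine iSup_le fun C => ?_
      rintro _ ⟨⟨r, hr, rfl⟩, hc⟩
      have hC1 : (C : Subgroup (MulAut B.E₂)) ≠ ⊥ := by
        intro e
        have hi := C.2.2
        rw [e, Subgroup.relIndex_bot_left] at hi
        have hinj : ∀ b b' : F, φ ⟨B.pt ⟨b, 0, 0⟩, B.S_le_normalizer₂ (B.pt_mem _)⟩ =
            φ ⟨B.pt ⟨b', 0, 0⟩, B.S_le_normalizer₂ (B.pt_mem _)⟩ → b = b' := by
          intro b b' h
          have h' := congrArg (fun f : MulAut B.E₂ => ((f ⟨B.pt ⟨0, 1, 0⟩, B.pt_mem_E₂.mpr rfl⟩ : B.E₂) : G)) h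
          simp only [happ] at h'
          rw [← map_inv, ← map_inv, ← map_mul, ← map_mul, ← map_mul, ← map_mul] at h'
          simpa using congrArg U.c (B.pt_injective h')
        have hcard : 4 ≤ Nat.card A := by
          have h := Nat.card_le_card_of_injective (fun b : F =>
            (⟨φ ⟨B.pt ⟨b, 0, 0⟩, B.S_le_normalizer₂ (B.pt_mem _)⟩, _, B.pt_mem_E₁.mpr rfl, rfl⟩ : A))
            fun b b' h => hinj b b' (Subtype.mk_eq_mk.mp h)
          rwa [B.hF] at h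
        omega
      obtain ⟨a, ha, ha1⟩ := (Subgroup.bot_or_exists_ne_one _).resolve_left hC1
      obtain ⟨t, ht, rfl⟩ := C.2.1 ha
      have hcomm := Subgroup.mem_centralizer_iff.mp hc _ ha
      refine ⟨r, Subgroup.mem_subgroupOf.mpr ?_, rfl⟩
      have htE : (t : G) ∉ B.E₂ := fun h => ha1 (MulEquiv.ext fun x => Subtype.ext (by
        rw [happ]
        show (t : G) * x * (t : G)⁻¹ = x
        rw [B.comm_E₂ h x.2, mul_inv_cancel_right]))
      have hts : SameOn B.E₂ ((t : G) * r) ((r : G) * t) := by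
        intro x hx
        have h := congrArg (fun f : MulAut B.E₂ => ((f ⟨x, hx⟩ : B.E₂) : G)) hcomm
        rw [← map_mul, ← map_mul] at h
        simpa [happ, mul_assoc] using h
      rw [← swap_Z]
      exact B.swap.mem_normalizer_Z_of_comm (B.swap_E₁.symm ▸ r.2) (B.E₁_le ht) (B.swap_E₁.symm ▸ htE)
        (B.swap_E₁.symm ▸ hts)
    obtain ⟨y, hy, hyZ⟩ : ∃ y ∈ B.E₂, y ∉ B.Z :=
      ⟨B.pt ⟨0, 1, 0⟩, B.pt_mem_E₂.mpr rfl, fun h => one_ne_zero (B.pt_mem_Z.mp h).2⟩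
    obtain ⟨g, hg⟩ := isConj_iff.mp (hconj ⟨z₀, hEL (B.Z_le₂ hz₀)⟩ ⟨y, hEL hy⟩
      (by rw [Subgroup.orderOf_mk, orderOf_two_of_sq hzi.2 hz₀1])
      (by rw [Subgroup.orderOf_mk, orderOf_two_of_sq (B.sq_E₂ hy) (fun e => hyZ (e ▸ one_mem _))]))
    have hg' : (g : G) * z₀ * (g : G)⁻¹ = y := congrArg Subtype.val hg
    obtain ⟨n, hn, hnL, hne⟩ := B.control₂ hEL g.2 (B.Z_le₂ hz₀) (hg'.symm ▸ hy)
    obtain ⟨p, hp, hpe⟩ := hRP ⟨⟨n, hn⟩, hnL, rfl⟩
    refine hyZ ?_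
    have h := congrArg (fun f : MulAut B.E₂ => ((f ⟨z₀, B.Z_le₂ hz₀⟩ : B.E₂) : G)) hpe
    simp only [happ] at h
    rw [← hg', ← hne, ← h]
    exact (Subgroup.mem_normalizer_iff.mp hp z₀).mp hz₀
  have hWn := key _ (fun n hn => mem_normalizer_Wf hn) fun t ht ht1 => oddC_normalizes_Wf ht ht1
  have hbot : ∀ t ∈ B.E₂, t ≠ 1 → oddC t = ⊥ := fun t ht ht1 => oddC_bot_of_normal_bot hO hW hWn ht ht1
  exact Subgroup.normalizer_eq_top_iff.mp (key _ le_rfl fun t ht ht1 => by rw [hbot t ht ht1]; exact bot_le)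

end Base

end CfsgLib.L34Sylow
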