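import Cfsg.Agent.Lib.L34Sylow.CentX
import Cfsg.Agent.Lib.Transfer
import Cfsg.Agent.Lib.Signalizer.Coprime

/-!
When neither piece is fused the Sylow subgroup is normal.

Blueprint: `blueprint/S3198.md`, section 4 (a,a).
-/

set_option autoImplicit false
set_option linter.unusedSectionVars false
set_option linter.style.haveILetI false

namespace CfsgLib.L34Sylow

open Subgroup Cfsg
open scoped commutatorElement

variable {G : Type*} [Group G] [Finite G] {F : Type*} [Field F]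

namespace Base

variable (B : Base G F)

/-- An element of the Sylow subgroup in the core of a centraliser is trivial. -/
theorem eq_one_of_mem_oddC {t s : G} (hs : s ∈ (B.S : Subgroup G)) (ho : s ∈ oddC t) : s = 1 := by
  refine orderOf_eq_one_iff.mp ?_
  refine Nat.eq_one_of_dvd_coprimes (a := Nat.card (B.S : Subgroup G)) ?_
    (Subgroup.orderOf_dvd_natCard _ hs) (Subgroup.orderOf_dvd_natCard _ ho)
  rw [B.card_S, show (64 : ℕ) = 2 ^ 6 by norm_num]
  exact (Nat.coprime_two_left.mpr (odd_oddC t)).pow_left 6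

theorem exists_outer₁ : ∃ x ∈ B.E₁, x ∉ B.Z :=
  ⟨B.pt ⟨1, 0, 0⟩, B.pt_mem_E₁.mpr rfl, fun h => one_ne_zero (B.pt_mem_Z.mp h).1⟩

theorem exists_outer₂ : ∃ y ∈ B.E₂, y ∉ B.Z :=
  ⟨B.pt ⟨0, 1, 0⟩, B.pt_mem_E₂.mpr rfl, fun h => one_ne_zero (B.pt_mem_Z.mp h).2⟩

theorem not_conj_zx (h1 : ¬ B.Fused₁) {z x : G} (hz : z ∈ B.Z) (hz1 : z ≠ 1) (hx : x ∈ B.E₁) (hxZ : x ∉ B.Z) :
    ¬ IsConj z x := fun h => by
  obtain ⟨g, hg⟩ := isConj_iff.mp h
  exact hxZ (hg ▸ B.not_fused_conj h1 hz (hg.symm ▸ hx))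

/-- With a normal unfused piece the Sylow subgroup is normal. -/
theorem normal_S_of_normal_E₁ (hO : oddCore G = ⊥) (h1 : ¬ B.Fused₁) (hE : B.E₁.Normal) :
    (B.S : Subgroup G).Normal := by
  haveI := two_fact
  haveI := hE
  have hN : ∀ g : G, g ∈ normalizer (B.E₁ : Set G) := fun g => by
    rw [Subgroup.normalizer_eq_top]; exact Subgroup.mem_top g
  -- the centraliser of the piece is the piece
  set D := centralizer (B.E₁ : Set G)
  haveI hDn : D.Normal := Subgroup.normal_centralizer (H := B.E₁)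
  have hDE : D ≤ B.E₁ := by
    obtain ⟨P⟩ : Nonempty (Sylow 2 D) := inferInstance
    have hPE : ∀ p ∈ (P : Subgroup D), (p : G) ∈ B.E₁ := by
      intro p hp
      obtain ⟨k, hk⟩ := B.exists_cj_le (P.isPGroup'.map D.subtype)
      have h := mem_cj.mp (hk ⟨p, hp, rfl⟩)
      obtain ⟨x, hx, hxZ⟩ := B.exists_outer₁
      have hpx : x * (k⁻¹ * p * k) = k⁻¹ * p * k * x := by
        have hx' : k * x * k⁻¹ ∈ B.E₁ := hE.conj_mem x hx k
        have := Subgroup.mem_centralizer_iff.mp p.2 _ hx'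
        calc x * (k⁻¹ * p * k) = k⁻¹ * (k * x * k⁻¹ * p) * k := by group
          _ = k⁻¹ * (p * (k * x * k⁻¹)) * k := by rw [this]
          _ = _ := by group
      have h' := hE.conj_mem _ (B.mem_E₁_of_comm hx hxZ h hpx) k
      simpa [mul_assoc] using h'
    have hNP : normalizer ((P : Subgroup D) : Set D) ≤ centralizer ((P : Subgroup D) : Set D) :=
      fun n _ => Subgroup.mem_centralizer_iff.mpr fun p hp =>
        Subtype.ext (Subgroup.mem_centralizer_iff.mp n.2 _ (hPE p hp))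
    have h2 : oddCore ↥D = ⊥ := by
      have h := CfsgLib.ZStar.map_pPrimeCore_le_of_normal D
      rw [show pPrimeCore 2 G = ⊥ from hO, le_bot_iff, Subgroup.map_eq_bot_iff_of_injective _ D.subtype_injective] at h
      exact h
    intro g hg
    obtain ⟨⟨o, ho, p, hp, e⟩, -⟩ := burnside_split P hNP ⟨g, hg⟩
    rw [h2, Subgroup.mem_bot] at ho
    rw [ho, one_mul] at e
    have h : g = p := congrArg Subtype.val e
    rw [h]; exact hPE p hp
  have hst : B.stab₁ ≤ (B.S : Subgroup G) := by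
    intro m hm
    obtain ⟨s, hs, hsm⟩ := B.exists_sameOn hm
    have h : s⁻¹ * m ∈ B.E₁ := hDE (Subgroup.mem_centralizer_iff.mpr fun e he => by
      have := hsm e he
      calc e * (s⁻¹ * m) = s⁻¹ * (s * e * s⁻¹) * m := by group
        _ = s⁻¹ * (m * e * m⁻¹) * m := by rw [this]
        _ = _ := by group)
    have := mul_mem hs (B.E₁_le h)
    rwa [mul_inv_cancel_left] at this
  have heq : B.stab₁ = (B.S : Subgroup G) := le_antisymm hst B.S_le_stab₁
  refine ⟨fun s hs g => ?_⟩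
  rw [← heq] at hs ⊢
  have hgZ := B.normalizer_le_of_not_fused h1 (hN g)
  refine ⟨hN _, fun z hz => ?_, fun e he => ?_⟩
  · have h := hs.2.1 _ ((Subgroup.mem_normalizer_iff''.mp hgZ z).mp hz)
    calc g * s * g⁻¹ * z * (g * s * g⁻¹)⁻¹ = g * (s * (g⁻¹ * z * g) * s⁻¹) * g⁻¹ := by group
      _ = z := by rw [h]; group
  · have h := (Subgroup.mem_normalizer_iff.mp hgZ _).mp
      (hs.2.2 _ ((Subgroup.mem_normalizer_iff''.mp (hN g) e).mp he))
    convert h using 1
    group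

theorem ea_Z : IsElementaryAbelian 2 B.Z :=
  ⟨⟨⟨fun a b => Subtype.ext (B.comm_E₁ (B.Z_le₁ a.2) (B.Z_le₁ b.2))⟩⟩,
    fun a ha => by rw [pow_two]; exact B.sq_E₁ (B.Z_le₁ ha)⟩

/-- **All centralisers of the pieces good: the Sylow subgroup is normal.** -/
theorem normal_S_of_good (hO : oddCore G = ⊥) (h1 : ¬ B.Fused₁) (h2 : ¬ B.swap.Fused₁)
    (hx : ∀ x ∈ B.E₁, x ∉ B.Z → Good B.E₁ x) (hy : ∀ y ∈ B.E₂, y ∉ B.Z → Good B.E₂ y) :
    (B.S : Subgroup G).Normal := by
  haveI := two_fact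
  have hg1 : ∀ t ∈ B.E₁, t ≠ 1 → Good B.E₁ t := fun t ht ht1 => by
    by_cases h : t ∈ B.Z
    · exact B.good₁_Z h ht1
    · exact hx t ht h
  have hg2 : ∀ t ∈ B.E₂, t ≠ 1 → Good B.E₂ t := fun t ht ht1 => by
    by_cases h : t ∈ B.Z
    · exact B.good₂_Z h ht1
    · exact hy t ht h
  have hb1 := balanced_of_good B.ea_E₁ hg1
  have hb2 := balanced_of_good B.ea_E₂ hg2
  set W := Wf B.E₁ with hWdef
  have hW : Odd (Nat.card W) := Wf_spec B.ea_E₁ (by rw [B.card_E₁]; norm_num) hb1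
  have hgen : ∀ t : G, (∀ z ∈ B.Z, z * t = t * z) →
      (∀ z ∈ B.Z, z ≠ 1 → ∀ r ∈ oddC t, r * z = z * r → r ∈ oddC z) → oddC t ≤ W := by
    intro t hzt hbal
    have hnd : ¬ 2 ∣ Nat.card (oddC t) := by
      rw [← even_iff_two_dvd, Nat.not_even_iff_odd]; exact odd_oddC t
    have hnorm : B.Z ≤ normalizer (oddC t : Set G) := fun z hz => mem_normalizer_of_forall fun r hr =>
      oddC_normal (Subgroup.mem_centralizer_singleton_iff.mpr (hzt z hz)) hr
    rw [CfsgLib.Signalizer.gen_index (p := 2) B.ea_Z hnd hnorm]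
    refine iSup_le fun C => ?_
    rintro r ⟨hr, hc⟩
    have hC1 : (C : Subgroup G) ≠ ⊥ := fun e => by
      have := C.2.2
      rw [e, Subgroup.relIndex_bot_left, B.card_Z] at this
      omega
    obtain ⟨z, hz, hz1⟩ := (Subgroup.bot_or_exists_ne_one _).resolve_left hC1
    exact oddC_le_Wf (B.Z_le₁ (C.2.1 hz)) hz1
      (hbal z (C.2.1 hz) hz1 r hr (Subgroup.mem_centralizer_iff.mp hc z hz).symm)
  have hW2 : ∀ t ∈ B.E₂, t ≠ 1 → oddC t ≤ W := fun t ht ht1 =>
    hgen t (fun z hz => B.Z_comm hz (B.E₂_le ht)) fun z hz hz1 r hr hrz => hb2 t ht ht1 z (B.Z_le₂ hz) hz1 r hr hrz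
  obtain ⟨z₀, hz₀, hz₀1⟩ := B.exists_Z_ne
  obtain ⟨x₀, hx₀, hx₀Z⟩ := B.exists_outer₁
  have key : ∀ M : Subgroup G, normalizer ((B.S : Subgroup G) : Set G) ≤ M → normalizer (B.E₁ : Set G) ≤ M →
      normalizer (B.E₂ : Set G) ≤ M → (∀ t, t ∈ B.E₁ ∨ t ∈ B.E₂ → t ≠ 1 → oddC t ≤ M) → M = ⊤ := by
    intro M hSN hM1 hM2 hOM
    refine eq_top_of_two_classes B.S (orderOf_two_of_sq (B.sq_E₁ (B.Z_le₁ hz₀)) hz₀1)
      (orderOf_two_of_sq (B.sq_E₁ hx₀) fun e => hx₀Z (e ▸ one_mem _)) (B.not_conj_zx h1 hz₀ hz₀1 hx₀ hx₀Z)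
      (Subgroup.le_normalizer.trans hSN) ?_
    intro t ht hto g hg
    have hsq : g * t * g⁻¹ * (g * t * g⁻¹) = 1 := by
      rw [show g * t * g⁻¹ * (g * t * g⁻¹) = g * (t * t) * g⁻¹ by group,
        Involutions.mul_self_eq_one_of_orderOf hto]
      group
    have ht1 := ne_one_of_orderOf hto
    have hC1 : t ∈ B.E₁ → centralizer ({t} : Set G) ≤ M := fun h c hc => by
      obtain ⟨o, ho, m, hm, rfl⟩ := (hg1 t h ht1).1 c hc
      exact mul_mem (hOM t (Or.inl h) ht1 ho) (hM1 hm)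
    have hC2 : t ∈ B.E₂ → centralizer ({t} : Set G) ≤ M := fun h c hc => by
      obtain ⟨o, ho, m, hm, rfl⟩ := (hg2 t h ht1).1 c hc
      exact mul_mem (hOM t (Or.inr h) ht1 ho) (hM2 hm)
    have fin : ∀ n ∈ M, n * t * n⁻¹ = g * t * g⁻¹ → centralizer ({t} : Set G) ≤ M → g ∈ M := by
      intro n hn e hC
      have h : n⁻¹ * g ∈ centralizer ({t} : Set G) := Subgroup.mem_centralizer_singleton_iff.mpr (by
        calc n⁻¹ * g * t = n⁻¹ * (g * t * g⁻¹) * g := by group
          _ = n⁻¹ * (n * t * n⁻¹) * g := by rw [e]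
          _ = _ := by group)
      have := mul_mem hn (hC h)
      rwa [mul_inv_cancel_left] at this
    rcases B.mem_E_of_sq ht (Involutions.mul_self_eq_one_of_orderOf hto) with h | h <;>
      rcases B.mem_E_of_sq hg hsq with h' | h'
    · obtain ⟨n, hn, -, e⟩ := B.control₁ (C := ⊤) le_top (Subgroup.mem_top g) h h'
      exact fin n (hM1 hn) e (hC1 h)
    · by_cases htZ : t ∈ B.Z
      · obtain ⟨n, hn, -, e⟩ := B.control₂ (C := ⊤) le_top (Subgroup.mem_top g) (B.Z_le₂ htZ) h'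
        exact fin n (hM2 hn) e (hC1 h)
      · by_cases hZ' : g * t * g⁻¹ ∈ B.Z
        · obtain ⟨n, hn, -, e⟩ := B.control₁ (C := ⊤) le_top (Subgroup.mem_top g) h (B.Z_le₁ hZ')
          exact fin n (hM1 hn) e (hC1 h)
        · exact absurd rfl (B.not_conj_xy h1 h htZ h' hZ' g)
    · by_cases htZ : t ∈ B.Z
      · obtain ⟨n, hn, -, e⟩ := B.control₁ (C := ⊤) le_top (Subgroup.mem_top g) (B.Z_le₁ htZ) h'
        exact fin n (hM1 hn) e (hC2 h)
      · by_cases hZ' : g * t * g⁻¹ ∈ B.Z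
        · obtain ⟨n, hn, -, e⟩ := B.control₂ (C := ⊤) le_top (Subgroup.mem_top g) h (B.Z_le₂ hZ')
          exact fin n (hM2 hn) e (hC2 h)
        · refine absurd ?_ (B.not_conj_xy h1 h' hZ' h htZ g⁻¹)
          group
    · obtain ⟨n, hn, -, e⟩ := B.control₂ (C := ⊤) le_top (Subgroup.mem_top g) h h'
      exact fin n (hM2 hn) e (hC2 h)
  have hWle : ∀ t, t ∈ B.E₁ ∨ t ∈ B.E₂ → t ≠ 1 → oddC t ≤ W := fun t ht ht1 =>
    ht.elim (fun h => oddC_le_Wf h ht1) (fun h => hW2 t h ht1)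
  have hW2eq : ∀ n ∈ normalizer (B.E₂ : Set G), n ∈ normalizer (W : Set G) := by
    have hWf2 : Wf B.E₂ = W := by
      refine le_antisymm (Wf_le hW2) (Wf_le fun t ht ht1 => ?_)
      have hnd : ¬ 2 ∣ Nat.card (oddC t) := by
        rw [← even_iff_two_dvd, Nat.not_even_iff_odd]; exact odd_oddC t
      have hnorm : B.Z ≤ normalizer (oddC t : Set G) := fun z hz => mem_normalizer_of_forall fun r hr =>
        oddC_normal (Subgroup.mem_centralizer_singleton_iff.mpr (B.comm_E₁ (B.Z_le₁ hz) ht)) hr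
      rw [CfsgLib.Signalizer.gen_index (p := 2) B.ea_Z hnd hnorm]
      refine iSup_le fun C => ?_
      rintro r ⟨hr, hc⟩
      have hC1 : (C : Subgroup G) ≠ ⊥ := fun e => by
        have := C.2.2
        rw [e, Subgroup.relIndex_bot_left, B.card_Z] at this
        omega
      obtain ⟨z, hz, hz1⟩ := (Subgroup.bot_or_exists_ne_one _).resolve_left hC1
      exact oddC_le_Wf (B.Z_le₂ (C.2.1 hz)) hz1
        (hb1 t ht ht1 z (B.Z_le₁ (C.2.1 hz)) hz1 r hr (Subgroup.mem_centralizer_iff.mp hc z hz).symm)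
    intro n hn
    rw [← hWf2]
    exact mem_normalizer_Wf hn
  have hN1 : ∀ n ∈ normalizer (B.E₁ : Set G), n ∈ normalizer (W : Set G) := fun n hn => mem_normalizer_Wf hn
  have hWn := key (normalizer (W : Set G)) (fun n hn => hN1 n (B.normalizer_S_le₁ hn)) hN1 hW2eq
    fun t ht ht1 => (hWle t ht ht1).trans Subgroup.le_normalizer
  have hWbot : W = ⊥ := by
    haveI : W.Normal := Subgroup.normalizer_eq_top_iff.mp hWn
    exact eq_bot_iff.mpr (hO ▸ CfsgLib.le_oddCore hW)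
  have hbot : ∀ t, t ∈ B.E₁ ∨ t ∈ B.E₂ → t ≠ 1 → oddC t = ⊥ := fun t ht ht1 =>
    oddC_eq_bot_of_odd (hWle t ht ht1) hWbot
  have hNE : ∀ B' : Base G F, B'.S = B.S → ¬ B'.Fused₁ → oddC z₀ = ⊥ → z₀ ∈ B'.Z →
      normalizer (B'.E₁ : Set G) ≤ normalizer ((B.S : Subgroup G) : Set G) := by
    intro B' hS hF hob hzB g hg
    obtain ⟨n, hn, hgn⟩ := B'.exists_sameOn_normalizer hg (B'.normalizer_le_of_not_fused hF hg)
    have hc : n⁻¹ * g ∈ centralizer ({z₀} : Set G) := Subgroup.mem_centralizer_singleton_iff.mpr (by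
      have h := hgn z₀ (B'.Z_le₁ hzB)
      calc n⁻¹ * g * z₀ = n⁻¹ * (g * z₀ * g⁻¹) * g := by group
        _ = n⁻¹ * (n * z₀ * n⁻¹) * g := by rw [h]
        _ = _ := by group)
    obtain ⟨o, ho, k, hk, -, e⟩ := (B'.cent_Z hzB hz₀1).1 _ hc
    rw [hob, Subgroup.mem_bot] at ho
    rw [ho, one_mul] at e
    rw [← hS]
    have := mul_mem hn (e.symm ▸ hk : n⁻¹ * g ∈ normalizer ((B'.S : Subgroup G) : Set G))
    rwa [mul_inv_cancel_left] at this
  have hob := hbot z₀ (Or.inl (B.Z_le₁ hz₀)) hz₀1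
  have h2' : normalizer (B.E₂ : Set G) ≤ normalizer ((B.S : Subgroup G) : Set G) := by
    have := hNE B.swap rfl h2 hob (B.swap_Z.symm ▸ hz₀)
    rwa [swap_E₁] at this
  exact Subgroup.normalizer_eq_top_iff.mp (key _ le_rfl (hNE B rfl h1 hob hz₀) h2' fun t ht ht1 => by
    rw [hbot t ht ht1]; exact bot_le)

/-- **One fixing element only: the fusion fixes the quotient by the second piece.** -/
theorem normal_S_of_one_fix (hO : oddCore G = ⊥) (h1 : ¬ B.Fused₁) (h2 : ¬ B.swap.Fused₁) {m₀ : F} (hm₀ : m₀ ≠ 1)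
    (hfix : B.InH 1 m₀) (hno : ∀ l : F, B.InH l 1 → l = 1) : (B.S : Subgroup G).Normal := by
  haveI := two_fact
  have hm₀0 : m₀ ≠ 0 := by
    obtain ⟨n, -, hA⟩ := hfix
    exact hA.2.1
  have hall : ∀ m : F, m ≠ 0 → B.InH 1 m := by
    intro m hm
    rcases cases_four B.hF hm₀0 hm₀ m with rfl | rfl | rfl | rfl
    · exact absurd rfl hm
    · exact ⟨1, one_mem _, B.acts_one⟩
    · exact hfix
    · have h := B.inH_mul hfix hfix
      rwa [one_mul, ← pow_two, quad B.hF hm₀0 hm₀] at h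
  have hl1 : ∀ l m : F, B.InH l m → l = 1 := by
    intro l m h
    obtain ⟨n, -, hA⟩ := id h
    have h' := B.inH_mul h (hall m⁻¹ (inv_ne_zero hA.2.1))
    rw [mul_one, mul_inv_cancel₀ hA.2.1] at h'
    exact hno l h'
  have hcoord : ∀ k ∈ normalizer ((B.S : Subgroup G) : Set G), ∀ u v : U F, k * B.pt u * k⁻¹ = B.pt v → v.a = u.a := by
    intro k hk u v h
    obtain ⟨l, m, hA⟩ := B.exists_acts hk
    obtain ⟨v', hv', hva, -⟩ := hA.2.2 u
    rw [h] at hv'
    rw [B.pt_injective hv', hva, hl1 l m ⟨k, hk, hA⟩, one_mul]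
  have hfuse : ∀ (u v : U F) (g : G), g * B.pt u * g⁻¹ = B.pt v → v.a = u.a := by
    intro u v g hg
    by_cases hsq : u.a = 0 ∨ u.b = 0
    · have hu2 : B.pt u * B.pt u = 1 := by rw [← map_mul, (U.sq_one_iff B.hF).mpr hsq, map_one]
      have hv2 : B.pt v * B.pt v = 1 := by
        rw [← hg, show g * B.pt u * g⁻¹ * (g * B.pt u * g⁻¹) = g * (B.pt u * B.pt u) * g⁻¹ by group, hu2]; group
      by_cases huE : B.pt u ∈ B.E₁ ∧ B.pt u ∉ B.Z
      · rcases B.mem_E_of_sq (B.pt_mem v) hv2 with h | h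
        · obtain ⟨n, hn, -, e⟩ := B.control₁ (C := ⊤) le_top (Subgroup.mem_top g) huE.1 (hg.symm ▸ h)
          obtain ⟨k, hk, hks⟩ := B.exists_sameOn_normalizer hn (B.normalizer_le_of_not_fused h1 hn)
          exact hcoord k hk u v (by rw [← hks _ huE.1, e, hg])
        · by_cases hvZ : B.pt v ∈ B.Z
          · exfalso
            refine huE.2 ?_
            have he : B.pt u = g⁻¹ * B.pt v * g⁻¹⁻¹ := by rw [← hg]; group
            rw [he]
            exact B.not_fused_conj h1 hvZ (he ▸ huE.1)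
          · exact absurd hg (B.not_conj_xy h1 huE.1 huE.2 h hvZ g)
      · have hua : u.a = 0 := by
          rcases hsq with h | h
          · exact h
          · by_contra hne
            exact huE ⟨B.pt_mem_E₁.mpr h, fun hz => hne (B.pt_mem_Z.mp hz).1⟩
        rw [hua]
        rcases B.mem_E_of_sq (B.pt_mem v) hv2 with h | h
        swap
        · exact B.pt_mem_E₂.mp h
        by_contra hva
        have hvZ : B.pt v ∉ B.Z := fun hz => hva (B.pt_mem_Z.mp hz).1
        by_cases huZ : B.pt u ∈ B.Z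
        · exact hvZ (hg ▸ B.not_fused_conj h1 huZ (hg.symm ▸ h))
        · refine B.not_conj_xy h1 h hvZ (B.pt_mem_E₂.mpr hua) huZ g⁻¹ ?_
          rw [← hg]; group
    · push Not at hsq
      have hv0 : v.a * v.b ≠ 0 := by
        intro h0
        have h : g * B.pt u * g⁻¹ * (g * B.pt u * g⁻¹) = B.pt v * B.pt v := by rw [hg]
        rw [show g * B.pt u * g⁻¹ * (g * B.pt u * g⁻¹) = g * (B.pt u * B.pt u) * g⁻¹ by group, ← map_mul B.pt v v,
          (U.sq_one_iff B.hF).mpr (mul_eq_zero.mp h0), map_one, conj_eq_one_iff, ← map_mul, ← map_one B.pt] at h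
        exact (mul_ne_zero hsq.1 hsq.2) (mul_eq_zero.mpr ((U.sq_one_iff B.hF).mp (B.pt_injective h)))
      obtain ⟨k, hk, hA⟩ := hall (u.a * u.b / (v.a * v.b)) (div_ne_zero (mul_ne_zero hsq.1 hsq.2) hv0)
      obtain ⟨v', hv', hva, hvb⟩ := hA.2.2 v
      rw [one_mul] at hva
      have hsame : v'.a * v'.b = u.a * u.b := by
        rw [hva, hvb]
        have h1 := mul_ne_zero_iff.mp hv0
        field_simp [h1.1, h1.2]
      set w := B.pt ⟨0, 0, u.a * u.b⟩ with hw
      have hwu : B.pt u * B.pt u = w := by rw [← map_mul, U.sq_eq B.hF]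
      have hwv : B.pt v' * B.pt v' = w := by rw [← map_mul, U.sq_eq B.hF, hsame]
      have hwZ : w ∈ B.Z := B.pt_mem_Z.mpr ⟨rfl, rfl⟩
      have hw1 : w ≠ 1 := fun e => by
        rw [hw, ← map_one B.pt] at e
        exact mul_ne_zero hsq.1 hsq.2 (congrArg U.c (B.pt_injective e))
      have hg' : k * g * B.pt u * (k * g)⁻¹ = B.pt v' := by rw [← hv', ← hg]; group
      have hcw : k * g ∈ centralizer ({w} : Set G) := by
        refine Subgroup.mem_centralizer_singleton_iff.mpr ?_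
        calc k * g * w = (k * g * B.pt u * (k * g)⁻¹) * (k * g * B.pt u * (k * g)⁻¹) * (k * g) := by
              rw [← hwu]; group
          _ = _ := by rw [hg', hwv]
      obtain ⟨o, ho, n, hn, hnw, e⟩ := (B.cent_Z hwZ hw1).1 _ hcw
      obtain ⟨p, hp⟩ : ∃ p, B.pt p = n * B.pt u * n⁻¹ :=
        B.exists_pt ((Subgroup.mem_normalizer_iff.mp hn _).mp (B.pt_mem u))
      have hpv : B.pt v' = B.pt p := by
        refine mul_inv_eq_one.mp (B.eq_one_of_mem_oddC (t := w) (mul_mem (B.pt_mem v') (inv_mem (B.pt_mem p))) ?_)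
        rw [← hg', e, show o * n * B.pt u * (o * n)⁻¹ * (B.pt p)⁻¹ =
          o * ((n * B.pt u * n⁻¹) * o⁻¹ * (n * B.pt u * n⁻¹)⁻¹) * ((n * B.pt u * n⁻¹) * (B.pt p)⁻¹) by group,
          ← hp, mul_inv_cancel, mul_one]
        refine mul_mem ho (oddC_normal (Subgroup.mem_centralizer_singleton_iff.mpr ?_) (inv_mem ho))
        exact (B.Z_comm hwZ (B.pt_mem p)).symm
      rw [← hva, B.pt_injective hpv]
      exact hcoord n hn u p hp.symm
  have hfoc : (B.S : Subgroup G).focalSubgroup ≤ B.E₂ := by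
    rw [Subgroup.focalSubgroup_def, Subgroup.closure_le]
    rintro _ ⟨hmem, y, hy, g, rfl⟩
    obtain ⟨u, rfl⟩ := B.exists_pt hy
    obtain ⟨v, hv⟩ := B.exists_pt (CfsgLib.TransferApps.conj_inv_mem hy hmem)
    rw [← map_inv] at hv
    have h := hfuse u⁻¹ v g hv.symm
    show ⁅B.pt u, g⁆ ∈ B.E₂
    rw [commutatorElement_def, show B.pt u * g * (B.pt u)⁻¹ * g⁻¹ = B.pt u * (g * (B.pt u)⁻¹ * g⁻¹) by group,
      ← map_inv, ← hv, ← map_mul, B.pt_mem_E₂, U.mul_a, h, U.inv_a, add_neg_cancel]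
  obtain ⟨-, N, hN, hNS, hNtop⟩ := CfsgLib.Transfer.exists_normal_inf_eq_focal (B.S : Subgroup G) (by
    haveI : (B.S : Subgroup G).FiniteIndex := ⟨Subgroup.index_ne_zero_of_finite⟩
    have hd : Nat.card ((B.S : Subgroup G) ⧸ (B.S : Subgroup G).focalSubgroupOf) ∣ 2 ^ 6 := by
      rw [show (2 : ℕ) ^ 6 = 64 by norm_num, ← B.card_S]
      exact Subgroup.card_quotient_dvd_card _
    exact (((Nat.prime_two.coprime_iff_not_dvd.mpr B.S.not_dvd_index).pow_left 6).symm.coprime_dvd_right hd))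
  haveI := hN
  set G₀ := N ⊔ B.E₂
  haveI hG₀ : G₀.Normal := by
    refine ⟨fun x hx g => ?_⟩
    obtain ⟨n, hn, s, hs, rfl⟩ := Subgroup.mem_sup_of_normal_left.mp (hNtop.symm ▸ Subgroup.mem_top g)
    obtain ⟨a, ha, e, he, rfl⟩ := Subgroup.mem_sup_of_normal_left.mp hx
    have hsx : s * (a * e) * s⁻¹ ∈ G₀ := by
      rw [show s * (a * e) * s⁻¹ = (s * a * s⁻¹) * (s * e * s⁻¹) by group]
      exact mul_mem (Subgroup.mem_sup_left (hN.conj_mem a ha s)) (Subgroup.mem_sup_right (B.conj_mem_E₂ hs he))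
    have := mul_mem (mul_mem (Subgroup.mem_sup_left (T := B.E₂) hn) hsx) (inv_mem (Subgroup.mem_sup_left (T := B.E₂) hn))
    convert this using 1
    group
  have hG₀S : ∀ x ∈ G₀, x ∈ (B.S : Subgroup G) → x ∈ B.E₂ := by
    intro x hx hxS
    obtain ⟨a, ha, e, he, rfl⟩ := Subgroup.mem_sup_of_normal_left.mp hx
    have haS : a ∈ (B.S : Subgroup G) := by
      have := mul_mem hxS (inv_mem (B.E₂_le he))
      rwa [mul_inv_cancel_right] at this
    exact mul_mem (hfoc (hNS ▸ ⟨ha, haS⟩)) he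
  have hE2 : B.E₂ ≤ G₀ := le_sup_right
  have hmax : ∀ R : Subgroup G, IsPGroup 2 R → B.E₂ ≤ R → R ≤ G₀ → R = B.E₂ := by
    intro R hR hER hRG
    obtain ⟨k, hk⟩ := B.exists_cj_le hR
    refine (Subgroup.eq_of_le_of_card_ge hER ?_).symm
    have hle : R ≤ cj k B.E₂ := fun y hy => mem_cj.mpr (hG₀S _ (by
      have := hG₀.conj_mem y (hRG hy) k⁻¹
      rwa [inv_inv] at this) (mem_cj.mp (hk hy)))
    exact (Subgroup.card_le_of_le hle).trans (card_cj k B.E₂).le
  let T : Sylow 2 G₀ :=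
    { toSubgroup := B.E₂.subgroupOf G₀
      isPGroup' := B.isPGroup_E₂.comap_subtype
      is_maximal' := fun {R} hR hle => by
        have e := hmax (R.map G₀.subtype) (hR.map _) (fun x hx => ⟨⟨x, hE2 hx⟩, hle hx, rfl⟩)
          (Subgroup.map_subtype_le R)
        ext y
        rw [Subgroup.mem_subgroupOf, ← e]
        exact ⟨fun hy => ⟨y, hy, rfl⟩, fun ⟨y', hy', h⟩ => Subtype.ext h ▸ hy'⟩ }
  have hO' : oddCore ↥G₀ = ⊥ := by
    have h := CfsgLib.ZStar.map_pPrimeCore_le_of_normal G₀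
    rw [show pPrimeCore 2 G = ⊥ from hO, le_bot_iff, Subgroup.map_eq_bot_iff_of_injective _ G₀.subtype_injective] at h
    exact h
  have hTn : (T : Subgroup G₀).Normal := by
    have hea : IsElementaryAbelian 2 (T : Subgroup G₀) :=
      ⟨⟨⟨fun a b => Subtype.ext (Subtype.ext (B.comm_E₂ a.2 b.2))⟩⟩,
        fun a ha => Subtype.ext (by push_cast; rw [pow_two]; exact B.sq_E₂ ha)⟩
    obtain ⟨z, hz, hz1⟩ := B.exists_Z_ne
    obtain ⟨y, hy, hyZ⟩ := B.exists_outer₂
    refine normal_of_elementary hO' T hea ?_ ?_ (a := ⟨z, hE2 (B.Z_le₂ hz)⟩) (b := ⟨y, hE2 hy⟩) ?_ ?_ ?_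
    · show 8 ≤ Nat.card ↥(B.E₂.subgroupOf G₀)
      rw [Nat.card_congr (Subgroup.subgroupOfEquivOfLe hE2).toEquiv, B.card_E₂]
      norm_num
    · intro t ht ht1 n hn hnt
      have hn' : (n : G) ∈ normalizer (B.E₂ : Set G) := mem_normalizer_of_forall fun x hx =>
        (Subgroup.mem_normalizer_iff.mp hn ⟨x, hE2 hx⟩).mp hx
      have hn₁ : (n : G) ∈ normalizer (B.swap.E₁ : Set G) := B.swap_E₁.symm ▸ hn'
      have hnZ := B.swap.normalizer_le_of_not_fused h2 hn₁
      obtain ⟨k, hk, hks⟩ := B.swap.exists_sameOn_normalizer hn₁ hnZ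
      rw [swap_E₁] at hks
      obtain ⟨l, m, hA⟩ := B.exists_acts hk
      obtain rfl := hl1 l m ⟨k, hk, hA⟩
      have htE : (t : G) ∈ B.E₂ := ht
      obtain ⟨u, hu, hut⟩ := id htE
      obtain ⟨v, hv, hva, hvb⟩ := hA.2.2 u
      rw [hut, ← hks _ htE, show (n : G) * t = t * n from congrArg Subtype.val hnt, mul_inv_cancel_right] at hv
      have hvu : v = u := B.pt_injective (hv.symm.trans hut.symm)
      have hm : m = 1 := by
        by_cases hub : u.b = 0
        · have hu0 : u = ⟨0, 0, u.c⟩ := U.ext hu hub rfl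
          have h := hA.conj_Z B hk u.c
          rw [← hu0, hut, ← hks _ htE, show (n : G) * t = t * n from congrArg Subtype.val hnt,
            mul_inv_cancel_right, ← hut, hu0] at h
          have h' : u.c = 1 * m * u.c := congrArg U.c (B.pt_injective h)
          have huc : u.c ≠ 0 := fun e => ht1 (Subtype.ext (by
            rw [← hut, hu0, e]; exact map_one B.pt))
          exact mul_right_cancel₀ huc (by rw [one_mul] at h'; rw [one_mul]; exact h'.symm)
        · rw [hvu] at hvb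
          exact mul_right_cancel₀ hub (by rw [← hvb, one_mul])
      subst hm
      have hst : (n : G) ∈ B.swap.stab₁ := by
        refine ⟨hn₁, fun z hz => ?_, fun e he => ?_⟩
        · rw [swap_Z] at hz
          rw [hks z (B.Z_le₂ hz)]
          obtain ⟨w, hwa, hwb, rfl⟩ := hz
          rw [show w = ⟨0, 0, w.c⟩ from U.ext hwa hwb rfl, hA.conj_Z B hk, one_mul, one_mul]
        · rw [swap_E₁] at he
          rw [swap_Z, hks e he]
          obtain ⟨w, hw, rfl⟩ := he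
          obtain ⟨v, hv, hva, hvb⟩ := hA.2.2 w
          rw [hv, ← map_inv, ← map_mul, B.pt_mem_Z]
          simp [hva, hvb, hw]
      obtain ⟨j, hj⟩ : ∃ j : ℕ, n ^ (2 * j + 1) ∈ (T : Subgroup G₀) := by
        set NT := normalizer ((T : Subgroup G₀) : Set G₀)
        haveI : ((T : Subgroup G₀).subgroupOf NT).Normal := Subgroup.normal_in_normalizer
        have h1 := Subgroup.pow_index_mem ((T : Subgroup G₀).subgroupOf NT) ⟨n, hn⟩
        have h2 : ¬ 2 ∣ ((T : Subgroup G₀).subgroupOf NT).index :=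
          (T.subtype (Subgroup.le_normalizer (H := (T : Subgroup G₀)))).not_dvd_index
        obtain ⟨j, hj⟩ := Nat.odd_iff.mpr (Nat.two_dvd_ne_zero.mp h2)
        exact ⟨j, by rw [← hj]; exact Subgroup.mem_subgroupOf.mp h1⟩
      intro x hx
      refine Subtype.ext ?_
      have hxE : (x : G) ∈ B.E₂ := hx
      have hsq : ∀ i : ℕ, Commute ((n : G) ^ (2 * i)) x := fun i => by
        have h := B.swap.sq_stab₁ hst (B.swap_E₁.symm ▸ hxE)
        have hc : Commute ((n : G) ^ 2) x := by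
          rw [pow_two]; exact mul_inv_eq_iff_eq_mul.mp h
        rw [pow_mul]
        exact hc.pow_left i
      have hodd : Commute ((n : G) ^ (2 * j + 1)) x := by
        have : ((n ^ (2 * j + 1) : G₀) : G) ∈ B.E₂ := hj
        rw [← Subgroup.coe_pow]
        exact B.comm_E₂ this hxE
      have h := (hsq j).inv_left.mul_left hodd
      rwa [pow_succ, inv_mul_cancel_left] at h
    · rw [Subgroup.orderOf_mk]; exact orderOf_two_of_sq (B.sq_E₁ (B.Z_le₁ hz)) hz1
    · rw [Subgroup.orderOf_mk]; exact orderOf_two_of_sq (B.sq_E₂ hy) fun e => hyZ (e ▸ one_mem _)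
    · intro hc
      exact B.swap.not_conj_zx h2 (B.swap_Z.symm ▸ hz) hz1 (B.swap_E₁.symm ▸ hy) (B.swap_Z.symm ▸ hyZ)
        (G₀.subtype.map_isConj hc)
  have hE2n : B.E₂.Normal := by
    refine ⟨fun x hx g => ?_⟩
    let R := cj g B.E₂
    have hRG : R ≤ G₀ := by
      rintro _ ⟨y, hy, rfl⟩
      exact hG₀.conj_mem y (hE2 hy) g
    have hR : R = B.E₂ := by
      have h1 : IsPGroup 2 ↥(R.subgroupOf G₀ ⊔ (T : Subgroup G₀)) :=
        IsPGroup.to_sup_of_normal_right' ((B.isPGroup_E₂.map _).comap_subtype (K := G₀)) T.isPGroup'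
          (fun q _ => by haveI := hTn; rw [Subgroup.normalizer_eq_top]; exact Subgroup.mem_top q)
      have h2 : ∀ y (hy : y ∈ R), y ∈ B.E₂ := fun y hy => by
        have h : (⟨y, hRG hy⟩ : G₀) ∈ R.subgroupOf G₀ ⊔ (T : Subgroup G₀) :=
          Subgroup.mem_sup_left (Subgroup.mem_subgroupOf.mpr hy)
        rw [T.is_maximal' h1 le_sup_right] at h
        exact h
      exact Subgroup.eq_of_le_of_card_ge h2 (card_cj g B.E₂).ge
    exact hR ▸ conj_mem_cj hx
  exact B.swap.normal_S_of_normal_E₁ hO h2 (B.swap_E₁.symm ▸ hE2n)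

end Base

end CfsgLib.L34Sylow
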