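import Cfsg.Agent.Lib.L34Sylow.Weak
import Cfsg.Agent.Lib.HallE8.Solvable
import Cfsg.Agent.Lib.Involutions
import Cfsg.Agent.Lib.TransferApps
import Cfsg.Agent.S0217
import Cfsg.Agent.S1225

/-!
Cores of centralisers, signalizer functors and strongly embedded subgroups.

Blueprint: `blueprint/S3198.md`, section 2.
-/

set_option autoImplicit false
set_option linter.unusedSectionVars false
set_option linter.style.haveILetI false

namespace CfsgLib.L34Sylow

open Subgroup Cfsg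

variable {G : Type*} [Group G]

/-- The odd core of the centraliser. -/
abbrev oddC (t : G) : Subgroup G := centralizerPPrimeCore 2 t

theorem oddC_le (t : G) : oddC t ≤ centralizer ({t} : Set G) := Subgroup.map_subtype_le _

theorem oddC_comm {t x : G} (hx : x ∈ oddC t) : x * t = t * x :=
  Subgroup.mem_centralizer_singleton_iff.mp (oddC_le t hx)

theorem centralizer_conj {g t c : G} (hc : c ∈ centralizer ({t} : Set G)) :
    g * c * g⁻¹ ∈ centralizer ({g * t * g⁻¹} : Set G) := by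
  rw [Subgroup.mem_centralizer_singleton_iff] at hc ⊢
  calc g * c * g⁻¹ * (g * t * g⁻¹) = g * (c * t) * g⁻¹ := by group
    _ = g * (t * c) * g⁻¹ := by rw [hc]
    _ = _ := by group

variable [Finite G]

theorem odd_oddC (t : G) : Odd (Nat.card (oddC t)) := by
  rw [oddC, centralizerPPrimeCore, Subgroup.card_map_of_injective (Subgroup.subtype_injective _)]
  exact CfsgLib.odd_card_oddCore

theorem odd_order_oddC {t x : G} (hx : x ∈ oddC t) : Odd (orderOf x) :=
  (odd_oddC t).of_dvd_nat (Subgroup.orderOf_dvd_natCard _ hx)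

/-- An odd subgroup normalised by the centraliser lies in its core. -/
theorem le_oddC {t : G} {R : Subgroup G} (hR : R ≤ centralizer ({t} : Set G)) (hodd : Odd (Nat.card R))
    (hn : ∀ c ∈ centralizer ({t} : Set G), ∀ r ∈ R, c * r * c⁻¹ ∈ R) : R ≤ oddC t := by
  set C := centralizer ({t} : Set G)
  haveI : (R.subgroupOf C).Normal := ⟨fun r hr c => Subgroup.mem_subgroupOf.mpr (hn _ c.2 _ hr)⟩
  have h1 : R.subgroupOf C ≤ oddCore ↥C :=
    CfsgLib.le_oddCore (by rwa [Nat.card_congr (Subgroup.subgroupOfEquivOfLe hR).toEquiv])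
  intro r hr
  exact ⟨⟨r, hR hr⟩, h1 hr, rfl⟩

theorem oddC_normal {t c r : G} (hc : c ∈ centralizer ({t} : Set G)) (hr : r ∈ oddC t) : c * r * c⁻¹ ∈ oddC t := by
  obtain ⟨r', hr', rfl⟩ := hr
  exact ⟨⟨c, hc⟩ * r' * ⟨c, hc⟩⁻¹, (inferInstance : (pPrimeCore 2 ↥(centralizer ({t} : Set G))).Normal).conj_mem r' hr' _,
    rfl⟩

theorem oddC_conj {g t r : G} (hr : r ∈ oddC t) : g * r * g⁻¹ ∈ oddC (g * t * g⁻¹) := by
  suffices h : cj g (oddC t) ≤ oddC (g * t * g⁻¹) from h (conj_mem_cj hr)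
  refine le_oddC ?_ (by rw [card_cj]; exact odd_oddC t) ?_
  · rintro _ ⟨x, hx, rfl⟩
    exact centralizer_conj (oddC_le t hx)
  · rintro c hc _ ⟨x, hx, rfl⟩
    have hc' := centralizer_conj (g := g⁻¹) hc
    rw [show g⁻¹ * (g * t * g⁻¹) * g⁻¹⁻¹ = t by group] at hc'
    refine ⟨_, oddC_normal hc' hx, ?_⟩
    show g * (g⁻¹ * c * g⁻¹⁻¹ * x * (g⁻¹ * c * g⁻¹⁻¹)⁻¹) * g⁻¹ = c * (g * x * g⁻¹) * c⁻¹
    group

theorem oddC_eq_bot_of_odd {t : G} {R : Subgroup G} (h : oddC t ≤ R) (hR : R = ⊥) : oddC t = ⊥ :=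
  eq_bot_iff.mpr (h.trans hR.le)

/-! ### Signalizer functors -/

/-- The subgroup generated by the cores. -/
def Wf (A : Subgroup G) : Subgroup G := ⨆ a : {a : G // a ∈ A ∧ a ≠ 1}, oddC (a : G)

theorem oddC_le_Wf {A : Subgroup G} {a : G} (ha : a ∈ A) (ha1 : a ≠ 1) : oddC a ≤ Wf A :=
  le_iSup (fun a : {a : G // a ∈ A ∧ a ≠ 1} => oddC (a : G)) ⟨a, ha, ha1⟩

theorem Wf_le {A R : Subgroup G} (h : ∀ a ∈ A, a ≠ 1 → oddC a ≤ R) : Wf A ≤ R :=
  iSup_le fun a => h a a.2.1 a.2.2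

/-- The balance condition. -/
def Balanced (A : Subgroup G) : Prop :=
  ∀ a ∈ A, a ≠ 1 → ∀ b ∈ A, b ≠ 1 → ∀ r ∈ oddC a, r * b = b * r → r ∈ oddC b

theorem Wf_spec {A : Subgroup G} (hA : IsElementaryAbelian 2 A) (h8 : 8 ≤ Nat.card A) (hbal : Balanced A) :
    Odd (Nat.card (Wf A)) := by
  haveI : Fact (Nat.Prime 2) := ⟨Nat.prime_two⟩
  have hodd : ∀ a : G, ¬ 2 ∣ Nat.card (oddC a) := fun a => by
    rw [← even_iff_two_dvd, Nat.not_even_iff_odd]; exact odd_oddC a
  have hcomm : ∀ a ∈ A, ∀ b ∈ A, a * b = b * a := fun a ha b hb =>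
    congrArg Subtype.val (hA.1.is_comm.comm ⟨a, ha⟩ ⟨b, hb⟩)
  have h := Cfsg.Agent.S0217.result (p := 2) A hcomm hA.2 (by simpa using h8) (fun a => oddC a)
    (fun a _ _ => oddC_le a) (fun a _ _ => hodd a)
    (fun a ha _ b hb x hx => oddC_normal (Subgroup.mem_centralizer_singleton_iff.mpr (hcomm b hb a ha)) hx)
    (fun a _ _ => HallE8.isSolvable_of_odd (hodd a))
    (fun a ha ha1 b hb hb1 r hr =>
      hbal a ha ha1 b hb hb1 r hr.1 (Subgroup.mem_centralizer_singleton_iff.mp hr.2))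
  rw [← Nat.not_even_iff_odd, even_iff_two_dvd]
  exact h.1

/-- Elements permuting the involutions of `A` normalise `Wf A`. -/
theorem mem_normalizer_Wf {A : Subgroup G} {g : G} (hg : g ∈ normalizer (A : Set G)) :
    g ∈ normalizer (Wf A : Set G) := by
  refine mem_normalizer_of_forall fun x hx => ?_
  have h : Wf A ≤ (Wf A).comap (MulAut.conj g).toMonoidHom := Wf_le fun a ha ha1 r hr =>
    oddC_le_Wf ((Subgroup.mem_normalizer_iff.mp hg a).mp ha) (fun e => ha1 (conj_eq_one_iff.mp e))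
      (oddC_conj hr)
  exact h hx

theorem oddC_normalizes_Wf {A : Subgroup G} {a : G} (ha : a ∈ A) (ha1 : a ≠ 1) :
    oddC a ≤ normalizer (Wf A : Set G) :=
  (oddC_le_Wf ha ha1).trans Subgroup.le_normalizer

/-! ### Strongly embedded subgroups -/

/-- An involution of a subgroup is conjugate in it into a Sylow subgroup contained in it. -/
theorem exists_conj_mem {S : Sylow 2 G} {M : Subgroup G} (hSM : (S : Subgroup G) ≤ M) {j : G} (hj : j ∈ M)
    (hjo : j * j = 1) : ∃ m ∈ M, m * j * m⁻¹ ∈ (S : Subgroup G) := by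
  haveI : Fact (Nat.Prime 2) := ⟨Nat.prime_two⟩
  have hjp : IsPGroup 2 (zpowers (⟨j, hj⟩ : M)) := IsPGroup.of_card_dvd_pow (n := 1) (by
    rw [Nat.card_zpowers, pow_one]
    exact orderOf_dvd_of_pow_eq_one (Subtype.ext (by rw [pow_two, Subgroup.coe_mul]; exact hjo)))
  obtain ⟨Q, hQ⟩ := hjp.exists_le_sylow
  obtain ⟨m, hm⟩ := MulAction.exists_smul_eq M Q (S.subtype hSM)
  refine ⟨m, m.2, ?_⟩
  have h1 : m * ⟨j, hj⟩ * m⁻¹ ∈ ((m • Q : Sylow 2 M) : Subgroup M) := by
    rw [Sylow.coe_subgroup_smul]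
    exact Subgroup.smul_mem_pointwise_smul _ (MulAut.conj m) _ (hQ (mem_zpowers _))
  rw [hm] at h1
  exact h1

/-- A proper overgroup of a Sylow subgroup controlling the fusion of its involutions and containing their
centralisers is strongly embedded, so all involutions are conjugate. -/
theorem isStronglyEmbedded_of (S : Sylow 2 G) {M : Subgroup G} (hM : M ≠ ⊤) (hS1 : (S : Subgroup G) ≠ ⊥)
    (hSM : (S : Subgroup G) ≤ M)
    (hfus : ∀ t ∈ (S : Subgroup G), orderOf t = 2 → ∀ g : G, g * t * g⁻¹ ∈ (S : Subgroup G) → g ∈ M) :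
    IsStronglyEmbedded M := by
  haveI : Fact (Nat.Prime 2) := ⟨Nat.prime_two⟩
  refine ⟨hM, ?_, fun g hg => ?_⟩
  · haveI : Nontrivial (S : Subgroup G) := (Subgroup.nontrivial_iff_ne_bot _).mpr hS1
    obtain ⟨k, hk0, hk⟩ := S.isPGroup'.nontrivial_iff_card.mp inferInstance
    exact even_iff_two_dvd.mpr ((hk ▸ dvd_pow_self 2 hk0.ne').trans (Subgroup.card_dvd_of_le hSM))
  rw [← Nat.not_even_iff_odd, even_iff_two_dvd]
  intro h2
  obtain ⟨⟨j, hjb⟩, hjo⟩ :=
    exists_prime_orderOf_dvd_card' (G := ↥(M ⊓ M.map (MulAut.conj g).toMonoidHom)) 2 h2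
  rw [Subgroup.orderOf_mk] at hjo
  obtain ⟨hjM, hj'⟩ := Subgroup.mem_inf.mp hjb
  obtain ⟨j₀, hj₀, e⟩ := hj'
  have e' : g * j₀ * g⁻¹ = j := e
  have hj2 : j * j = 1 := Involutions.mul_self_eq_one_of_orderOf hjo
  have hj₀o : orderOf j₀ = 2 := by rw [← hjo, ← e', Involutions.orderOf_conj]
  obtain ⟨m, hm, hmj⟩ := exists_conj_mem hSM hjM hj2
  obtain ⟨n, hn, hnj⟩ := exists_conj_mem hSM hj₀ (Involutions.mul_self_eq_one_of_orderOf hj₀o)
  have h := hfus _ hnj (by rw [Involutions.orderOf_conj, hj₀o]) (m * g * n⁻¹) (by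
    rw [show m * g * n⁻¹ * (n * j₀ * n⁻¹) * (m * g * n⁻¹)⁻¹ = m * (g * j₀ * g⁻¹) * m⁻¹ by group, e']
    exact hmj)
  have := mul_mem (mul_mem (inv_mem hm) h) hn
  simp [mul_assoc] at this
  exact hg this

/-- With two classes of involutions there is no strongly embedded subgroup. -/
theorem eq_top_of_two_classes (S : Sylow 2 G) {M : Subgroup G} {a b : G} (ha : orderOf a = 2) (hb : orderOf b = 2)
    (hab : ¬ IsConj a b) (hSM : (S : Subgroup G) ≤ M)
    (hfus : ∀ t ∈ (S : Subgroup G), orderOf t = 2 → ∀ g : G, g * t * g⁻¹ ∈ (S : Subgroup G) → g ∈ M) : M = ⊤ := by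
  haveI : Fact (Nat.Prime 2) := ⟨Nat.prime_two⟩
  by_contra hM
  obtain ⟨k, hk⟩ : ∃ k : G, k * a * k⁻¹ ∈ (S : Subgroup G) := by
    obtain ⟨m, -, hm⟩ := exists_conj_mem (M := ⊤) (le_top : (S : Subgroup G) ≤ ⊤) (Subgroup.mem_top a)
      (Involutions.mul_self_eq_one_of_orderOf ha)
    exact ⟨m, hm⟩
  have hS1 : (S : Subgroup G) ≠ ⊥ := fun e => by
    rw [e, Subgroup.mem_bot, conj_eq_one_iff] at hk
    rw [hk, orderOf_one] at ha
    omega
  have hse := isStronglyEmbedded_of S hM hS1 hSM hfus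
  have hko : orderOf (k * a * k⁻¹) = 2 := by rw [Involutions.orderOf_conj, ha]
  obtain ⟨u, huM⟩ : ∃ u : G, u ∉ M := by
    by_contra hc
    push Not at hc
    exact hM ((Subgroup.eq_top_iff' M).mpr hc)
  obtain ⟨v, hv, hvM⟩ : ∃ v : G, orderOf v = 2 ∧ v ∉ M := by
    by_contra hc
    push Not at hc
    have hmem : u * (k * a * k⁻¹) * u⁻¹ ∈ M := hc _ (by rw [Involutions.orderOf_conj, hko])
    obtain ⟨m, hm, hmj⟩ := exists_conj_mem hSM hmem (Involutions.mul_self_eq_one_of_orderOf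
      (by rw [Involutions.orderOf_conj, hko]))
    have := hfus _ hk hko (m * u) (by
      rwa [show m * u * (k * a * k⁻¹) * (m * u)⁻¹ = m * (u * (k * a * k⁻¹) * u⁻¹) * m⁻¹ by group])
    exact huM (by simpa using mul_mem (inv_mem hm) this)
  exact hab ((Cfsg.Agent.S1225.result M hse v hv hvM _ _ hko (hSM hk) hko (hSM hk)).2 a b ha hb)

theorem ne_one_of_orderOf {t : G} (h : orderOf t = 2) : t ≠ 1 := fun e => by
  rw [e, orderOf_one] at h; omega

theorem orderOf_two_of_sq {t : G} (h : t * t = 1) (h1 : t ≠ 1) : orderOf t = 2 :=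
  orderOf_eq_prime (p := 2) (hp := ⟨Nat.prime_two⟩) (by rw [pow_two]; exact h) h1

theorem oddC_bot_of_normal_bot {A : Subgroup G} (hO : oddCore G = ⊥) (hodd : Odd (Nat.card (Wf A)))
    (hN : normalizer (Wf A : Set G) = ⊤) {a : G} (ha : a ∈ A) (ha1 : a ≠ 1) : oddC a = ⊥ := by
  haveI : (Wf A).Normal := Subgroup.normalizer_eq_top_iff.mp hN
  exact oddC_eq_bot_of_odd (oddC_le_Wf ha ha1) (eq_bot_iff.mpr (hO ▸ CfsgLib.le_oddCore hodd))

/-- In a subgroup with an abelian Sylow subgroup, whose normaliser centralises it, elements of odd order lie in the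
core. -/
theorem cent_decomp (T : Sylow 2 G) (hab : ∀ a ∈ (T : Subgroup G), ∀ b ∈ (T : Subgroup G), a * b = b * a) {t : G}
    (ht : t ∈ (T : Subgroup G))
    (hfix : ∀ n ∈ normalizer ((T : Subgroup G) : Set G), n * t = t * n →
      ∀ x ∈ (T : Subgroup G), n * x = x * n) :
    ∀ g ∈ centralizer ({t} : Set G), (∃ o ∈ oddC t, ∃ s ∈ (T : Subgroup G), g = o * s) ∧
      (Odd (orderOf g) → g ∈ oddC t) := by
  haveI : Fact (Nat.Prime 2) := ⟨Nat.prime_two⟩
  set C := centralizer ({t} : Set G)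
  have hTC : (T : Subgroup G) ≤ C := fun x hx => Subgroup.mem_centralizer_singleton_iff.mpr (hab x hx t ht)
  set P := T.subtype hTC with hP
  have hNP : normalizer ((P : Subgroup C) : Set C) ≤ centralizer ((P : Subgroup C) : Set C) := by
    intro n hn
    have hn' : (n : G) ∈ normalizer ((T : Subgroup G) : Set G) := mem_normalizer_of_forall fun x hx =>
      ((Subgroup.mem_normalizer_iff.mp hn ⟨x, hTC hx⟩).mp hx)
    refine Subgroup.mem_centralizer_iff.mpr fun x hx => Subtype.ext ?_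
    exact (hfix _ hn' (Subgroup.mem_centralizer_singleton_iff.mp n.2) _ hx).symm
  set K := (MonoidHom.transferSylow P hNP).ker
  have hc : IsComplement' K (P : Subgroup C) := MonoidHom.ker_transferSylow_isComplement' P hNP
  have hKodd : Odd (Nat.card K) := by
    rw [← Nat.not_even_iff_odd, even_iff_two_dvd]
    exact MonoidHom.not_dvd_card_ker_transferSylow P hNP
  have hK : K ≤ oddCore ↥C := CfsgLib.le_oddCore hKodd
  intro g hg
  obtain ⟨⟨⟨o, ho⟩, ⟨s, hs⟩⟩, e⟩ := hc.surjective ⟨g, hg⟩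
  refine ⟨⟨o, ⟨o, hK ho, rfl⟩, s, hs, (congrArg Subtype.val e).symm⟩, fun hodd => ⟨⟨g, hg⟩, hK ?_, rfl⟩⟩
  have h1 : MonoidHom.transferSylow P hNP ⟨g, hg⟩ = 1 := by
    refine orderOf_eq_one_iff.mp (Nat.eq_one_of_dvd_coprimes ?_
      (orderOf_map_dvd (MonoidHom.transferSylow P hNP) (⟨g, hg⟩ : C)) (orderOf_dvd_natCard _))
    obtain ⟨k, hk⟩ := IsPGroup.iff_card.mp P.isPGroup'
    rw [hk, Subgroup.orderOf_mk]
    exact (Nat.coprime_two_right.mpr hodd).pow_right k
  exact h1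

/-- **A group with an elementary Sylow subgroup, two classes of involutions and trivially acting normalisers of the
centralisers.** -/
theorem normal_of_elementary (hO : oddCore G = ⊥) (T : Sylow 2 G) (hT : IsElementaryAbelian 2 (T : Subgroup G))
    (h8 : 8 ≤ Nat.card (T : Subgroup G))
    (hfix : ∀ t ∈ (T : Subgroup G), t ≠ 1 → ∀ n ∈ normalizer ((T : Subgroup G) : Set G), n * t = t * n →
      ∀ x ∈ (T : Subgroup G), n * x = x * n)
    {a b : G} (ha : orderOf a = 2) (hb : orderOf b = 2) (hab : ¬ IsConj a b) : (T : Subgroup G).Normal := by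
  haveI : Fact (Nat.Prime 2) := ⟨Nat.prime_two⟩
  have hcomm : ∀ a ∈ (T : Subgroup G), ∀ b ∈ (T : Subgroup G), a * b = b * a := fun a ha b hb =>
    congrArg Subtype.val (hT.1.is_comm.comm ⟨a, ha⟩ ⟨b, hb⟩)
  have hdec := fun t (ht : t ∈ (T : Subgroup G)) (ht1 : t ≠ 1) => cent_decomp T hcomm ht (hfix t ht ht1)
  have hbal : Balanced (T : Subgroup G) := fun x hx hx1 y hy hy1 r hr hry =>
    (hdec y hy hy1 r (Subgroup.mem_centralizer_singleton_iff.mpr hry)).2 (odd_order_oddC hr)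
  have key : ∀ M : Subgroup G, normalizer ((T : Subgroup G) : Set G) ≤ M →
      (∀ t ∈ (T : Subgroup G), t ≠ 1 → oddC t ≤ M) → M = ⊤ := by
    intro M hNM hOM
    refine eq_top_of_two_classes T ha hb hab (Subgroup.le_normalizer.trans hNM) fun t ht hto g hg => ?_
    have hC : centralizer ({t} : Set G) ≤ M := fun c hc => by
      obtain ⟨o, ho, s, hs, rfl⟩ := (hdec t ht (ne_one_of_orderOf hto) c hc).1
      exact mul_mem (hOM t ht (ne_one_of_orderOf hto) ho) (hNM (Subgroup.le_normalizer hs))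
    obtain ⟨n, hn, hne⟩ := CfsgLib.TransferApps.exists_normalizer_conj_of_abelian T hT.1 ht hg
    have h : n⁻¹ * g ∈ centralizer ({t} : Set G) := Subgroup.mem_centralizer_singleton_iff.mpr (by
      calc n⁻¹ * g * t = n⁻¹ * (g * t * g⁻¹) * g := by group
        _ = n⁻¹ * (n * t * n⁻¹) * g := by rw [hne]
        _ = _ := by group)
    have := mul_mem (hNM hn) (hC h)
    rwa [mul_inv_cancel_left] at this
  have hW := Wf_spec hT h8 hbal
  have h1 : normalizer (Wf (T : Subgroup G) : Set G) = ⊤ :=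
    key _ (fun n hn => mem_normalizer_Wf hn) fun t ht ht1 => oddC_normalizes_Wf ht ht1
  have h2 := key (normalizer ((T : Subgroup G) : Set G)) le_rfl fun t ht ht1 => by
    rw [oddC_bot_of_normal_bot hO hW h1 ht ht1]
    exact bot_le
  exact Subgroup.normalizer_eq_top_iff.mp h2

end CfsgLib.L34Sylow
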