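import Cfsg.Agent.S0483
import Cfsg.Agent.Lib.GW.Model.Psl
import Cfsg.Agent.Lib.DicksonFull.Subgroups
import Cfsg.Agent.Lib.L34Sylow.Mid
import Cfsg.Agent.Lib.L34Sylow.Core

/-!
Groups with a four-group as Sylow subgroup and one class of involutions: at most three times as many involutions as
involutions with product of odd order with a given one, with equality only when the Sylow subgroup is normal modulo
the core.

Blueprint: `blueprint/S3198.md`, section 4.
-/

set_option autoImplicit false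
set_option linter.unusedSectionVars false
set_option linter.style.haveILetI false

namespace CfsgLib.L34Sylow

open Subgroup Cfsg

/-- The number of involutions. -/
noncomputable def nInv (D : Type*) [Group D] : ℕ := Nat.card {t : D // orderOf t = 2}

/-- The number of involutions whose product with `z` has odd order. -/
noncomputable def nOdd {D : Type*} [Group D] (z : D) : ℕ :=
  Nat.card {t : D // orderOf t = 2 ∧ Odd (orderOf (z * t))}

/-- A single class of involutions. -/
theorem card_eq_nInv_mul {H : Type*} [Group H] [Finite H] (hone : ∀ a b : H, orderOf a = 2 → orderOf b = 2 → IsConj a b)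
    {z : H} (hz : orderOf z = 2) : Nat.card H = nInv H * Nat.card (centralizer ({z} : Set H)) := by
  refine card_eq_mul_of_fibres (fun g : H => (⟨g * z * g⁻¹, by rw [Involutions.orderOf_conj]; exact hz⟩ :
    {t : H // orderOf t = 2})) fun b => ?_
  obtain ⟨g₀, hg₀⟩ := isConj_iff.mp (hone z b hz b.2)
  refine Nat.card_congr
    { toFun := fun g => ⟨g₀⁻¹ * g.1, Subgroup.mem_centralizer_singleton_iff.mpr ?_⟩
      invFun := fun x => ⟨g₀ * x.1, Subtype.ext ?_⟩
      left_inv := fun g => Subtype.ext (by simp)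
      right_inv := fun x => Subtype.ext (by simp) }
  · have h : g.1 * z * g.1⁻¹ = g₀ * z * g₀⁻¹ := (congrArg Subtype.val g.2).trans hg₀.symm
    calc g₀⁻¹ * g.1 * z = g₀⁻¹ * (g.1 * z * g.1⁻¹) * g.1 := by group
      _ = g₀⁻¹ * (g₀ * z * g₀⁻¹) * g.1 := by rw [h]
      _ = _ := by group
  · show g₀ * x.1 * z * (g₀ * x.1)⁻¹ = b.1
    rw [← hg₀, mul_assoc g₀, Subgroup.mem_centralizer_singleton_iff.mp x.2]
    group

section ModelBound

open scoped MatrixGroups

variable {F : Type*} [Field F] [Fintype F]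

local notation "PSL" => Matrix.ProjectiveSpecialLinearGroup (Fin 2) F
local notation "q" => Fintype.card F

theorem cyclic_invol_unique {C : Type*} [Group C] [Finite C] [IsCyclic C] {a b : C} (ha : orderOf a = 2)
    (hb : orderOf b = 2) : a = b := by
  classical
  haveI := Fintype.ofFinite C
  have h := IsCyclic.card_pow_eq_one_le (α := C) (n := 2) two_pos
  by_contra hne
  have hsub : ({1, a, b} : Finset C) ⊆ Finset.univ.filter fun c : C => c ^ 2 = 1 := by
    intro c hc
    simp only [Finset.mem_insert, Finset.mem_singleton] at hc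
    refine Finset.mem_filter.mpr ⟨Finset.mem_univ _, ?_⟩
    rcases hc with rfl | rfl | rfl
    · exact one_pow 2
    · rw [← ha]; exact pow_orderOf_eq_one _
    · rw [← hb]; exact pow_orderOf_eq_one _
  have hcd := (Finset.card_le_card hsub).trans h
  rw [Finset.card_insert_of_notMem (by
    simp only [Finset.mem_insert, Finset.mem_singleton, not_or]
    exact ⟨fun e => ne_one_of_orderOf ha e.symm, fun e => ne_one_of_orderOf hb e.symm⟩),
    Finset.card_pair hne] at hcd
  omega

open CfsgLib.GW.Model CfsgLib.PSL2Max in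
/-- The other involutions centralising an involution are at most half as many as its centraliser. -/
theorem card_other_le (hodd : Odd q) (h3 : 3 < q) {w : PSL} (hw : orderOf w = 2) :
    2 * Nat.card {t : PSL // orderOf t = 2 ∧ t * w = w * t ∧ t ≠ w} ≤
      Nat.card (centralizer ({w} : Set PSL)) := by
  have hw2 := Involutions.mul_self_eq_one_of_orderOf hw
  obtain ⟨h2, h1⟩ := phi_invol hw2 (ne_one_of_orderOf hw)
  obtain ⟨U, hUc, -, hwU, hUle, -, -, hhalf, hc, -, -⟩ := invol_cent hodd h3 h2 h1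
  rw [comap_centralizer] at hc
  haveI : Finite (Matrix.ProjGenLinGroup (Fin 2) F) := Finite.of_surjective _ Matrix.ProjGenLinGroup.mk_surjective
  haveI := hUc
  set V := U.comap (phi (F := F))
  have hVC : V ≤ centralizer ({w} : Set PSL) := by
    rw [← comap_centralizer]
    exact Subgroup.comap_mono hUle
  have key : Nat.card ({t : PSL // orderOf t = 2 ∧ t * w = w * t ∧ t ≠ w} ⊕ V) ≤
      Nat.card (centralizer ({w} : Set PSL)) := by
    refine Nat.card_le_card_of_injective (Sum.elim
      (fun t => ⟨t.1, Subgroup.mem_centralizer_singleton_iff.mpr t.2.2.1⟩) fun v => ⟨v.1, hVC v.2⟩) ?_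
    refine Function.Injective.sumElim (fun a b e => Subtype.ext (congrArg Subtype.val e :))
      (fun a b e => Subtype.ext (congrArg Subtype.val e :)) fun t v e => t.2.2.2 ?_
    have e' : t.1 = v.1 := congrArg Subtype.val e
    have htU : phi t.1 ∈ U := by rw [e']; exact v.2
    refine phi_injective (congrArg Subtype.val (cyclic_invol_unique (a := (⟨_, htU⟩ : U)) (b := ⟨_, hwU⟩) ?_ ?_))
    · rw [Subgroup.orderOf_mk, orderOf_injective _ phi_injective, t.2.1]
    · rw [Subgroup.orderOf_mk, orderOf_injective _ phi_injective, hw]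
  rw [Nat.card_sum] at key
  omega

/-- **In `PSL(2,q)` less than a third of the pairs of involutions have product of even order.** -/
theorem psl_bound (hodd : Odd q) (h3 : 3 < q) (h8 : ¬ 8 ∣ Nat.card PSL)
    (hone : ∀ a b : PSL, orderOf a = 2 → orderOf b = 2 → IsConj a b) {z : PSL} (hz : orderOf z = 2) :
    nInv PSL < 3 * nOdd z := by
  classical
  obtain ⟨e, he, h4⟩ : ∃ e : ℤ, (e = 1 ∨ e = -1) ∧ (4 : ℤ) ∣ (q : ℤ) - e := by
    rw [Nat.odd_iff] at hodd
    rcases (by omega : q % 4 = 1 ∨ q % 4 = 3) with h | h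
    · exact ⟨1, Or.inl rfl, by omega⟩
    · exact ⟨-1, Or.inr rfl, by omega⟩
  set c := Nat.card (centralizer ({z} : Set PSL)) with hc
  have hcc : ∀ w : PSL, orderOf w = 2 → (Nat.card (centralizer ({w} : Set PSL)) : ℤ) = (q : ℤ) - e := fun w hw =>
    GW.Model.psl_card_centralizer hodd h3 he h4 (Involutions.mul_self_eq_one_of_orderOf hw) (ne_one_of_orderOf hw)
  have hcz : (c : ℤ) = (q : ℤ) - e := hcc z hz
  -- the class
  have hclass : Nat.card PSL = nInv PSL * c := card_eq_nInv_mul hone hz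
  -- the pairs of even order
  set Oth := fun w : PSL => {t : PSL // orderOf t = 2 ∧ t * w = w * t ∧ t ≠ w}
  set k := c / 2
  have hoth : ∀ w : PSL, orderOf w = 2 → Nat.card (Oth w) ≤ k := by
    intro w hw
    have h := card_other_le hodd h3 hw
    have h' : Nat.card (centralizer ({w} : Set PSL)) = c := by exact_mod_cast (hcc w hw).trans hcz.symm
    rw [h'] at h
    show Nat.card {t : PSL // orderOf t = 2 ∧ t * w = w * t ∧ t ≠ w} ≤ c / 2
    omega
  set B := {t : PSL // orderOf t = 2 ∧ ¬ Odd (orderOf (z * t))}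
  have hmid : ∀ t : B, orderOf (mid z t.1) = 2 ∧ mid z t.1 * z = z * mid z t.1 ∧ mid z t.1 ≠ z ∧
      t.1 * mid z t.1 = mid z t.1 * t.1 ∧ t.1 ≠ mid z t.1 := by
    intro t
    obtain ⟨h1, h2, h2'⟩ := mid_spec hz t.2.1 (Nat.not_odd_iff_even.mp t.2.2)
    have hne : z ≠ t.1 := fun e => t.2.2 (by
      rw [← e, Involutions.mul_self_eq_one_of_orderOf hz, orderOf_one]; exact odd_one)
    refine ⟨h1, h2, fun e => ne_one_of_orderOf t.2.1 ?_, h2'.symm, fun e => ne_one_of_orderOf hz ?_⟩
    · have h := mid_of_comm hz t.2.1 hne (by rw [e] at h2'; exact h2')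
      rw [e] at h
      exact mul_eq_left.mp h.symm
    · have h := mid_of_comm hz t.2.1 hne (by rw [← e] at h2; exact h2.symm)
      rw [← e] at h
      exact mul_eq_right.mp h.symm
  have hB : Nat.card B ≤ k * k := by
    refine le_trans (card_le_mul_of_fibres (k := k) (fun t : B => (⟨mid z t.1, (hmid t).1, (hmid t).2.1, (hmid t).2.2.1⟩ :
      Oth z)) fun w => ?_) (Nat.mul_le_mul_right _ (hoth z hz))
    refine le_trans (Nat.card_le_card_of_injective (fun t => (⟨t.1.1, t.1.2.1, ?_, ?_⟩ : Oth w.1)) ?_) (hoth _ w.2.1)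
    · rw [← show mid z t.1.1 = w.1 from congrArg Subtype.val t.2]; exact (hmid t.1).2.2.2.1
    · rw [← show mid z t.1.1 = w.1 from congrArg Subtype.val t.2]; exact (hmid t.1).2.2.2.2
    · exact fun a b e => Subtype.ext (Subtype.ext (congrArg Subtype.val e :))
  have hsum : nOdd z + Nat.card B = nInv PSL := card_and_add_card_and_not _ _
  -- the arithmetic
  have hcard := DicksonFull.card_psl (F := F)
  have hgcd : Nat.gcd 2 (q - 1) = 2 := Nat.gcd_eq_left (by rw [Nat.odd_iff] at hodd; omega)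
  rw [hgcd, hclass] at hcard
  have hcard' : (2 : ℤ) * ((nInv PSL : ℤ) * c) = (q : ℤ) * ((q : ℤ) ^ 2 - 1) := by
    have := congrArg (fun n : ℕ => (n : ℤ)) hcard
    push_cast [Nat.cast_sub (Nat.one_le_pow 2 q Fintype.card_pos)] at this
    exact this
  have he2 : e * e = 1 := by rcases he with rfl | rfl <;> rfl
  have hI : 2 * (nInv PSL : ℤ) = (q : ℤ) * ((q : ℤ) + e) := by
    refine mul_right_cancel₀ (b := (c : ℤ)) (by
      rw [hcz]; rcases he with rfl | rfl <;> omega) ?_
    rw [mul_assoc, hcard', hcz]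
    linear_combination (q : ℤ) * he2
  have hk : 2 * (k : ℤ) ≤ (q : ℤ) - e := by rw [← hcz]; exact_mod_cast (show 2 * (c / 2) ≤ c by omega)
  have hB' : 4 * (Nat.card B : ℤ) ≤ ((q : ℤ) - e) * ((q : ℤ) - e) := by
    have : (Nat.card B : ℤ) ≤ (k : ℤ) * k := by exact_mod_cast hB
    nlinarith [mul_le_mul hk hk (by positivity) (le_trans (by positivity) hk)]
  have hq : e = -1 → (11 : ℤ) ≤ q := by
    rintro rfl
    by_contra hlt
    have hq7 : q = 7 := by rw [Nat.odd_iff] at hodd; omega
    refine h8 ?_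
    have : c = 8 := by omega
    rw [hclass, this]
    exact dvd_mul_left 8 _
  have h3' : (3 : ℤ) < q := by exact_mod_cast h3
  have : 3 * (Nat.card B : ℤ) < 2 * (nInv PSL : ℤ) := by
    rw [hI]
    rcases he with rfl | rfl
    · nlinarith
    · nlinarith [hq rfl, mul_le_mul_of_nonneg_left (hq rfl) (show (0 : ℤ) ≤ q by omega)]
  omega

end ModelBound

section Four

universe u

variable {D : Type u} [Group D] [Finite D]

theorem psl_card_congr {H : Type*} [Group H] (f : H →* D) (hf : Function.Injective f)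
    (hr : ∀ t : D, orderOf t = 2 → ∃ h, f h = t) (z : H) : nInv H = nInv D ∧ nOdd z = nOdd (f z) := by
  constructor
  · refine Nat.card_eq_of_bijective (fun t => ⟨f t.1, by rw [orderOf_injective f hf]; exact t.2⟩)
      ⟨fun a b e => Subtype.ext (hf (congrArg Subtype.val e)), fun t => ?_⟩
    obtain ⟨h, hh⟩ := hr t.1 t.2
    exact ⟨⟨h, by rw [← orderOf_injective f hf, hh]; exact t.2⟩, Subtype.ext hh⟩
  · refine Nat.card_eq_of_bijective (fun t => ⟨f t.1, by rw [orderOf_injective f hf]; exact t.2.1,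
      by rw [← map_mul, orderOf_injective f hf]; exact t.2.2⟩)
      ⟨fun a b e => Subtype.ext (hf (congrArg Subtype.val e)), fun t => ?_⟩
    obtain ⟨h, hh⟩ := hr t.1 t.2.1
    exact ⟨⟨h, by rw [← orderOf_injective f hf, hh]; exact t.2.1,
      by rw [← orderOf_injective f hf, map_mul, hh]; exact t.2.2⟩, Subtype.ext hh⟩

/-- The group without core and without normal Sylow subgroup contains a `PSL(2,q)` with all involutions. -/
theorem exists_psl (hO : oddCore D = ⊥) (T : Sylow 2 D) (hT4 : Nat.card (T : Subgroup D) = 4)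
    (hsq : ∀ t ∈ (T : Subgroup D), t * t = 1) (hone : ∀ a b : D, orderOf a = 2 → orderOf b = 2 → IsConj a b)
    {z : D} (hz : orderOf z = 2) (hTn : ¬ (T : Subgroup D).Normal) :
    ∃ (F : Type) (_ : Field F) (_ : Fintype F) (f : Matrix.ProjectiveSpecialLinearGroup (Fin 2) F →* D),
      Function.Injective f ∧ Odd (Fintype.card F) ∧ 3 < Fintype.card F ∧
      ¬ 8 ∣ Nat.card (Matrix.ProjectiveSpecialLinearGroup (Fin 2) F) ∧
      (∀ a b : Matrix.ProjectiveSpecialLinearGroup (Fin 2) F, orderOf a = 2 → orderOf b = 2 → IsConj a b) ∧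
      ∀ t : D, orderOf t = 2 → ∃ h, f h = t := by
  classical
  haveI : Fact (Nat.Prime 2) := ⟨Nat.prime_two⟩
  obtain ⟨n, hn⟩ := GW.exists_perfect_derived D
  set P := derivedSeries D n with hP
  haveI := hn
  haveI : P.Normal := derivedSeries_normal D n
  have hPne : P ≠ ⊥ := by
    intro hbot
    have hD : (⊤ : Subgroup D) ≠ ⊥ := fun e => ne_one_of_orderOf hz (Subgroup.mem_bot.mp (e ▸ Subgroup.mem_top z))
    -- the last non-trivial term is abelian
    have hex : ∃ m, derivedSeries D m = ⊥ := ⟨n, hbot⟩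
    obtain ⟨m, hm⟩ : ∃ m, Nat.find hex = m + 1 := by
      refine ⟨Nat.find hex - 1, ?_⟩
      have : Nat.find hex ≠ 0 := fun h => hD (by
        have := Nat.find_spec hex
        rwa [h, derivedSeries_zero] at this)
      omega
    set A := derivedSeries D m
    haveI hAn : A.Normal := derivedSeries_normal D m
    have hA1 : A ≠ ⊥ := Nat.find_min hex (by omega)
    have hAc : ∀ a ∈ A, ∀ b ∈ A, a * b = b * a := by
      have h := Nat.find_spec hex
      rw [hm, derivedSeries_succ, Subgroup.commutator_eq_bot_iff_le_centralizer] at h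
      exact fun a ha b hb => (Subgroup.mem_centralizer_iff.mp (h ha) b hb).symm
    have hA2 : IsPGroup 2 A := by
      have hodd1 : ∀ a ∈ A, Odd (orderOf a) → a = 1 := by
        intro a ha hao
        have hle : zpowers (⟨a, ha⟩ : A) ≤ oddCore A := by
          haveI : (zpowers (⟨a, ha⟩ : A)).Normal := ⟨fun x hx g => by
            have h : g * x * g⁻¹ = x := Subtype.ext (by
              show (g : D) * x * (g : D)⁻¹ = x
              rw [hAc _ g.2 _ x.2, mul_inv_cancel_right])
            rwa [h]⟩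
          exact CfsgLib.le_oddCore (by rw [Nat.card_zpowers, Subgroup.orderOf_mk]; exact hao)
        have h := CfsgLib.ZStar.map_pPrimeCore_le_of_normal A
          (Subgroup.mem_map_of_mem A.subtype (hle (mem_zpowers _)))
        rw [show pPrimeCore 2 D = ⊥ from hO] at h
        exact h
      intro a
      obtain ⟨j, r, hr, hjr⟩ := Nat.exists_eq_pow_mul_and_not_dvd (orderOf_pos a).ne' 2 (by norm_num)
      refine ⟨j, Subtype.ext ?_⟩
      show (a : D) ^ 2 ^ j = 1
      refine hodd1 _ (A.pow_mem a.2 _) ?_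
      rw [← Subgroup.coe_pow, Subgroup.orderOf_coe, orderOf_pow, hjr,
        Nat.gcd_eq_right (Dvd.intro r rfl), Nat.mul_div_cancel_left _ (by positivity)]
      exact Nat.odd_iff.mpr (Nat.two_dvd_ne_zero.mp hr)
    have hAT : A ≤ (T : Subgroup D) := by
      obtain ⟨Q, hQ⟩ := hA2.exists_le_sylow
      obtain ⟨g, rfl⟩ := MulAction.exists_smul_eq D T Q
      intro a ha
      obtain ⟨s, hs, e⟩ := hQ (hAn.conj_mem a ha g)
      change g * s * g⁻¹ = g * a * g⁻¹ at e
      rwa [← mul_left_cancel (mul_right_cancel e)]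
    obtain ⟨a, ha, ha1⟩ := (Subgroup.bot_or_exists_ne_one A).resolve_left hA1
    have hall : ∀ t : D, orderOf t = 2 → t ∈ A := fun t ht => by
      obtain ⟨g, rfl⟩ := isConj_iff.mp (hone a t (orderOf_two_of_sq (hsq a (hAT ha)) ha1) ht)
      exact hAn.conj_mem a ha g
    refine hTn ((Subgroup.eq_of_le_of_card_ge hAT ?_) ▸ hAn)
    refine Nat.card_le_card_of_injective (fun t : (T : Subgroup D) => (⟨t.1, ?_⟩ : A))
      fun a b e => Subtype.ext (congrArg Subtype.val e :)
    by_cases h : t.1 = 1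
    · rw [h]; exact one_mem _
    · exact hall _ (orderOf_two_of_sq (hsq _ t.2) h)
  have hPO : oddCore P = ⊥ := by
    have h := CfsgLib.ZStar.map_pPrimeCore_le_of_normal P
    rw [show pPrimeCore 2 D = ⊥ from hO, le_bot_iff, Subgroup.map_eq_bot_iff_of_injective _ P.subtype_injective] at h
    exact h
  obtain ⟨a, ha⟩ : ∃ a : P, orderOf a = 2 := exists_prime_orderOf_dvd_card' 2 (by
    rw [← even_iff_two_dvd, ← Nat.not_odd_iff_even]
    exact fun ho => hPne (le_bot_iff.mp (hO ▸ CfsgLib.le_oddCore ho)))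
  have hinP : ∀ t : D, orderOf t = 2 → t ∈ P := fun t ht => by
    obtain ⟨g, rfl⟩ := isConj_iff.mp (hone a t (by rw [Subgroup.orderOf_coe]; exact ha) ht)
    exact (inferInstance : P.Normal).conj_mem _ a.2 g
  have hTP : (T : Subgroup D) ≤ P := fun t ht => by
    by_cases h : t = 1
    · rw [h]; exact one_mem _
    · exact hinP t (orderOf_two_of_sq (hsq t ht) h)
  set T' := T.subtype hTP
  have e4 : Nat.card (T' : Subgroup P) = 4 := by
    rw [← hT4]
    exact Nat.card_congr (Subgroup.subgroupOfEquivOfLe hTP).toEquiv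
  haveI : Nontrivial (T' : Subgroup P) := Finite.one_lt_card_iff_nontrivial.mp (by rw [e4]; norm_num)
  haveI : IsKleinFour (T' : Subgroup P) := by
    refine ⟨e4, (Monoid.exponent_eq_prime_iff Nat.prime_two).mpr fun g hg => ?_⟩
    exact orderOf_two_of_sq (Subtype.ext (Subtype.ext (hsq _ g.2))) hg
  obtain ⟨eT⟩ : Nonempty ((T' : Subgroup P) ≃* DihedralGroup 2) := IsKleinFour.nonempty_mulEquiv
  have hd : GW.GWDihedral P := ⟨T', 2, le_rfl, ⟨eT⟩⟩
  have h8 : ¬ 8 ∣ Nat.card P := by
    intro h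
    obtain ⟨Q, hQ⟩ := Sylow.exists_subgroup_card_pow_prime 2 (n := 3) h
    obtain ⟨R, hR⟩ := (IsPGroup.of_card hQ).exists_le_sylow
    have h1 := Subgroup.card_le_of_le hR
    obtain ⟨g, hg⟩ := MulAction.exists_smul_eq P T' R
    have h2 : Nat.card (R : Subgroup P) = 4 := by
      rw [← e4]; exact Nat.card_congr (T'.equiv R).toEquiv.symm
    omega
  rcases Cfsg.Agent.S0483.result T' 2 le_rfl ⟨eT⟩ with ⟨F, _, _, hodd, h3, ⟨e⟩⟩ | h7
  · let e' : P ≃* Matrix.ProjectiveSpecialLinearGroup (Fin 2) F :=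
      ((QuotientGroup.quotientMulEquivOfEq hPO).trans QuotientGroup.quotientBot).symm.trans e
    have h8' : ¬ 8 ∣ Nat.card (Matrix.ProjectiveSpecialLinearGroup (Fin 2) F) := by
      rwa [← Nat.card_congr e'.toEquiv]
    have hone' : ∀ a b : Matrix.ProjectiveSpecialLinearGroup (Fin 2) F,
        orderOf a = 2 → orderOf b = 2 → IsConj a b := fun a b ha hb => by
      have h := hd.perfect_all_conj (e'.symm a) (e'.symm b) (by rw [MulEquiv.orderOf_eq]; exact ha)
        (by rw [MulEquiv.orderOf_eq]; exact hb)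
      simpa using e'.toMonoidHom.map_isConj h
    set f := P.subtype.comp e'.symm.toMonoidHom
    have hf : Function.Injective f := P.subtype_injective.comp e'.symm.injective
    have hfr : ∀ t : D, orderOf t = 2 → ∃ h, f h = t := fun t ht => ⟨e' ⟨t, hinP t ht⟩, by simp [f]⟩
    exact ⟨F, inferInstance, inferInstance, f, hf, hodd, h3, h8', hone', hfr⟩
  · exfalso
    obtain ⟨e⟩ := h7
    refine h8 ?_
    rw [← Nat.card_congr ((QuotientGroup.quotientMulEquivOfEq hPO).trans QuotientGroup.quotientBot).toEquiv,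
      Nat.card_congr e.toEquiv, nat_card_alternatingGroup, Nat.card_eq_fintype_card, Fintype.card_fin]
    decide

/-- The case without core. -/
theorem four_count (hO : oddCore D = ⊥) (T : Sylow 2 D) (hT4 : Nat.card (T : Subgroup D) = 4)
    (hsq : ∀ t ∈ (T : Subgroup D), t * t = 1) (hone : ∀ a b : D, orderOf a = 2 → orderOf b = 2 → IsConj a b)
    {z : D} (hz : orderOf z = 2) :
    (¬ (T : Subgroup D).Normal → nInv D < 3 * nOdd z) ∧ ((T : Subgroup D).Normal → nInv D ≤ 3 * nOdd z) := by
  classical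
  haveI : Fact (Nat.Prime 2) := ⟨Nat.prime_two⟩
  constructor
  · intro hTn
    obtain ⟨F, _, _, f, hf, hodd, h3, h8', hone', hfr⟩ := exists_psl hO T hT4 hsq hone hz hTn
    obtain ⟨x, rfl⟩ := hfr z hz
    rw [← (psl_card_congr f hf hfr x).1, ← (psl_card_congr f hf hfr x).2]
    exact psl_bound hodd h3 h8' hone' (by rw [← orderOf_injective f hf]; exact hz)
  · intro hTn
    have hall : ∀ t : D, orderOf t = 2 → t ∈ (T : Subgroup D) := fun t ht => by
      obtain ⟨Q, hQ⟩ := (IsPGroup.of_card (p := 2) (n := 1) (by rw [Nat.card_zpowers, ht, pow_one]) :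
        IsPGroup 2 (zpowers t)).exists_le_sylow
      obtain ⟨g, rfl⟩ := MulAction.exists_smul_eq D T Q
      obtain ⟨s, hs, e⟩ := hQ (mem_zpowers t)
      rw [← e]
      exact hTn.conj_mem s hs g
    have h1 : nInv D ≤ 3 := by
      have h : nInv D ≤ Nat.card {t : (T : Subgroup D) // t ≠ 1} :=
        Nat.card_le_card_of_injective (fun t => ⟨⟨t.1, hall _ t.2⟩, fun e => ne_one_of_orderOf t.2
          (congrArg Subtype.val e)⟩) fun a b e => Subtype.ext (congrArg (fun x => x.1.1) e)
      haveI := Fintype.ofFinite (T : Subgroup D)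
      rw [Nat.card_eq_fintype_card (α := {t : (T : Subgroup D) // t ≠ 1}), Fintype.card_subtype_compl,
        Fintype.card_subtype_eq, ← Nat.card_eq_fintype_card, hT4] at h
      exact h
    have h2 : 0 < nOdd z := by
      haveI : Nonempty {t : D // orderOf t = 2 ∧ Odd (orderOf (z * t))} :=
        ⟨⟨z, hz, by rw [Involutions.mul_self_eq_one_of_orderOf hz, orderOf_one]; exact odd_one⟩⟩
      exact Nat.card_pos
    omega

open scoped MatrixGroups in
/-- **A group with four-group centralisers of involutions has order sixty.** -/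
theorem card_eq_sixty (hO : oddCore D = ⊥) (T : Sylow 2 D) (hT4 : Nat.card (T : Subgroup D) = 4)
    (hsq : ∀ t ∈ (T : Subgroup D), t * t = 1) (hone : ∀ a b : D, orderOf a = 2 → orderOf b = 2 → IsConj a b)
    {z : D} (hz : orderOf z = 2) (hTn : ¬ (T : Subgroup D).Normal)
    (hc : Nat.card (centralizer ({z} : Set D)) = 4) : Nat.card D = 60 := by
  obtain ⟨F, _, _, f, hf, hodd, h3, -, hone', hfr⟩ := exists_psl hO T hT4 hsq hone hz hTn
  obtain ⟨x, rfl⟩ := hfr z hz
  have hx : orderOf x = 2 := by rw [← orderOf_injective f hf]; exact hz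
  obtain ⟨e, he, h4⟩ : ∃ e : ℤ, (e = 1 ∨ e = -1) ∧ (4 : ℤ) ∣ (Fintype.card F : ℤ) - e := by
    rw [Nat.odd_iff] at hodd
    rcases (by omega : Fintype.card F % 4 = 1 ∨ Fintype.card F % 4 = 3) with h | h
    · exact ⟨1, Or.inl rfl, by omega⟩
    · exact ⟨-1, Or.inr rfl, by omega⟩
  have hcc := GW.Model.psl_card_centralizer hodd h3 he h4 (Involutions.mul_self_eq_one_of_orderOf hx)
    (ne_one_of_orderOf hx)
  have hle : Nat.card (centralizer ({x} : Set (Matrix.ProjectiveSpecialLinearGroup (Fin 2) F))) ≤ 4 := by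
    rw [← hc]
    refine Nat.card_le_card_of_injective (fun c => ⟨f c.1, Subgroup.mem_centralizer_singleton_iff.mpr ?_⟩)
      fun a b e => Subtype.ext (hf (congrArg Subtype.val e))
    rw [← map_mul, ← map_mul, Subgroup.mem_centralizer_singleton_iff.mp c.2]
  have hq : Fintype.card F = 5 ∧ Nat.card (centralizer ({x} : Set (Matrix.ProjectiveSpecialLinearGroup (Fin 2) F))) = 4 := by
    rw [Nat.odd_iff] at hodd
    rcases he with rfl | rfl <;> omega
  have hcard := DicksonFull.card_psl (F := F)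
  rw [hq.1] at hcard
  norm_num at hcard
  rw [card_eq_nInv_mul hone' hx, hq.2] at hcard
  rw [card_eq_nInv_mul hone hz, hc, ← (psl_card_congr f hf hfr x).1]
  omega

/-- **At most three times as many involutions, with equality only for a normal Sylow subgroup modulo the core.** -/
theorem four_count_core (T : Sylow 2 D) (hT4 : Nat.card (T : Subgroup D) = 4)
    (hsq : ∀ t ∈ (T : Subgroup D), t * t = 1) (hone : ∀ a b : D, orderOf a = 2 → orderOf b = 2 → IsConj a b)
    {z : D} (hz : orderOf z = 2) :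
    nInv D ≤ 3 * nOdd z ∧
      (3 * nOdd z ≤ nInv D → ∀ g : D, ∀ t ∈ (T : Subgroup D), g * t * g⁻¹ ∈ oddCore D ⊔ (T : Subgroup D)) := by
  classical
  haveI : Fact (Nat.Prime 2) := ⟨Nat.prime_two⟩
  haveI hOn : (oddCore D).Normal := inferInstanceAs (pPrimeCore 2 D).Normal
  set π := QuotientGroup.mk' (oddCore D)
  have hπ : Function.Surjective π := QuotientGroup.mk'_surjective _
  have hOodd : ∀ x ∈ oddCore D, Odd (orderOf x) := fun x hx =>
    CfsgLib.odd_card_oddCore.of_dvd_nat (Subgroup.orderOf_dvd_natCard _ hx)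
  have hord : ∀ t : D, orderOf t = 2 → orderOf (π t) = 2 := fun t ht => by
    refine orderOf_two_of_sq (by rw [← map_mul, Involutions.mul_self_eq_one_of_orderOf ht, map_one]) fun e => ?_
    have := hOodd t ((QuotientGroup.eq_one_iff t).mp e)
    rw [ht] at this
    norm_num at this
  have hparity : ∀ y : D, Odd (orderOf y) ↔ Odd (orderOf (π y)) := by
    refine fun y => ⟨fun h => h.of_dvd_nat (orderOf_map_dvd π y), fun h => ?_⟩
    have h1 : y ^ orderOf (π y) ∈ oddCore D :=
      (QuotientGroup.eq_one_iff _).mp (show π (y ^ orderOf (π y)) = 1 by rw [map_pow, pow_orderOf_eq_one])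
    refine (h.mul (hOodd _ h1)).of_dvd_nat (orderOf_dvd_of_pow_eq_one ?_)
    rw [pow_mul, pow_orderOf_eq_one]
  set Tb := T.mapSurjective hπ
  have hTb : ∀ y ∈ (Tb : Subgroup (D ⧸ oddCore D)), ∃ t ∈ (T : Subgroup D), π t = y := fun y hy => hy
  have hinj : Set.InjOn π (T : Subgroup D) := fun a ha b hb e => by
    have h := QuotientGroup.eq.mp e
    have hab : a⁻¹ * b ∈ (T : Subgroup D) := mul_mem (inv_mem ha) hb
    refine inv_mul_eq_one.mp (by_contra fun hne => ?_)
    have := hOodd _ h
    rw [orderOf_two_of_sq (hsq _ hab) hne] at this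
    norm_num at this
  have hTb4 : Nat.card (Tb : Subgroup (D ⧸ oddCore D)) = 4 := by
    rw [← hT4]
    exact (Nat.card_eq_of_bijective (fun t : (T : Subgroup D) => (⟨π t.1, Subgroup.mem_map_of_mem π t.2⟩ : (Tb : Subgroup (D ⧸ oddCore D))))
      ⟨fun a b e => Subtype.ext (hinj a.2 b.2 (congrArg Subtype.val e :)), fun y => by
        obtain ⟨t, ht, e⟩ := hTb y.1 y.2
        exact ⟨⟨t, ht⟩, Subtype.ext e⟩⟩).symm
  have hsqb : ∀ y ∈ (Tb : Subgroup (D ⧸ oddCore D)), y * y = 1 := fun y hy => by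
    obtain ⟨t, ht, rfl⟩ := hTb y hy
    rw [← map_mul, hsq t ht, map_one]
  have hlift : ∀ y : D ⧸ oddCore D, orderOf y = 2 → ∃ t : D, orderOf t = 2 ∧ π t = y := by
    intro y hy
    obtain ⟨Q, hQ⟩ := (IsPGroup.of_card (p := 2) (n := 1) (by rw [Nat.card_zpowers, hy, pow_one]) :
      IsPGroup 2 (zpowers y)).exists_le_sylow
    obtain ⟨g, hg⟩ := MulAction.exists_smul_eq (D ⧸ oddCore D) Tb Q
    subst hg
    obtain ⟨g, rfl⟩ := hπ g
    obtain ⟨s, hs, e⟩ := hQ (mem_zpowers y)
    obtain ⟨t, ht, rfl⟩ := hTb s hs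
    change π g * π t * (π g)⁻¹ = y at e
    rw [← map_mul, ← map_inv, ← map_mul] at e
    refine ⟨g * t * g⁻¹, ?_, e⟩
    rw [Involutions.orderOf_conj]
    refine orderOf_two_of_sq (hsq t ht) fun h => ?_
    rw [h, mul_one, mul_inv_cancel, map_one] at e
    exact ne_one_of_orderOf hy e.symm
  have honeb : ∀ a b : D ⧸ oddCore D, orderOf a = 2 → orderOf b = 2 → IsConj a b := fun a b ha hb => by
    obtain ⟨s, hs, rfl⟩ := hlift a ha
    obtain ⟨t, ht, rfl⟩ := hlift b hb
    exact π.map_isConj (hone s t hs ht)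
  set fib := fun y : D ⧸ oddCore D => Nat.card {t : D // orderOf t = 2 ∧ π t = y} with hfib
  have hfibeq : ∀ y, orderOf y = 2 → fib y = fib (π z) := by
    intro y hy
    obtain ⟨g, hg⟩ := isConj_iff.mp (honeb (π z) y (hord z hz) hy)
    obtain ⟨g, rfl⟩ := hπ g
    refine (Nat.card_congr (Equiv.subtypeEquiv (MulAut.conj g).toEquiv fun t => ?_)).symm
    show orderOf t = 2 ∧ π t = π z ↔ orderOf (g * t * g⁻¹) = 2 ∧ π (g * t * g⁻¹) = y
    rw [Involutions.orderOf_conj, map_mul, map_mul, map_inv, ← hg]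
    simp
  have hpos : 0 < fib (π z) := by
    haveI : Nonempty {t : D // orderOf t = 2 ∧ π t = π z} := ⟨⟨z, hz, rfl⟩⟩
    exact Nat.card_pos
  have hI : nInv D = nInv (D ⧸ oddCore D) * fib (π z) := by
    refine card_eq_mul_of_fibres (fun t : {t : D // orderOf t = 2} => (⟨π t.1, hord _ t.2⟩ :
      {y : D ⧸ oddCore D // orderOf y = 2})) fun y => ?_
    rw [← hfibeq y.1 y.2]
    exact Nat.card_congr
      { toFun := fun t => ⟨t.1.1, t.1.2, congrArg Subtype.val t.2⟩
        invFun := fun t => ⟨⟨t.1, t.2.1⟩, Subtype.ext t.2.2⟩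
        left_inv := fun _ => rfl
        right_inv := fun _ => rfl }
  have hJ : nOdd z = nOdd (π z) * fib (π z) := by
    refine card_eq_mul_of_fibres (fun t : {t : D // orderOf t = 2 ∧ Odd (orderOf (z * t))} =>
      (⟨π t.1, hord _ t.2.1, by rw [← map_mul]; exact (hparity _).mp t.2.2⟩ :
      {y : D ⧸ oddCore D // orderOf y = 2 ∧ Odd (orderOf (π z * y))})) fun y => ?_
    rw [← hfibeq y.1 y.2.1]
    exact Nat.card_congr
      { toFun := fun t => ⟨t.1.1, t.1.2.1, congrArg Subtype.val t.2⟩
        invFun := fun t => ⟨⟨t.1, t.2.1, (hparity _).mpr (by rw [map_mul, t.2.2]; exact y.2.2)⟩,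
          Subtype.ext t.2.2⟩
        left_inv := fun _ => rfl
        right_inv := fun _ => rfl }
  have hOb : oddCore (D ⧸ oddCore D) = ⊥ := CfsgLib.pPrimeCore_quotient_eq_bot 2
  obtain ⟨h1, h2⟩ := four_count hOb Tb hTb4 hsqb honeb (hord z hz)
  refine ⟨?_, fun hle g t ht => ?_⟩
  · rw [hI, hJ, ← mul_assoc]
    refine Nat.mul_le_mul_right _ ?_
    by_cases hn : (Tb : Subgroup (D ⧸ oddCore D)).Normal
    · exact h2 hn
    · exact (h1 hn).le
  · have hn : (Tb : Subgroup (D ⧸ oddCore D)).Normal := by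
      by_contra hn
      have := Nat.mul_lt_mul_of_pos_right (h1 hn) hpos
      rw [hI, hJ, ← mul_assoc] at hle
      omega
    obtain ⟨s, hs, e⟩ := hTb _ (hn.conj_mem (π t) ⟨t, ht, rfl⟩ (π g))
    rw [← map_inv, ← map_mul, ← map_mul] at e
    have := mul_mem (Subgroup.mem_sup_right (S := oddCore D) hs)
      (Subgroup.mem_sup_left (T := (T : Subgroup D)) (QuotientGroup.eq.mp e))
    rwa [mul_inv_cancel_left] at this

end Four

end CfsgLib.L34Sylow
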