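import Cfsg.Agent.Lib.L34Sylow.CentX
import Cfsg.Agent.Lib.L34Sylow.FourInvol
import Cfsg.Agent.Lib.TransferApps
import Cfsg.Agent.Lib.Transfer

/-!
The centraliser of an outer involution when all multipliers occur and neither piece is fused.

Blueprint: `blueprint/S3198.md`, section 4 (a,a) III.
-/

set_option autoImplicit false
set_option linter.unusedSectionVars false
set_option linter.style.haveILetI false

namespace CfsgLib.L34Sylow

open Subgroup Cfsg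
open scoped commutatorElement

/-- The number of conjugates of `z` centralising `x`. -/
noncomputable def nI {G : Type*} [Group G] (z x : G) : ℕ := Nat.card {t : G // IsConj z t ∧ t * x = x * t}

/-- The number of conjugates of `z` centralising `x` with product of odd order with `z`. -/
noncomputable def nJ {G : Type*} [Group G] (z x : G) : ℕ :=
  Nat.card {t : G // IsConj z t ∧ t * x = x * t ∧ Odd (orderOf (z * t))}

theorem odd_card_sup {H : Type*} [Group H] [Finite H] {K R : Subgroup H} [K.Normal] (hK : Odd (Nat.card K))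
    (hR : Odd (Nat.card R)) : Odd (Nat.card ↥(K ⊔ R)) := by
  have h := (K.subgroupOf (K ⊔ R)).card_mul_index
  rw [Nat.card_congr (Subgroup.subgroupOfEquivOfLe le_sup_left).toEquiv] at h
  change Nat.card K * K.relIndex (K ⊔ R) = _ at h
  rw [Subgroup.relIndex_sup_left] at h
  rw [← h]
  exact hK.mul (hR.of_dvd_nat (Subgroup.relIndex_dvd_card K R))

/-- Frattini's argument for a two-group that is normal modulo a normal subgroup of odd order. -/
theorem frattini_odd {H : Type*} [Group H] [Finite H] {O P : Subgroup H} [O.Normal] (hO : Odd (Nat.card O))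
    (hP : IsPGroup 2 P) (hn : (O ⊔ P).Normal) (g : H) :
    ∃ o ∈ O, ∃ n ∈ normalizer (P : Set H), g = o * n := by
  haveI : Fact (Nat.Prime 2) := ⟨Nat.prime_two⟩
  haveI := hn
  set M := O ⊔ P with hM
  let T : Sylow 2 M :=
    { toSubgroup := P.subgroupOf M
      isPGroup' := hP.comap_subtype
      is_maximal' := fun {R} hR hle => by
        refine le_antisymm (fun r hr => ?_) hle
        obtain ⟨o, ho, p, hp, e⟩ := Subgroup.mem_sup_of_normal_left.mp r.2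
        have hpR : (⟨p, le_sup_right (a := O) hp⟩ : M) ∈ R := hle hp
        have hoR : (⟨o, le_sup_left (b := P) ho⟩ : M) ∈ R := by
          have := mul_mem hr (inv_mem hpR)
          convert this using 1
          exact Subtype.ext (by push_cast; rw [← e, mul_inv_cancel_right])
        have h1 : (⟨o, le_sup_left (b := P) ho⟩ : M) = 1 := by
          obtain ⟨k, hk⟩ := hR ⟨_, hoR⟩
          have hk' : o ^ 2 ^ k = 1 := congrArg (fun x : R => ((x : M) : H)) hk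
          refine Subtype.ext (orderOf_eq_one_iff.mp (Nat.eq_one_of_dvd_coprimes
            ((Nat.coprime_two_left.mpr hO).pow_left k) (orderOf_dvd_of_pow_eq_one hk')
            (Subgroup.orderOf_dvd_natCard _ ho)))
        rw [Subgroup.mem_subgroupOf, ← e, show o = 1 from congrArg Subtype.val h1, one_mul]
        exact hp }
  have h := Sylow.normalizer_sup_eq_top T
  have hT : (T : Subgroup M).map M.subtype = P := by
    rw [show (T : Subgroup M) = P.subgroupOf M from rfl, Subgroup.subgroupOf_map_subtype,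
      inf_of_le_left (le_sup_right : P ≤ M)]
  rw [hT, hM, ← sup_assoc, sup_comm (normalizer (P : Set H)) O, sup_assoc,
    sup_of_le_left (Subgroup.le_normalizer (H := P))] at h
  obtain ⟨o, ho, n, hn', e⟩ := Subgroup.mem_sup_of_normal_left.mp (h.symm ▸ Subgroup.mem_top g)
  exact ⟨o, ho, n, hn', e.symm⟩

namespace Base

variable {G : Type*} [Group G] [Finite G] {F : Type*} [Field F] (B : Base G F)

/-- All multipliers occur in the normaliser. -/
def Full : Prop := ∀ l m : F, l ≠ 0 → m ≠ 0 → B.InH l m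

theorem Full.swap (h : B.Full) : B.swap.Full := fun l m hl hm => B.inH_swap.mpr (h m l hm hl)

theorem pt_c {z : G} (hz : z ∈ B.Z) : ∃ c : F, B.pt ⟨0, 0, c⟩ = z := by
  obtain ⟨u, ha, hb, rfl⟩ := hz
  exact ⟨u.c, by rw [show u = ⟨0, 0, u.c⟩ from U.ext ha hb rfl]⟩

theorem c_ne_zero {c : F} (h : B.pt ⟨0, 0, c⟩ ≠ 1) : c ≠ 0 := fun e => h (by
  rw [e]; exact map_one B.pt)

/-- An element fixing an outer involution and scaling the centre. -/
theorem exists_scale (hfull : B.Full) {x : G} (hx : x ∈ B.E₁) (hxZ : x ∉ B.Z) {m : F} (hm : m ≠ 0) :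
    ∃ n ∈ normalizer (B.E₁ : Set G), n * x = x * n ∧
      ∀ c : F, n * B.pt ⟨0, 0, c⟩ * n⁻¹ = B.pt ⟨0, 0, m * c⟩ := by
  obtain ⟨k, hk, hA⟩ := hfull 1 m one_ne_zero hm
  obtain ⟨u, hu, rfl⟩ := id hx
  have hkx : k * B.pt u * k⁻¹ * (B.pt u)⁻¹ ∈ B.Z := by
    obtain ⟨v, hv, hva, hvb⟩ := hA.2.2 u
    rw [hv, ← map_inv, ← map_mul, B.pt_mem_Z]
    simp [hva, hvb, hu]
  obtain ⟨s, hs, hsx⟩ := B.exists_shift_fix hx hxZ hkx
  refine ⟨s * k, mul_mem (B.S_le_normalizer₁ (B.E₂_le hs)) (B.normalizer_S_le₁ hk),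
    mul_inv_eq_iff_eq_mul.mp hsx, fun c => ?_⟩
  calc s * k * B.pt ⟨0, 0, c⟩ * (s * k)⁻¹ = s * (k * B.pt ⟨0, 0, c⟩ * k⁻¹) * s⁻¹ := by group
    _ = B.pt ⟨0, 0, m * c⟩ := by
      rw [hA.conj_Z B hk, one_mul, (B.S_le_stab₁ (B.E₂_le hs)).2.1 _ (B.pt_mem_Z.mpr ⟨rfl, rfl⟩)]

theorem isConj_Z (hfull : B.Full) {z z' : G} (hz : z ∈ B.Z) (hz1 : z ≠ 1) (hz' : z' ∈ B.Z) (hz'1 : z' ≠ 1) :
    IsConj z z' := by
  obtain ⟨c, rfl⟩ := B.pt_c hz
  obtain ⟨c', rfl⟩ := B.pt_c hz'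
  obtain ⟨k, hk, hA⟩ := hfull 1 (c' / c) one_ne_zero (div_ne_zero (B.c_ne_zero hz'1) (B.c_ne_zero hz1))
  exact isConj_iff.mpr ⟨k, by rw [hA.conj_Z B hk, one_mul, div_mul_cancel₀ _ (B.c_ne_zero hz1)]⟩

/-- Conjugates of a central involution in the Sylow subgroup are central. -/
theorem type_Z (h1 : ¬ B.Fused₁) (h2 : ¬ B.swap.Fused₁) {z s : G} (hz : z ∈ B.Z) (hzs : IsConj z s)
    (hs : s ∈ (B.S : Subgroup G)) : s ∈ B.Z := by
  obtain ⟨g, rfl⟩ := isConj_iff.mp hzs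
  have hsq : g * z * g⁻¹ * (g * z * g⁻¹) = 1 := by
    rw [show g * z * g⁻¹ * (g * z * g⁻¹) = g * (z * z) * g⁻¹ by group, B.sq_E₁ (B.Z_le₁ hz)]; group
  rcases B.mem_E_of_sq hs hsq with h | h
  · exact B.not_fused_conj h1 hz h
  · exact B.swap_Z ▸ B.swap.not_fused_conj h2 (B.swap_Z.symm ▸ hz) (B.swap_E₁.symm ▸ h)

/-- An involution centralising an outer involution is conjugate into the piece. -/
theorem inv_cent_x (h1 : ¬ B.Fused₁) {x t : G} (hx : x ∈ B.E₁) (hxZ : x ∉ B.Z) (ht : orderOf t = 2)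
    (htx : t * x = x * t) : ∃ c, c * x = x * c ∧ ∃ e ∈ B.E₁, t = c * e * c⁻¹ := by
  obtain ⟨c, hc, hle⟩ := B.exists_conj_E₁ h1 hx hxZ (R := zpowers t)
    (IsPGroup.of_card (p := 2) (n := 1) (by rw [Nat.card_zpowers, ht, pow_one]))
    (zpowers_le.mpr (Subgroup.mem_centralizer_singleton_iff.mpr htx))
  refine ⟨c⁻¹, Subgroup.mem_centralizer_singleton_iff.mp (inv_mem hc), c * t * c⁻¹,
    hle (conj_mem_cj (mem_zpowers t)), by group⟩

/-- The residual of the centraliser. -/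
def Dx (x : G) : Subgroup G :=
  (pResidual 2 (centralizer ({x} : Set G))).map (centralizer ({x} : Set G)).subtype

theorem Dx_comm {x d : G} (h : d ∈ Dx x) : d * x = x * d :=
  Subgroup.mem_centralizer_singleton_iff.mp (Subgroup.map_subtype_le _ h)

theorem Dx_conj {x c d : G} (hc : c * x = x * c) (hd : d ∈ Dx x) : c * d * c⁻¹ ∈ Dx x := by
  obtain ⟨d, hd, rfl⟩ := hd
  haveI : (pResidual 2 (centralizer ({x} : Set G))).Normal := inferInstance
  exact ⟨_, Subgroup.Normal.conj_mem inferInstance d hd ⟨c, Subgroup.mem_centralizer_singleton_iff.mpr hc⟩, rfl⟩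

theorem Dx_inter (h1 : ¬ B.Fused₁) (hfull : B.Full) {x e : G} (hx : x ∈ B.E₁) (hxZ : x ∉ B.Z) (he : e ∈ B.E₁) :
    e ∈ Dx x ↔ e ∈ B.Z := by
  haveI := two_fact
  set C := centralizer ({x} : Set G)
  have hC : B.E₁ ≤ C := fun a ha => Subgroup.mem_centralizer_singleton_iff.mpr (B.comm_E₁ ha hx)
  obtain ⟨P, hP⟩ := B.exists_sylow_E₁ h1 hx hxZ hC le_rfl
  have hab : IsMulCommutative (P : Subgroup C) := by
    rw [hP]
    exact ⟨⟨fun a b => Subtype.ext (Subtype.ext (B.comm_E₁ a.2 b.2))⟩⟩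
  have hkey := CfsgLib.TransferApps.inf_pResidual_eq_of_abelian P hab
  have hN : ∀ n : C, n ∈ normalizer ((P : Subgroup C) : Set C) → (n : G) ∈ normalizer (B.E₁ : Set G) := by
    intro n hn
    rw [hP] at hn
    exact mem_normalizer_of_forall fun a ha => (Subgroup.mem_normalizer_iff.mp hn ⟨a, hC ha⟩).mp ha
  constructor
  · rintro ⟨d, hd, rfl⟩
    have hmem : d ∈ (P : Subgroup C) ⊓ pResidual 2 C := ⟨hP.symm ▸ (show d ∈ B.E₁.subgroupOf C from he), hd⟩
    rw [hkey] at hmem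
    revert hmem
    suffices hle : ⁅(P : Subgroup C), normalizer ((P : Subgroup C) : Set C)⁆ ≤ B.Z.subgroupOf C from fun h => hle h
    rw [Subgroup.commutator_le]
    intro a ha n hn
    rw [hP] at ha
    have hn' := hN n hn
    obtain ⟨k, hk, hks⟩ := B.exists_sameOn_normalizer hn' (B.normalizer_le_of_not_fused h1 hn')
    obtain ⟨l, m, hA⟩ := B.exists_acts hk
    obtain ⟨u, hu, hux⟩ := id hx
    have hl : l = 1 := by
      obtain ⟨v, hv, hva, -⟩ := hA.2.2 u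
      rw [hux, ← hks _ hx, Subgroup.mem_centralizer_singleton_iff.mp n.2, mul_inv_cancel_right, ← hux] at hv
      rw [← B.pt_injective hv] at hva
      exact mul_right_cancel₀ (fun h => hxZ (hux ▸ B.pt_mem_Z.mpr ⟨h, hu⟩)) (by rw [← hva, one_mul])
    have hai : (a : G)⁻¹ ∈ B.E₁ := inv_mem ha
    obtain ⟨w, hw, hwa⟩ := id hai
    obtain ⟨v, hv, hva, hvb⟩ := hA.2.2 w
    rw [Subgroup.mem_subgroupOf, commutatorElement_def]
    push_cast
    rw [show (a : G) * n * (a : G)⁻¹ * (n : G)⁻¹ = (a : G) * ((n : G) * (a : G)⁻¹ * (n : G)⁻¹) by group,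
      hks _ hai, ← inv_inv (a : G), ← hwa, inv_inv, hwa, ← hwa, hv, ← map_inv, ← map_mul, B.pt_mem_Z]
    simp [hva, hvb, hl, hw]
  · intro hz
    obtain ⟨c', rfl⟩ := B.pt_c hz
    obtain ⟨w, hw0, hw1⟩ := exists_omega B.hF
    have hw2 : 1 + w ≠ 0 := fun e => hw1 (by linear_combination e - two_eq_zero B.hF)
    obtain ⟨n, hn, hnx, hnc⟩ := B.exists_scale hfull hx hxZ hw0
    have hmem : (⟨B.pt ⟨0, 0, c'⟩, hC (B.Z_le₁ hz)⟩ : C) ∈ (P : Subgroup C) ⊓ pResidual 2 C := by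
      rw [hkey]
      have hnP : (⟨n, Subgroup.mem_centralizer_singleton_iff.mpr hnx⟩ : C) ∈
          normalizer ((P : Subgroup C) : Set C) := by
        rw [hP]
        refine mem_normalizer_of_forall fun a ha => ?_
        exact (Subgroup.mem_normalizer_iff.mp hn _).mp ha
      have hz₀ : B.pt ⟨0, 0, c' / (1 + w)⟩ ∈ B.E₁ := B.pt_mem_E₁.mpr rfl
      have h := Subgroup.commutator_mem_commutator
        (show (⟨_, hC hz₀⟩ : C) ∈ (P : Subgroup C) by rw [hP]; exact hz₀) hnP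
      convert h using 1
      refine Subtype.ext ?_
      rw [commutatorElement_def]
      push_cast
      rw [show B.pt ⟨0, 0, c' / (1 + w)⟩ * n * (B.pt ⟨0, 0, c' / (1 + w)⟩)⁻¹ * n⁻¹ =
        B.pt ⟨0, 0, c' / (1 + w)⟩ * (n * B.pt ⟨0, 0, c' / (1 + w)⟩ * n⁻¹)⁻¹ by group, hnc, ← map_inv, ← map_mul]
      congr 1
      ext <;> simp [neg_eq B.hF]
      field_simp
    exact ⟨_, hmem.2, rfl⟩

theorem Dx_sup (h1 : ¬ B.Fused₁) {x c : G} (hx : x ∈ B.E₁) (hxZ : x ∉ B.Z) (hc : c * x = x * c) :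
    ∃ d ∈ Dx x, ∃ e ∈ B.E₁, c = d * e := by
  haveI := two_fact
  set C := centralizer ({x} : Set G)
  obtain ⟨P, hP⟩ := B.exists_sylow_E₁ h1 hx hxZ
    (fun a ha => Subgroup.mem_centralizer_singleton_iff.mpr (B.comm_E₁ ha hx) : B.E₁ ≤ C) le_rfl
  have h := CfsgLib.Transfer.sylow_sup_pResidual P
  rw [sup_comm] at h
  haveI : (pResidual 2 C).Normal := inferInstance
  obtain ⟨d, hd, e, he, h'⟩ := Subgroup.mem_sup_of_normal_left.mp
    (h.symm ▸ Subgroup.mem_top (⟨c, Subgroup.mem_centralizer_singleton_iff.mpr hc⟩ : C))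
  rw [hP] at he
  exact ⟨d, ⟨d, hd, rfl⟩, e, he, (congrArg Subtype.val h').symm⟩

/-- The conjugates of a central involution in the centraliser are the involutions of the residual. -/
theorem mem_Dx_iff (h1 : ¬ B.Fused₁) (h2 : ¬ B.swap.Fused₁) (hfull : B.Full) {x z t : G} (hx : x ∈ B.E₁)
    (hxZ : x ∉ B.Z) (hz : z ∈ B.Z) (hz1 : z ≠ 1) :
    (orderOf t = 2 ∧ t ∈ Dx x) ↔ (IsConj z t ∧ t * x = x * t) := by
  constructor
  · rintro ⟨ho, ht⟩
    obtain ⟨c, hc, e, he, rfl⟩ := B.inv_cent_x h1 hx hxZ ho (Dx_comm ht)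
    have hci : c⁻¹ * x = x * c⁻¹ := ((Commute.inv_left (show Commute c x from hc))).eq
    have heD : e ∈ Dx x := by
      have := Dx_conj hci ht
      convert this using 1
      group
    refine ⟨(B.isConj_Z hfull hz hz1 ((B.Dx_inter h1 hfull hx hxZ he).mp heD) fun e1 => ?_).trans
      (isConj_iff.mpr ⟨c, rfl⟩), Dx_comm ht⟩
    rw [e1, mul_one, mul_inv_cancel, orderOf_one] at ho
    omega
  · rintro ⟨hzt, htx⟩
    have ho : orderOf t = 2 := by
      obtain ⟨g, rfl⟩ := isConj_iff.mp hzt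
      rw [Involutions.orderOf_conj]
      exact orderOf_two_of_sq (B.sq_E₁ (B.Z_le₁ hz)) hz1
    obtain ⟨c, hc, e, he, rfl⟩ := B.inv_cent_x h1 hx hxZ ho htx
    refine ⟨ho, Dx_conj hc ((B.Dx_inter h1 hfull hx hxZ he).mpr ?_)⟩
    exact B.type_Z h1 h2 hz (hzt.trans (isConj_iff.mpr ⟨c⁻¹, by group⟩)) (B.E₁_le he)

/-- The counts in the centraliser. -/
theorem count_bound (h1 : ¬ B.Fused₁) (h2 : ¬ B.swap.Fused₁) (hfull : B.Full) {x z : G} (hx : x ∈ B.E₁)
    (hxZ : x ∉ B.Z) (hz : z ∈ B.Z) (hz1 : z ≠ 1) :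
    nI z x ≤ 3 * nJ z x ∧ (3 * nJ z x ≤ nI z x →
      ∀ g, g * x = x * g → ∀ z' ∈ B.Z, ∃ o ∈ oddC x, ∃ z'' ∈ B.Z, g * z' * g⁻¹ = o * z'') := by
  haveI := two_fact
  set C := centralizer ({x} : Set G)
  set D := pResidual 2 C with hD
  haveI hDn : D.Normal := inferInstance
  let ι : D →* G := C.subtype.comp D.subtype
  have hι : Function.Injective ι := C.subtype_injective.comp D.subtype_injective
  have hιD : ∀ d : D, ι d ∈ Dx x := fun d => ⟨d, d.2, rfl⟩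
  have hr : ∀ g ∈ Dx x, ∃ d : D, ι d = g := by
    rintro _ ⟨d, hd, rfl⟩
    exact ⟨⟨d, hd⟩, rfl⟩
  have hZD : ∀ z' ∈ B.Z, z' ∈ Dx x := fun z' hz' => (B.Dx_inter h1 hfull hx hxZ (B.Z_le₁ hz')).mpr hz'
  let T : Sylow 2 D :=
    { toSubgroup := B.Z.comap ι
      isPGroup' := (B.isPGroup_E₁.to_le B.Z_le₁).comap_of_injective ι hι
      is_maximal' := fun {R} hR hle => by
        refine le_antisymm ?_ hle
        obtain ⟨c, hc, hle'⟩ := B.exists_conj_E₁ h1 hx hxZ (hR.map ι) (by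
          rintro _ ⟨d, -, rfl⟩
          exact Subgroup.mem_centralizer_singleton_iff.mpr (Dx_comm (hιD d)))
        have hsub : cj c (R.map ι) ≤ B.Z := by
          rintro _ ⟨y, ⟨d, hd, rfl⟩, rfl⟩
          exact (B.Dx_inter h1 hfull hx hxZ (hle' (conj_mem_cj ⟨d, hd, rfl⟩))).mp
            (Dx_conj (Subgroup.mem_centralizer_singleton_iff.mp hc) (hιD d))
        have hcR : Nat.card (R.map ι) ≤ Nat.card B.Z := (card_cj c _).symm.le.trans (Subgroup.card_le_of_le hsub)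
        have hZR : B.Z ≤ R.map ι := fun z' hz' => by
          obtain ⟨d, rfl⟩ := hr z' (hZD z' hz')
          exact ⟨d, hle hz', rfl⟩
        have heq := Subgroup.eq_of_le_of_card_ge hZR hcR
        intro d hd
        rw [Subgroup.mem_comap, heq]
        exact ⟨d, hd, rfl⟩ }
  have hT4 : Nat.card (T : Subgroup D) = 4 := by
    rw [← B.card_Z]
    refine Nat.card_eq_of_bijective (fun d => ⟨ι d.1, d.2⟩)
      ⟨fun a b e => Subtype.ext (hι (congrArg Subtype.val e :)), fun y => ?_⟩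
    obtain ⟨d, hd⟩ := hr y.1 (hZD _ y.2)
    exact ⟨⟨d, show ι d ∈ B.Z from hd.symm ▸ y.2⟩, Subtype.ext hd⟩
  have hsq : ∀ d ∈ (T : Subgroup D), d * d = 1 := fun d hd => hι (by
    rw [map_mul, map_one]; exact B.sq_E₁ (B.Z_le₁ hd))
  have hinZ : ∀ a : D, orderOf a = 2 → ∃ c : D, ι (c * a * c⁻¹) ∈ B.Z := by
    intro a ha
    obtain ⟨Q, hQ⟩ := (IsPGroup.of_card (p := 2) (n := 1) (by rw [Nat.card_zpowers, ha, pow_one]) :
      IsPGroup 2 (zpowers a)).exists_le_sylow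
    obtain ⟨g, hg⟩ := MulAction.exists_smul_eq D Q T
    refine ⟨g, ?_⟩
    have h : g * a * g⁻¹ ∈ (T : Subgroup D) := by
      rw [← hg]
      exact ⟨a, hQ (mem_zpowers a), rfl⟩
    exact h
  have hone : ∀ a b : D, orderOf a = 2 → orderOf b = 2 → IsConj a b := by
    intro a b ha hb
    obtain ⟨p, hp⟩ := hinZ a ha
    obtain ⟨p', hp'⟩ := hinZ b hb
    refine ((isConj_iff.mpr ⟨p, rfl⟩ : IsConj a (p * a * p⁻¹)).trans ?_).trans
      (isConj_iff.mpr ⟨p', rfl⟩ : IsConj b (p' * b * p'⁻¹)).symm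
    obtain ⟨c, hc⟩ := B.pt_c hp
    obtain ⟨c', hc'⟩ := B.pt_c hp'
    have hne : ∀ (q d : D) (c : F), orderOf d = 2 → B.pt ⟨0, 0, c⟩ = ι (q * d * q⁻¹) → c ≠ 0 := by
      intro q d c hd e h0
      rw [h0, show B.pt ⟨0, 0, 0⟩ = 1 from map_one B.pt, ← map_one ι] at e
      have h := hι e
      rw [eq_comm, conj_eq_one_iff] at h
      rw [h, orderOf_one] at hd
      omega
    obtain ⟨n, -, hnx, hnc⟩ := B.exists_scale hfull hx hxZ
      (div_ne_zero (hne p' b c' hb hc') (hne p a c ha hc))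
    obtain ⟨d, hd, e, he, rfl⟩ := B.Dx_sup h1 hx hxZ hnx
    obtain ⟨d, rfl⟩ := hr d hd
    refine isConj_iff.mpr ⟨d, hι ?_⟩
    have hez : e * ι (p * a * p⁻¹) * e⁻¹ = ι (p * a * p⁻¹) := by
      rw [B.comm_E₁ he (B.Z_le₁ hp), mul_inv_cancel_right]
    calc ι (d * (p * a * p⁻¹) * d⁻¹) = ι d * (e * ι (p * a * p⁻¹) * e⁻¹) * (ι d)⁻¹ := by
          rw [hez, map_mul, map_mul, map_inv]
      _ = ι d * e * B.pt ⟨0, 0, c⟩ * (ι d * e)⁻¹ := by rw [hc]; group
      _ = _ := by rw [hnc, div_mul_cancel₀ _ (hne p a c ha hc), hc']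
  obtain ⟨dz, hdz⟩ := hr z (hZD z hz)
  have hoz : orderOf dz = 2 := by
    rw [← orderOf_injective ι hι, hdz]; exact orderOf_two_of_sq (B.sq_E₁ (B.Z_le₁ hz)) hz1
  have eI : nI z x = nInv D := by
    refine (Nat.card_eq_of_bijective (fun t : {t : D // orderOf t = 2} =>
      (⟨ι t.1, (B.mem_Dx_iff h1 h2 hfull hx hxZ hz hz1).mp ⟨by rw [orderOf_injective ι hι]; exact t.2, hιD _⟩⟩ :
        {t : G // IsConj z t ∧ t * x = x * t}))
      ⟨fun a b e => Subtype.ext (hι (congrArg Subtype.val e :)), fun y => ?_⟩).symm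
    obtain ⟨ho, hD'⟩ := (B.mem_Dx_iff h1 h2 hfull hx hxZ hz hz1).mpr y.2
    obtain ⟨d, hd⟩ := hr y.1 hD'
    exact ⟨⟨d, by rw [← orderOf_injective ι hι, hd]; exact ho⟩, Subtype.ext hd⟩
  have eJ : nJ z x = nOdd dz := by
    refine (Nat.card_eq_of_bijective (fun t : {t : D // orderOf t = 2 ∧ Odd (orderOf (dz * t))} =>
      (⟨ι t.1, ((B.mem_Dx_iff h1 h2 hfull hx hxZ hz hz1).mp ⟨by rw [orderOf_injective ι hι]; exact t.2.1, hιD _⟩).1,
        Dx_comm (hιD _), by rw [← hdz, ← map_mul, orderOf_injective ι hι]; exact t.2.2⟩ :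
        {t : G // IsConj z t ∧ t * x = x * t ∧ Odd (orderOf (z * t))}))
      ⟨fun a b e => Subtype.ext (hι (congrArg Subtype.val e :)), fun y => ?_⟩).symm
    obtain ⟨ho, hD'⟩ := (B.mem_Dx_iff h1 h2 hfull hx hxZ hz hz1).mpr ⟨y.2.1, y.2.2.1⟩
    obtain ⟨d, hd⟩ := hr y.1 hD'
    exact ⟨⟨d, by rw [← orderOf_injective ι hι, hd]; exact ho,
      by rw [← orderOf_injective ι hι, map_mul, hdz, hd]; exact y.2.2.2⟩, Subtype.ext hd⟩
  obtain ⟨hle, heq⟩ := four_count_core T hT4 hsq hone hoz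
  refine ⟨by rw [eI, eJ]; exact hle, fun h g hg z' hz' => ?_⟩
  rw [eI, eJ] at h
  obtain ⟨d, hd, e, he, rfl⟩ := B.Dx_sup h1 hx hxZ hg
  obtain ⟨d, rfl⟩ := hr d hd
  obtain ⟨t, rfl⟩ := hr z' (hZD z' hz')
  haveI : (oddCore D).Normal := inferInstanceAs (pPrimeCore 2 D).Normal
  obtain ⟨o, ho, t', ht', e'⟩ := Subgroup.mem_sup_of_normal_left.mp (heq h d t hz')
  refine ⟨ι o, ?_, ι t', ht', ?_⟩
  · exact ⟨(o : C), CfsgLib.ZStar.map_pPrimeCore_le_of_normal D (Subgroup.mem_map_of_mem D.subtype ho), rfl⟩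
  · rw [← map_mul, e', map_mul, map_mul, map_inv]
    calc ι d * e * ι t * (ι d * e)⁻¹ = ι d * (e * ι t * e⁻¹) * (ι d)⁻¹ := by group
      _ = _ := by rw [B.comm_E₁ he (B.Z_le₁ hz'), mul_inv_cancel_right]

/-- **Equality in the count makes the centraliser good.** -/
theorem good₁_of_count (h1 : ¬ B.Fused₁) (h2 : ¬ B.swap.Fused₁) (hfull : B.Full) {x z : G} (hx : x ∈ B.E₁)
    (hxZ : x ∉ B.Z) (hz : z ∈ B.Z) (hz1 : z ≠ 1) (hcount : 3 * nJ z x ≤ nI z x) : Good B.E₁ x := by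
  haveI := two_fact
  obtain ⟨-, hZ⟩ := B.count_bound h1 h2 hfull hx hxZ hz hz1
  have hZ' := hZ hcount
  set C := centralizer ({x} : Set G)
  have hEC : B.E₁ ≤ C := fun a ha => Subgroup.mem_centralizer_singleton_iff.mpr (B.comm_E₁ ha hx)
  have hZC : B.Z ≤ C := B.Z_le₁.trans hEC
  haveI hOn : (oddCore ↥C).Normal := inferInstanceAs (pPrimeCore 2 ↥C).Normal
  have hodd : Odd (Nat.card (oddCore ↥C)) := CfsgLib.odd_card_oddCore
  set Zc := B.Z.subgroupOf C with hZc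
  set Ec := B.E₁.subgroupOf C with hEc
  have hMn : (oddCore ↥C ⊔ Zc).Normal := by
    refine ⟨fun y hy g => ?_⟩
    obtain ⟨o, ho, z', hz', rfl⟩ := Subgroup.mem_sup_of_normal_left.mp hy
    obtain ⟨o', ⟨o', ho', rfl⟩, z'', hz'', e⟩ := hZ' g (Subgroup.mem_centralizer_singleton_iff.mp g.2) z' hz'
    have e' : g * z' * g⁻¹ = o' * ⟨z'', hZC hz''⟩ := Subtype.ext e
    rw [show g * (o * z') * g⁻¹ = (g * o * g⁻¹) * (g * z' * g⁻¹) by group, e']
    exact mul_mem (Subgroup.mem_sup_left (hOn.conj_mem o ho g))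
      (mul_mem (Subgroup.mem_sup_left ho') (Subgroup.mem_sup_right hz''))
  have hfr := frattini_odd hodd ((B.isPGroup_E₁.to_le B.Z_le₁).comap_subtype (K := C)) hMn
  set C₀ := C ⊓ centralizer (B.Z : Set G) with hC₀
  have hEC₀ : B.E₁ ≤ C₀ := le_inf hEC fun a ha => Subgroup.mem_centralizer_iff.mpr fun z' hz' =>
    B.comm_E₁ (B.Z_le₁ hz') ha
  have hsplit := B.split_of_trivial h1 hx hxZ hEC₀ inf_le_left fun n _ hn z' hz' =>
    (Subgroup.mem_centralizer_iff.mp hn.2 z' hz').symm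
  set R := (oddCore ↥C₀).map C₀.subtype with hR
  have hR0 : R ≤ C₀ := Subgroup.map_subtype_le _
  have hRodd : Odd (Nat.card R) := by
    rw [hR, Subgroup.card_map_of_injective C₀.subtype_injective]; exact CfsgLib.odd_card_oddCore
  haveI hC₀O : (oddCore ↥C₀).Normal := inferInstanceAs (pPrimeCore 2 ↥C₀).Normal
  -- conjugation by the normaliser of the centre
  have hC₀n : ∀ {n : G}, n ∈ C → n ∈ normalizer (B.Z : Set G) → ∀ y ∈ C₀, n * y * n⁻¹ ∈ C₀ := by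
    intro n hnC hnZ y hy
    refine ⟨C.mul_mem (C.mul_mem hnC hy.1) (C.inv_mem hnC), Subgroup.mem_centralizer_iff.mpr fun z' hz' => ?_⟩
    have h := Subgroup.mem_centralizer_iff.mp hy.2 _ ((Subgroup.mem_normalizer_iff''.mp hnZ z').mp hz')
    calc z' * (n * y * n⁻¹) = n * (n⁻¹ * z' * n * y) * n⁻¹ := by group
      _ = n * (y * (n⁻¹ * z' * n)) * n⁻¹ := by rw [h]
      _ = _ := by group
  have hRn : ∀ {n : G}, n ∈ C → n ∈ normalizer (B.Z : Set G) → ∀ r ∈ R, n * r * n⁻¹ ∈ R := by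
    intro n hnC hnZ r hr
    have hle : cj n R ≤ C₀ := by
      rintro _ ⟨y, hy, rfl⟩
      exact hC₀n hnC hnZ y (hR0 hy)
    haveI : ((cj n R).subgroupOf C₀).Normal := by
      refine ⟨fun y hy g => ?_⟩
      have hy' : n⁻¹ * (y : G) * n ∈ R := mem_cj.mp hy
      obtain ⟨y', hy'', ey⟩ := hy'
      have hg' : n⁻¹ * (g : G) * n ∈ C₀ := by
        have := hC₀n (inv_mem hnC) (inv_mem hnZ) g g.2
        rwa [inv_inv] at this
      refine Subgroup.mem_subgroupOf.mpr (mem_cj.mpr ?_)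
      refine ⟨(⟨_, hg'⟩ : C₀) * y' * (⟨_, hg'⟩ : C₀)⁻¹,
        hC₀O.conj_mem y' hy'' _, ?_⟩
      push_cast
      simp only [Subgroup.coe_subtype] at ey ⊢
      push_cast
      rw [ey]
      group
    have h := CfsgLib.le_oddCore (N := (cj n R).subgroupOf C₀) (by
      rw [Nat.card_congr (Subgroup.subgroupOfEquivOfLe hle).toEquiv, card_cj]; exact hRodd)
    exact ⟨⟨_, hle (conj_mem_cj hr)⟩, h (conj_mem_cj hr), rfl⟩
  set Rc := R.subgroupOf C with hRc
  have hRC : R ≤ C := hR0.trans inf_le_left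
  haveI hORn : (oddCore ↥C ⊔ Rc).Normal := by
    refine ⟨fun y hy g => ?_⟩
    obtain ⟨o, ho, n, hn, rfl⟩ := hfr g
    have hnG : (n : G) ∈ normalizer (B.Z : Set G) := mem_normalizer_of_forall fun a ha =>
      (Subgroup.mem_normalizer_iff.mp hn ⟨a, hZC ha⟩).mp ha
    have h : n * y * n⁻¹ ∈ oddCore ↥C ⊔ Rc := by
      obtain ⟨o', ho', r, hr, rfl⟩ := Subgroup.mem_sup_of_normal_left.mp hy
      rw [show n * (o' * r) * n⁻¹ = (n * o' * n⁻¹) * (n * r * n⁻¹) by group]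
      exact mul_mem (Subgroup.mem_sup_left (hOn.conj_mem o' ho' n))
        (Subgroup.mem_sup_right (hRn n.2 hnG r hr))
    rw [show o * n * y * (o * n)⁻¹ = o * (n * y * n⁻¹) * o⁻¹ by group]
    exact mul_mem (mul_mem (Subgroup.mem_sup_left ho) h) (inv_mem (Subgroup.mem_sup_left ho))
  have hRO : ∀ r ∈ R, r ∈ oddC x := by
    intro r hr
    have h := CfsgLib.le_oddCore (odd_card_sup (K := oddCore ↥C) (R := Rc) hodd (by
      rw [Nat.card_congr (Subgroup.subgroupOfEquivOfLe hRC).toEquiv]; exact hRodd))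
    exact ⟨⟨r, hRC hr⟩, h (Subgroup.mem_sup_right hr), rfl⟩
  have hEn : (oddCore ↥C ⊔ Ec).Normal := by
    refine ⟨fun y hy g => ?_⟩
    obtain ⟨o, ho, n, hn, rfl⟩ := hfr g
    have hnG : (n : G) ∈ normalizer (B.Z : Set G) := mem_normalizer_of_forall fun a ha =>
      (Subgroup.mem_normalizer_iff.mp hn ⟨a, hZC ha⟩).mp ha
    have h : n * y * n⁻¹ ∈ oddCore ↥C ⊔ Ec := by
      obtain ⟨o', ho', a, ha, rfl⟩ := Subgroup.mem_sup_of_normal_left.mp hy
      rw [show n * (o' * a) * n⁻¹ = (n * o' * n⁻¹) * (n * a * n⁻¹) by group]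
      refine mul_mem (Subgroup.mem_sup_left (hOn.conj_mem o' ho' n)) ?_
      obtain ⟨⟨r, hr, b, hb, e⟩, -⟩ := hsplit ⟨_, hC₀n n.2 hnG a (hEC₀ ha)⟩
      obtain ⟨r', hr', er⟩ := hRO r ⟨r, hr, rfl⟩
      have e' : n * a * n⁻¹ = r' * ⟨b, hEC hb⟩ := Subtype.ext (by
        push_cast; rw [show (r' : G) = (r : G) from er]; exact e)
      rw [e']
      exact mul_mem (Subgroup.mem_sup_left hr') (Subgroup.mem_sup_right hb)
    rw [show o * n * y * (o * n)⁻¹ = o * (n * y * n⁻¹) * o⁻¹ by group]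
    exact mul_mem (mul_mem (Subgroup.mem_sup_left ho) h) (inv_mem (Subgroup.mem_sup_left ho))
  have part1 : ∀ g ∈ C, ∃ o ∈ oddC x, ∃ m ∈ normalizer (B.E₁ : Set G), g = o * m := by
    intro g hg
    obtain ⟨o, ho, n, hn, e⟩ := frattini_odd hodd (B.isPGroup_E₁.comap_subtype (K := C)) hEn ⟨g, hg⟩
    exact ⟨o, ⟨o, ho, rfl⟩, n, mem_normalizer_of_forall fun a ha =>
      (Subgroup.mem_normalizer_iff.mp hn ⟨a, hEC ha⟩).mp ha, congrArg Subtype.val e⟩
  refine ⟨part1, fun g hg hgo hcomm => ?_⟩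
  obtain ⟨o, ho, m, hm, rfl⟩ := part1 g hg
  have hmC : m ∈ C := by
    have := mul_mem (inv_mem (oddC_le x ho)) hg
    rwa [inv_mul_cancel_left] at this
  have hmE : ∀ a ∈ B.E₁, m * a * m⁻¹ = a := by
    intro a ha
    have hma := (Subgroup.mem_normalizer_iff.mp hm a).mp ha
    have hS' : m * a * m⁻¹ * a⁻¹ ∈ (B.S : Subgroup G) := B.E₁_le (mul_mem hma (inv_mem ha))
    have h3 : m * a * m⁻¹ * a⁻¹ ∈ oddC x := by
      rw [show m * a * m⁻¹ * a⁻¹ = o⁻¹ * (o * m * a * (o * m)⁻¹ * a⁻¹) * (a * o * a⁻¹) by group]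
      exact mul_mem (mul_mem (inv_mem ho) (hcomm a ha)) (oddC_normal (hEC ha) ho)
    refine mul_inv_eq_one.mp (orderOf_eq_one_iff.mp ?_)
    refine Nat.eq_one_of_dvd_coprimes (a := Nat.card (B.S : Subgroup G)) ?_
      (Subgroup.orderOf_dvd_natCard _ hS') (Subgroup.orderOf_dvd_natCard _ h3)
    rw [B.card_S, show (64 : ℕ) = 2 ^ 6 by norm_num]
    exact (Nat.coprime_two_left.mpr (odd_oddC x)).pow_left 6
  have hmC₀ : m ∈ C₀ := ⟨hmC, Subgroup.mem_centralizer_iff.mpr fun z' hz' =>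
    (mul_inv_eq_iff_eq_mul.mp (hmE z' (B.Z_le₁ hz'))).symm⟩
  obtain ⟨⟨r, hr, b, hb, e⟩, -⟩ := hsplit ⟨m, hmC₀⟩
  obtain ⟨o₁, ho₁, eo⟩ := mul_mem ho (hRO r ⟨r, hr, rfl⟩)
  -- the odd element is its own core part
  set π := QuotientGroup.mk' (oddCore ↥C)
  have hπg : π ⟨o * m, hg⟩ = π ⟨b, hEC hb⟩ := by
    have e' : (⟨o * m, hg⟩ : C) = o₁ * ⟨b, hEC hb⟩ := Subtype.ext (by
      push_cast; rw [show (o₁ : G) = o * (r : G) from eo, show m = (r : G) * b from e, mul_assoc])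
    rw [e', map_mul, show π o₁ = 1 from (QuotientGroup.eq_one_iff o₁).mpr ho₁, one_mul]
  have hd2 : orderOf (π ⟨b, hEC hb⟩) ∣ 2 := orderOf_dvd_of_pow_eq_one (by
    rw [← map_pow, show (⟨b, hEC hb⟩ : C) ^ 2 = 1 from Subtype.ext (by push_cast; rw [pow_two]; exact B.sq_E₁ hb),
      map_one])
  have hd1 : orderOf (π ⟨b, hEC hb⟩) = 1 := by
    refine Nat.eq_one_of_dvd_coprimes (Nat.coprime_two_left.mpr hgo) hd2 ?_
    rw [← hπg]
    exact (orderOf_map_dvd π _).trans (dvd_of_eq (Subgroup.orderOf_mk _ hg))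
  have := (QuotientGroup.eq_one_iff (N := oddCore ↥C) _).mp ((orderOf_eq_one_iff.mp hd1) ▸ hπg :
    π ⟨o * m, hg⟩ = 1)
  exact ⟨_, this, rfl⟩

end Base

end CfsgLib.L34Sylow
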