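import Cfsg.Agent.Lib.L34Sylow.Fusion

/-!
The centraliser of an outer involution that is not fused with the centre.

Blueprint: `blueprint/S3198.md`, section 4.
-/

set_option autoImplicit false
set_option linter.unusedSectionVars false
set_option linter.style.haveILetI false

namespace CfsgLib.L34Sylow

open Subgroup Cfsg

variable {G : Type*} [Group G] [Finite G]

/-- Burnside's transfer: the odd elements form a normal complement. -/
theorem burnside_split {H : Type*} [Group H] [Finite H] (P : Sylow 2 H)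
    (hP : normalizer ((P : Subgroup H) : Set H) ≤ centralizer ((P : Subgroup H) : Set H)) (g : H) :
    (∃ o ∈ oddCore H, ∃ p ∈ (P : Subgroup H), g = o * p) ∧ (Odd (orderOf g) → g ∈ oddCore H) := by
  haveI : Fact (Nat.Prime 2) := ⟨Nat.prime_two⟩
  have hc := MonoidHom.ker_transferSylow_isComplement' P hP
  set K := (MonoidHom.transferSylow P hP).ker
  have hKodd : Odd (Nat.card K) := by
    rw [← Nat.not_even_iff_odd, even_iff_two_dvd]
    exact MonoidHom.not_dvd_card_ker_transferSylow P hP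
  have hK : K ≤ oddCore H := CfsgLib.le_oddCore hKodd
  obtain ⟨⟨⟨o, ho⟩, ⟨p, hp⟩⟩, e⟩ := hc.surjective g
  refine ⟨⟨o, hK ho, p, hp, e.symm⟩, fun hg => hK ?_⟩
  refine orderOf_eq_one_iff.mp (Nat.eq_one_of_dvd_coprimes ?_
    (orderOf_map_dvd (MonoidHom.transferSylow P hP) g) (orderOf_dvd_natCard _))
  obtain ⟨k, hk⟩ := IsPGroup.iff_card.mp P.isPGroup'
  rw [hk]
  exact (Nat.coprime_two_right.mpr hg).pow_right k

namespace Base

variable {F : Type*} [Field F] (B : Base G F)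

theorem exists_shift_fix {x : G} (hx : x ∈ B.E₁) (hxZ : x ∉ B.Z) {n : G}
    (hn : n * x * n⁻¹ * x⁻¹ ∈ B.Z) : ∃ s ∈ B.E₂, (s * n) * x * (s * n)⁻¹ = x := by
  obtain ⟨c, hc⟩ : ∃ c, c = n * x * n⁻¹ * x⁻¹ := ⟨_, rfl⟩
  obtain ⟨s, hs, hsx⟩ := B.exists_shift hx hxZ (hc ▸ hn)
  refine ⟨s, hs, ?_⟩
  have hcx : c * x = x * c := B.comm_E₁ (B.Z_le₁ (hc ▸ hn)) hx
  calc s * n * x * (s * n)⁻¹ = s * (c * x) * s⁻¹ := by rw [hc]; group
    _ = (s * x * s⁻¹) * (s * c * s⁻¹) := by rw [hcx]; group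
    _ = x * (c * c) := by rw [hsx, (B.S_le_stab₁ (B.E₂_le hs)).2.1 c (hc ▸ hn)]; rw [mul_assoc, hc]
    _ = x := by rw [B.sq_E₁ (B.Z_le₁ (hc ▸ hn)), mul_one]

theorem eq_of_conj_Z {z z' : G} (hz : z ∈ B.Z) {s : G} (hs : s ∈ (B.S : Subgroup G)) (h : s * z * s⁻¹ = z') :
    z' = z := by rw [← h, (B.S_le_stab₁ hs).2.1 z hz]

/-- Without fusion an element fixing an outer involution and centralising the centre centralises the piece, as soon as
it normalises it. -/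
theorem centralizes₁ (h1 : ¬ B.Fused₁) {x n : G} (hx : x ∈ B.E₁) (hxZ : x ∉ B.Z) (hn : n ∈ normalizer (B.E₁ : Set G))
    (hnx : n * x = x * n) (hnZ : ∀ z ∈ B.Z, n * z = z * n) : ∀ e ∈ B.E₁, n * e = e * n := by
  obtain ⟨k, hk, hks⟩ := B.exists_sameOn_normalizer hn (B.normalizer_le_of_not_fused h1 hn)
  obtain ⟨l, m, hA⟩ := B.exists_acts hk
  obtain ⟨u, hu, rfl⟩ := id hx
  have hua : u.a ≠ 0 := fun h => hxZ (B.pt_mem_Z.mpr ⟨h, hu⟩)
  have hl : l = 1 := by
    obtain ⟨v, hv, hva, -⟩ := hA.2.2 u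
    rw [← hks _ hx, hnx, mul_inv_cancel_right] at hv
    rw [← B.pt_injective hv] at hva
    exact mul_right_cancel₀ hua (by rw [← hva, one_mul])
  have hm : m = 1 := by
    have h := hA.conj_Z B hk 1
    have hz : B.pt ⟨0, 0, 1⟩ ∈ B.Z := B.pt_mem_Z.mpr ⟨rfl, rfl⟩
    rw [← hks _ (B.Z_le₁ hz), hnZ _ hz, mul_inv_cancel_right] at h
    have h' : (1 : F) = l * m * 1 := congrArg U.c (B.pt_injective h)
    rw [hl] at h'
    linear_combination -h'
  subst hl hm
  have hst : n ∈ B.stab₁ := by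
    refine ⟨hn, fun z hz => by rw [hnZ z hz, mul_inv_cancel_right], fun e he => ?_⟩
    rw [hks e he]
    obtain ⟨w, hw, rfl⟩ := he
    obtain ⟨v, hv, hva, hvb⟩ := hA.2.2 w
    rw [hv, ← map_inv, ← map_mul, B.pt_mem_Z]
    simp [hva, hvb, hw]
  obtain ⟨s, hs, hns⟩ := B.exists_sameOn hst
  have hsE : s ∈ B.E₁ := B.mem_E₁_of_comm hx hxZ hs
    (mul_inv_eq_iff_eq_mul.mp (by rw [← hns _ hx, hnx, mul_inv_cancel_right])).symm
  intro e he
  refine mul_inv_eq_iff_eq_mul.mp ?_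
  rw [hns e he, B.comm_E₁ hsE he, mul_inv_cancel_right]

/-- The Sylow subgroup of a subgroup between the piece and the centraliser. -/
theorem exists_sylow_E₁ (h1 : ¬ B.Fused₁) {x : G} (hx : x ∈ B.E₁) (hxZ : x ∉ B.Z) {C : Subgroup G}
    (hC : B.E₁ ≤ C) (hCx : C ≤ centralizer ({x} : Set G)) :
    ∃ P : Sylow 2 C, (P : Subgroup C) = B.E₁.subgroupOf C := by
  haveI := two_fact
  obtain ⟨P, hP⟩ := (B.isPGroup_E₁.comap_subtype (K := C)).exists_le_sylow
  refine ⟨P, (Subgroup.eq_of_le_of_card_ge hP ?_).symm⟩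
  obtain ⟨c, -, hc⟩ := B.exists_conj_E₁ h1 hx hxZ (R := (P : Subgroup C).map C.subtype) (P.isPGroup'.map _)
    ((Subgroup.map_subtype_le _).trans hCx)
  have := Subgroup.card_le_of_le hc
  rw [card_cj, Subgroup.card_map_of_injective C.subtype_injective] at this
  exact this.trans (Nat.card_congr (Subgroup.subgroupOfEquivOfLe hC).toEquiv).ge

/-- A subgroup between the piece and the centraliser whose automiser is trivial splits. -/
theorem split_of_trivial (h1 : ¬ B.Fused₁) {x : G} (hx : x ∈ B.E₁) (hxZ : x ∉ B.Z) {C : Subgroup G}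
    (hC : B.E₁ ≤ C) (hCx : C ≤ centralizer ({x} : Set G))
    (htriv : ∀ n ∈ normalizer (B.E₁ : Set G), n ∈ C → ∀ z ∈ B.Z, n * z = z * n) (g : C) :
    (∃ o ∈ oddCore ↥C, ∃ e ∈ B.E₁, (g : G) = (o : G) * e) ∧ (Odd (orderOf g) → g ∈ oddCore ↥C) := by
  obtain ⟨P, hP⟩ := B.exists_sylow_E₁ h1 hx hxZ hC hCx
  have hN : normalizer ((P : Subgroup C) : Set C) ≤ centralizer ((P : Subgroup C) : Set C) := by
    intro n hn
    rw [hP] at hn ⊢
    have hn' : (n : G) ∈ normalizer (B.E₁ : Set G) := mem_normalizer_of_forall fun e he =>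
      (Subgroup.mem_normalizer_iff.mp hn ⟨e, hC he⟩).mp he
    refine Subgroup.mem_centralizer_iff.mpr fun e he => Subtype.ext ?_
    exact (B.centralizes₁ h1 hx hxZ hn' (Subgroup.mem_centralizer_singleton_iff.mp (hCx n.2))
      (htriv _ hn' n.2) _ he).symm
  obtain ⟨⟨o, ho, p, hp, e⟩, h2⟩ := burnside_split P hN g
  rw [hP] at hp
  exact ⟨⟨o, ho, p, hp, congrArg Subtype.val e⟩, h2⟩

/-- Without an element of the normaliser fixing the quotient of the first piece and moving the centre, the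
centraliser of an outer involution splits over the piece. -/
theorem cent_of_no_fix (h1 : ¬ B.Fused₁) (hfix : ∀ m : F, B.InH 1 m → m = 1) {x : G} (hx : x ∈ B.E₁)
    (hxZ : x ∉ B.Z) :
    (∀ g ∈ centralizer ({x} : Set G), ∃ o ∈ oddC x, ∃ e ∈ B.E₁, g = o * e) ∧
      ∀ g ∈ centralizer ({x} : Set G), Odd (orderOf g) → g ∈ oddC x := by
  set C := centralizer ({x} : Set G)
  have hC : B.E₁ ≤ C := fun e he => Subgroup.mem_centralizer_singleton_iff.mpr (B.comm_E₁ he hx)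
  have htriv : ∀ n ∈ normalizer (B.E₁ : Set G), n ∈ C → ∀ z ∈ B.Z, n * z = z * n := by
    intro n hn hnC z hz
    obtain ⟨k, hk, hks⟩ := B.exists_sameOn_normalizer hn (B.normalizer_le_of_not_fused h1 hn)
    obtain ⟨l, m, hA⟩ := B.exists_acts hk
    obtain ⟨u, hu, rfl⟩ := id hx
    have hua : u.a ≠ 0 := fun h => hxZ (B.pt_mem_Z.mpr ⟨h, hu⟩)
    have hl : l = 1 := by
      obtain ⟨v, hv, hva, -⟩ := hA.2.2 u
      rw [← hks _ hx, Subgroup.mem_centralizer_singleton_iff.mp hnC, mul_inv_cancel_right] at hv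
      rw [← B.pt_injective hv] at hva
      exact mul_right_cancel₀ hua (by rw [← hva, one_mul])
    subst hl
    obtain rfl := hfix m ⟨k, hk, hA⟩
    refine mul_inv_eq_iff_eq_mul.mp ?_
    rw [hks z (B.Z_le₁ hz)]
    obtain ⟨w, hwa, hwb, rfl⟩ := hz
    rw [show w = ⟨0, 0, w.c⟩ from U.ext hwa hwb rfl, hA.conj_Z B hk, one_mul, one_mul]
  refine ⟨fun g hg => ?_, fun g hg hodd => ?_⟩
  · obtain ⟨⟨o, ho, e, he, h⟩, -⟩ := B.split_of_trivial h1 hx hxZ hC le_rfl htriv ⟨g, hg⟩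
    exact ⟨o, ⟨o, ho, rfl⟩, e, he, h⟩
  · have h := (B.split_of_trivial h1 hx hxZ hC le_rfl htriv ⟨g, hg⟩).2 (by rwa [Subgroup.orderOf_mk])
    exact ⟨⟨g, hg⟩, h, rfl⟩

theorem good₁_of_no_fix (h1 : ¬ B.Fused₁) (hfix : ∀ m : F, B.InH 1 m → m = 1) {x : G} (hx : x ∈ B.E₁)
    (hxZ : x ∉ B.Z) : Good B.E₁ x := by
  obtain ⟨p1, p2⟩ := B.cent_of_no_fix h1 hfix hx hxZ
  refine ⟨fun g hg => ?_, fun g hg ho _ => p2 g hg ho⟩
  obtain ⟨o, ho, e, he, h⟩ := p1 g hg
  exact ⟨o, ho, e, Subgroup.le_normalizer he, h⟩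

end Base

end CfsgLib.L34Sylow
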