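import Cfsg.Agent.Lib.L34Sylow.Acts

/-!
Transport of the coordinates to subgroups and to quotients of odd order.
-/

set_option autoImplicit false
set_option linter.unusedSectionVars false

namespace CfsgLib.L34Sylow

open Subgroup Cfsg

variable {G : Type*} [Group G] {F : Type*} [Field F] [Finite G]

namespace Base

variable (B : Base G F)

/-- The coordinates of the image under a surjective homomorphism injective on the Sylow subgroup. -/
noncomputable def map {H : Type*} [Group H] (f : G →* H) (hf : Function.Surjective f)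
    (hinj : Set.InjOn f (B.S : Subgroup G)) : Base H F :=
  haveI : Fact (Nat.Prime 2) := ⟨Nat.prime_two⟩
  { S := B.S.mapSurjective hf
    hF := B.hF
    e := (MonoidHom.ofInjective (f := f.comp B.pt)
      (fun _ _ h => B.pt_injective (hinj (B.pt_mem _) (B.pt_mem _) h))).trans
      (MulEquiv.subgroupCongr (by
        ext x
        constructor
        · rintro ⟨u, rfl⟩
          exact ⟨B.pt u, B.pt_mem u, rfl⟩
        · rintro ⟨y, hy, rfl⟩
          obtain ⟨u, rfl⟩ := B.exists_pt hy
          exact ⟨u, rfl⟩)) }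

variable {H : Type*} [Group H] (f : G →* H) (hf : Function.Surjective f) (hinj : Set.InjOn f (B.S : Subgroup G))

theorem map_pt (u : U F) : (B.map f hf hinj).pt u = f (B.pt u) := rfl

theorem map_S : ((B.map f hf hinj).S : Subgroup H) = (B.S : Subgroup G).map f := rfl

theorem map_mem_Z {x : G} (hx : x ∈ B.Z) : f x ∈ (B.map f hf hinj).Z := by
  obtain ⟨u, ha, hb, rfl⟩ := hx
  exact ⟨u, ha, hb, rfl⟩

theorem map_mem_E₁ {x : G} (hx : x ∈ B.E₁) : f x ∈ (B.map f hf hinj).E₁ := by
  obtain ⟨u, hb, rfl⟩ := hx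
  exact ⟨u, hb, rfl⟩

/-- The coordinates inside an overgroup. -/
noncomputable def restrict (K : Subgroup G) (hK : (B.S : Subgroup G) ≤ K) : Base K F where
  S := B.S.subtype hK
  hF := B.hF
  e := B.e.trans (Subgroup.subgroupOfEquivOfLe hK).symm

theorem restrict_pt (K : Subgroup G) (hK : (B.S : Subgroup G) ≤ K) (u : U F) :
    ((B.restrict K hK).pt u : G) = B.pt u := rfl

theorem restrict_mem_Z (K : Subgroup G) (hK : (B.S : Subgroup G) ≤ K) {x : K} :
    x ∈ (B.restrict K hK).Z ↔ (x : G) ∈ B.Z := by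
  constructor
  · rintro ⟨u, ha, hb, rfl⟩
    exact ⟨u, ha, hb, rfl⟩
  · rintro ⟨u, ha, hb, e⟩
    exact ⟨u, ha, hb, Subtype.ext e⟩

theorem restrict_mem_E₁ (K : Subgroup G) (hK : (B.S : Subgroup G) ≤ K) {x : K} :
    x ∈ (B.restrict K hK).E₁ ↔ (x : G) ∈ B.E₁ := by
  constructor
  · rintro ⟨u, hb, rfl⟩
    exact ⟨u, hb, rfl⟩
  · rintro ⟨u, hb, e⟩
    exact ⟨u, hb, Subtype.ext e⟩

end Base

end CfsgLib.L34Sylow
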