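import Cfsg.Agent.Lib.L34Sylow.Dichotomy
import Cfsg.Agent.Lib.L34Sylow.Core
import Cfsg.Agent.Lib.L34Sylow.Transport
import Cfsg.Agent.Lib.ZStar.Main

/-!
The centraliser of a central involution is `2`-closed modulo its core.

Blueprint: `blueprint/S3198.md`, section 3.
-/

set_option autoImplicit false
set_option linter.unusedSectionVars false
set_option linter.style.haveILetI false

namespace CfsgLib.L34Sylow

open Subgroup Cfsg

variable {G : Type*} [Group G] {F : Type*} [Field F] [Finite G]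

namespace Base

variable (B : Base G F)

/-- An element fixing a central involution and acting with multipliers multiplies to one. -/
theorem Acts.mul_eq_one {n z : G} (hn : n ∈ normalizer ((B.S : Subgroup G) : Set G)) {l m : F} (h : B.Acts n l m)
    (hz : z ∈ B.Z) (hz1 : z ≠ 1) (hnz : n * z = z * n) : l * m = 1 := by
  obtain ⟨u, ha, hb, rfl⟩ := hz
  have hu : u = ⟨0, 0, u.c⟩ := U.ext ha hb rfl
  have hc : u.c ≠ 0 := fun e => hz1 (by rw [hu, e, ← map_one B.pt]; rfl)
  have h1 := h.conj_Z B hn u.c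
  rw [← hu, hnz, mul_inv_cancel_right] at h1
  have h2 : u.c = l * m * u.c := congrArg U.c (B.pt_injective h1)
  exact mul_right_cancel₀ hc (h2.symm.trans (one_mul _).symm)

/-- An element acting trivially of odd order centralises the Sylow subgroup. -/
theorem centralizes_of_acts_one {n : G} (hn : n ∈ normalizer ((B.S : Subgroup G) : Set G)) (h : B.Acts n 1 1)
    (hodd : Odd (orderOf n)) {x : G} (hx : x ∈ (B.S : Subgroup G)) : n * x = x * n := by
  obtain ⟨u, rfl⟩ := B.exists_pt hx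
  obtain ⟨v, hv, ha, hb⟩ := h.2.2 u
  obtain ⟨c, hc⟩ : ∃ c, c = (B.pt u)⁻¹ * B.pt v := ⟨_, rfl⟩
  have hcZ : c ∈ B.Z := by
    rw [hc, ← map_inv, ← map_mul, B.pt_mem_Z]
    simp [ha, hb]
  have hfix : n * c * n⁻¹ = c := by
    obtain ⟨w, hwa, hwb, rfl⟩ := hcZ
    rw [show w = ⟨0, 0, w.c⟩ from U.ext hwa hwb rfl, h.conj_Z B hn, one_mul, one_mul]
  have hk : ∀ k : ℕ, n ^ k * B.pt u * (n ^ k)⁻¹ = B.pt u * c ^ k := by
    intro k
    induction k with
    | zero => simp
    | succ k ih =>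
      calc n ^ (k + 1) * B.pt u * (n ^ (k + 1))⁻¹ = n * (n ^ k * B.pt u * (n ^ k)⁻¹) * n⁻¹ := by
            rw [pow_succ']; group
        _ = n * (B.pt u * c ^ k) * n⁻¹ := by rw [ih]
        _ = (n * B.pt u * n⁻¹) * (n * c * n⁻¹) ^ k := by rw [conj_pow]; group
        _ = B.pt v * c ^ k := by rw [hv, hfix]
        _ = B.pt u * c * c ^ k := by rw [show B.pt v = B.pt u * c by rw [hc, mul_inv_cancel_left]]
        _ = _ := by rw [pow_succ', mul_assoc]
  have h1 := hk (orderOf n)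
  rw [pow_orderOf_eq_one, one_mul, inv_one, mul_one] at h1
  have hc1 : c ^ orderOf n = 1 := mul_left_cancel (h1.symm.trans (mul_one _).symm)
  obtain ⟨j, hj⟩ := hodd
  rw [hj, pow_succ, pow_mul, pow_two, B.sq_E₁ (B.Z_le₁ hcZ), one_pow, one_mul] at hc1
  rw [hc1] at hc
  have hvu : B.pt v = B.pt u := by
    calc B.pt v = B.pt u * ((B.pt u)⁻¹ * B.pt v) := by group
      _ = _ := by rw [← hc, mul_one]
  rw [hvu] at hv
  exact mul_inv_eq_iff_eq_mul.mp hv

/-- **A group without core with a central involution has a normal Sylow subgroup.** -/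
theorem normal_of_central (hO : oddCore G = ⊥) {z : G} (hz : z ∈ B.Z) (hz1 : z ≠ 1)
    (hzc : ∀ g : G, g * z = z * g) : (B.S : Subgroup G).Normal := by
  haveI := two_fact
  have hzfix : ∀ g : G, g * z * g⁻¹ = z := fun g => by rw [hzc g, mul_inv_cancel_right]
  -- the elements of the centre are isolated
  have hiso : ∀ z' ∈ B.Z, ∀ g : G, g * z' * g⁻¹ ∈ (B.S : Subgroup G) → g * z' * g⁻¹ = z' := by
    have key : ∀ B : Base G F, z ∈ B.Z → ∀ z' ∈ B.Z, ∀ g : G, g * z' * g⁻¹ ∈ B.E₁ → g * z' * g⁻¹ = z' := by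
      intro B hz z' hz' g hg
      obtain ⟨n, hn, -, e⟩ := B.control₁ (C := ⊤) le_top (Subgroup.mem_top g) (B.Z_le₁ hz') hg
      have hnZ := B.Z_disjoint hn hz1 hz ((hzfix n) ▸ conj_mem_cj hz)
      obtain ⟨k, hk, hks⟩ := B.exists_sameOn_normalizer hn hnZ
      obtain ⟨l, m, hA⟩ := B.exists_acts hk
      have h1 := hA.mul_eq_one B hk hz hz1 (hzc k)
      rw [← e, hks z' (B.Z_le₁ hz')]
      obtain ⟨u, ha, hb, rfl⟩ := hz'
      rw [show u = ⟨0, 0, u.c⟩ from U.ext ha hb rfl, hA.conj_Z B hk, h1, one_mul]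
    intro z' hz' g hg
    have h2 : g * z' * g⁻¹ * (g * z' * g⁻¹) = 1 := by
      rw [show g * z' * g⁻¹ * (g * z' * g⁻¹) = g * (z' * z') * g⁻¹ by group, B.sq_E₁ (B.Z_le₁ hz')]; group
    rcases B.mem_E_of_sq hg h2 with h | h
    · exact key B hz z' hz' g h
    · exact key B.swap (B.swap_Z.symm ▸ hz) z' (B.swap_Z.symm ▸ hz') g (B.swap_E₁.symm ▸ h)
  have hcent : B.Z ≤ center G := by
    intro z' hz'
    rw [Subgroup.mem_center_iff]
    intro g
    rcases eq_or_ne z' 1 with rfl | h1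
    · simp
    have ho := orderOf_two_of_sq (B.sq_E₁ (B.Z_le₁ hz')) h1
    have h := ZStar.inZStar ho (ZStar.isolated_of_sylow B.S ho (B.Z_le hz') (hiso z' hz')) g
    change g * z' * g⁻¹ * z'⁻¹ ∈ oddCore G at h
    rw [hO, Subgroup.mem_bot, mul_inv_eq_one, mul_inv_eq_iff_eq_mul] at h
    exact h
  haveI : B.Z.Normal := ⟨fun x hx g => by
    rw [Subgroup.mem_center_iff.mp (hcent hx) g, mul_inv_cancel_right]; exact hx⟩
  let π := QuotientGroup.mk' B.Z
  have hπ : Function.Surjective π := QuotientGroup.mk'_surjective _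
  set T : Sylow 2 (G ⧸ B.Z) := B.S.mapSurjective hπ with hT
  have hTS : ∀ {x : G}, π x ∈ (T : Subgroup (G ⧸ B.Z)) ↔ x ∈ (B.S : Subgroup G) := by
    intro x
    constructor
    · rintro ⟨y, hy, e⟩
      have h := QuotientGroup.eq.mp e
      have := mul_mem hy (B.Z_le h)
      rwa [mul_inv_cancel_left] at this
    · exact fun hx => ⟨x, hx, rfl⟩
  have hOq : oddCore (G ⧸ B.Z) = ⊥ := by
    set N := (oddCore (G ⧸ B.Z)).comap π with hN
    haveI : N.Normal := inferInstanceAs (Subgroup.comap π (pPrimeCore 2 (G ⧸ B.Z))).Normal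
    obtain ⟨P⟩ : Nonempty (Sylow 2 N) := inferInstance
    have hPZ : ∀ p ∈ (P : Subgroup N), (p : G) ∈ B.Z := by
      intro p hp
      obtain ⟨k, hk⟩ := P.isPGroup' ⟨p, hp⟩
      have hk' : (p : G) ^ 2 ^ k = 1 := congrArg (fun x : (P : Subgroup N) => ((x : N) : G)) hk
      rw [← QuotientGroup.eq_one_iff]
      refine orderOf_eq_one_iff.mp (Nat.eq_one_of_dvd_coprimes
        ((Nat.coprime_two_left.mpr CfsgLib.odd_card_oddCore).pow_left k) ?_
        (Subgroup.orderOf_dvd_natCard _ (show π p ∈ oddCore (G ⧸ B.Z) from p.2)))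
      exact orderOf_dvd_of_pow_eq_one (by
        show (π p) ^ 2 ^ k = 1
        rw [← map_pow, hk', map_one])
    have hNP : normalizer ((P : Subgroup N) : Set N) ≤ centralizer ((P : Subgroup N) : Set N) :=
      fun n _ => Subgroup.mem_centralizer_iff.mpr fun p hp =>
        Subtype.ext (Subgroup.mem_center_iff.mp (hcent (hPZ p hp)) n).symm
    have hc := MonoidHom.ker_transferSylow_isComplement' P hNP
    set K := (MonoidHom.transferSylow P hNP).ker with hK
    have hKodd : Odd (Nat.card K) := by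
      rw [← Nat.not_even_iff_odd, even_iff_two_dvd]
      exact MonoidHom.not_dvd_card_ker_transferSylow P hNP
    have hKmem : ∀ g : N, Odd (orderOf g) → g ∈ K := fun g hg => by
      refine orderOf_eq_one_iff.mp (Nat.eq_one_of_dvd_coprimes ?_
        (orderOf_map_dvd (MonoidHom.transferSylow P hNP) g) (orderOf_dvd_natCard _))
      obtain ⟨k, hk⟩ := IsPGroup.iff_card.mp P.isPGroup'
      rw [hk]
      exact (Nat.coprime_two_right.mpr hg).pow_right k
    haveI : (K.map N.subtype).Normal := by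
      refine ⟨?_⟩
      rintro _ ⟨k, hk, rfl⟩ g
      refine ⟨⟨g * k * g⁻¹, (inferInstance : N.Normal).conj_mem k k.2 g⟩, hKmem _ ?_, rfl⟩
      rw [← Subgroup.orderOf_coe, Involutions.orderOf_conj, Subgroup.orderOf_coe]
      exact hKodd.of_dvd_nat (Subgroup.orderOf_dvd_natCard _ hk)
    have hK1 : K.map N.subtype ≤ oddCore G :=
      CfsgLib.le_oddCore (by rwa [Subgroup.card_map_of_injective N.subtype_injective])
    rw [Subgroup.eq_bot_iff_forall]
    intro y hy
    obtain ⟨g, rfl⟩ := hπ y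
    obtain ⟨⟨⟨k, hk⟩, ⟨p, hp⟩⟩, e⟩ := hc.surjective ⟨g, hy⟩
    have hk1 : (k : G) = 1 := by
      have := hK1 ⟨k, hk, rfl⟩
      rwa [hO, Subgroup.mem_bot] at this
    refine (QuotientGroup.eq_one_iff g).mpr ?_
    rw [show g = ((k : N) : G) * ((p : N) : G) from (congrArg Subtype.val e).symm, hk1, one_mul]
    exact hPZ p hp
  have hab : IsElementaryAbelian 2 (T : Subgroup (G ⧸ B.Z)) := by
    refine ⟨⟨⟨?_⟩⟩, ?_⟩
    · rintro ⟨_, x, hx, rfl⟩ ⟨_, y, hy, rfl⟩
      refine Subtype.ext ?_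
      show π x * π y = π y * π x
      rw [← map_mul, ← map_mul]
      refine (QuotientGroup.eq.mpr ?_)
      have := B.comm_mem_Z (inv_mem hy) (inv_mem hx)
      simpa [mul_assoc] using this
    · rintro _ ⟨x, hx, rfl⟩
      rw [← map_pow, pow_two]
      exact (QuotientGroup.eq_one_iff _).mpr (B.sq_mem_Z hx)
  have hker : (B.Z.subgroupOf (B.S : Subgroup G)) = (π.comp (B.S : Subgroup G).subtype).ker := by
    ext x
    rw [MonoidHom.mem_ker, MonoidHom.comp_apply, Subgroup.mem_subgroupOf]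
    exact (QuotientGroup.eq_one_iff _).symm
  have hTcard : Nat.card (T : Subgroup (G ⧸ B.Z)) * 4 = 64 := by
    have h1 := (π.comp (B.S : Subgroup G).subtype).ker.card_mul_index
    rw [Subgroup.index_ker, ← hker, Nat.card_congr (Subgroup.subgroupOfEquivOfLe B.Z_le).toEquiv, B.card_Z,
      B.card_S, MonoidHom.range_comp, Subgroup.range_subtype] at h1
    have e : (T : Subgroup (G ⧸ B.Z)) = (B.S : Subgroup G).map π := rfl
    rw [e]
    omega
  have hnorm : ∀ n : G, π n ∈ normalizer ((T : Subgroup (G ⧸ B.Z)) : Set (G ⧸ B.Z)) →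
      n ∈ normalizer ((B.S : Subgroup G) : Set G) := fun n hn => mem_normalizer_of_forall fun x hx =>
    hTS.mp (by rw [map_mul, map_mul, map_inv]; exact (Subgroup.mem_normalizer_iff.mp hn _).mp (hTS.mpr hx))
  have hTn : (T : Subgroup (G ⧸ B.Z)).Normal := by
    have hpt : ∀ u : U F, π (B.pt u) = 1 → u.a = 0 ∧ u.b = 0 := fun u h =>
      B.pt_mem_Z.mp ((QuotientGroup.eq_one_iff _).mp h)
    have hsame : ∀ u v : U F, π (B.pt u) = π (B.pt v) → v.a = u.a ∧ v.b = u.b := by
      intro u v h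
      have h' := hpt (u⁻¹ * v) (by rw [map_mul, map_mul, map_inv, map_inv, h, inv_mul_cancel])
      simp only [U.mul_a, U.inv_a, U.mul_b, U.inv_b] at h'
      exact ⟨by linear_combination h'.1, by linear_combination h'.2⟩
    refine normal_of_elementary hOq T hab (by omega) ?_ (a := π (B.pt ⟨1, 0, 0⟩)) (b := π (B.pt ⟨0, 1, 0⟩)) ?_ ?_ ?_
    · intro t ht ht1 n hn hnt x hx
      obtain ⟨s, hs, rfl⟩ := ht
      obtain ⟨y, hy, rfl⟩ := hx
      obtain ⟨n, rfl⟩ := hπ n
      have hn' := hnorm n hn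
      obtain ⟨l, m, hA⟩ := B.exists_acts hn'
      have hlm := hA.mul_eq_one B hn' hz hz1 (hzc n)
      obtain ⟨u, rfl⟩ := B.exists_pt hs
      obtain ⟨v, hv, hva, hvb⟩ := hA.2.2 u
      obtain ⟨h1, h2⟩ := hsame u v (by
        have := congrArg π hv
        rw [map_mul, map_mul, map_inv, hnt, mul_inv_cancel_right] at this
        exact this)
      have hone : l = 1 ∧ m = 1 := by
        by_cases hua : u.a = 0
        · have hub : u.b ≠ 0 := fun hub => ht1 ((QuotientGroup.eq_one_iff _).mpr (B.pt_mem_Z.mpr ⟨hua, hub⟩))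
          have hm : m = 1 := mul_right_cancel₀ hub (by rw [← hvb, h2, one_mul])
          rw [hm, mul_one] at hlm
          exact ⟨hlm, hm⟩
        · have hl : l = 1 := mul_right_cancel₀ hua (by rw [← hva, h1, one_mul])
          rw [hl, one_mul] at hlm
          exact ⟨hl, hlm⟩
      obtain ⟨rfl, rfl⟩ := hone
      obtain ⟨w, rfl⟩ := B.exists_pt hy
      obtain ⟨w', hw, hwa, hwb⟩ := hA.2.2 w
      have e : π (B.pt w') = π (B.pt w) := by
        refine QuotientGroup.eq.mpr ?_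
        rw [← map_inv, ← map_mul, B.pt_mem_Z]
        simp [hwa, hwb]
      rw [← hw, map_mul, map_mul, map_inv] at e
      exact mul_inv_eq_iff_eq_mul.mp e
    · exact orderOf_two_of_sq (by rw [← map_mul, B.sq_E₁ (B.pt_mem_E₁.mpr rfl), map_one])
        fun h => one_ne_zero (hpt _ h).1
    · exact orderOf_two_of_sq (by rw [← map_mul, B.sq_E₂ (B.pt_mem_E₂.mpr rfl), map_one])
        fun h => one_ne_zero (hpt _ h).2
    · intro hc
      obtain ⟨g, hg⟩ := isConj_iff.mp hc
      obtain ⟨n, hn, hne⟩ := CfsgLib.TransferApps.exists_normalizer_conj_of_abelian T hab.1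
        (hTS.mpr (B.pt_mem _)) (g := g) (by rw [hg]; exact hTS.mpr (B.pt_mem _))
      rw [hg] at hne
      obtain ⟨n, rfl⟩ := hπ n
      obtain ⟨l, m, hA⟩ := B.exists_acts (hnorm n hn)
      obtain ⟨v, hv, hva, hvb⟩ := hA.2.2 ⟨1, 0, 0⟩
      rw [← map_inv, ← map_mul, ← map_mul, hv] at hne
      have := (hsame _ _ hne).2
      rw [hvb, mul_zero] at this
      exact one_ne_zero this
  refine ⟨fun x hx g => ?_⟩
  refine hTS.mp ?_
  rw [map_mul, map_mul, map_inv]
  exact hTn.conj_mem _ (hTS.mpr hx) _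

/-- Without core a normal Sylow subgroup contains the odd elements of its centraliser only trivially. -/
theorem eq_one_of_centralizes (hO : oddCore G = ⊥) (hS : (B.S : Subgroup G).Normal) {x : G}
    (hx : ∀ s ∈ (B.S : Subgroup G), x * s = s * x) (hodd : Odd (orderOf x)) : x = 1 := by
  haveI := two_fact
  haveI := hS
  set D := centralizer ((B.S : Subgroup G) : Set G)
  haveI hDn : D.Normal := Subgroup.normal_centralizer (H := (B.S : Subgroup G))
  obtain ⟨P⟩ : Nonempty (Sylow 2 D) := inferInstance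
  have hPZ : ∀ p ∈ (P : Subgroup D), ∀ d : D, (p : G) * d = d * p := by
    intro p hp d
    have h1 : IsPGroup 2 ↥((P : Subgroup D).map D.subtype ⊔ (B.S : Subgroup G)) :=
      IsPGroup.to_sup_of_normal_right' (P.isPGroup'.map _) B.S.isPGroup'
        (fun q _ => by rw [Subgroup.normalizer_eq_top]; exact Subgroup.mem_top q)
    have hle := B.S.is_maximal' h1 le_sup_right
    have hpS : (p : G) ∈ (B.S : Subgroup G) := by
      have : (p : G) ∈ (P : Subgroup D).map D.subtype ⊔ (B.S : Subgroup G) :=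
        Subgroup.mem_sup_left ⟨p, hp, rfl⟩
      rwa [hle] at this
    exact Subgroup.mem_centralizer_iff.mp d.2 _ hpS
  have hNP : normalizer ((P : Subgroup D) : Set D) ≤ centralizer ((P : Subgroup D) : Set D) :=
    fun n _ => Subgroup.mem_centralizer_iff.mpr fun p hp => Subtype.ext (hPZ p hp n)
  set K := (MonoidHom.transferSylow P hNP).ker
  have hKodd : Odd (Nat.card K) := by
    rw [← Nat.not_even_iff_odd, even_iff_two_dvd]
    exact MonoidHom.not_dvd_card_ker_transferSylow P hNP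
  have hKmem : ∀ g : D, Odd (orderOf g) → g ∈ K := fun g hg => by
    refine orderOf_eq_one_iff.mp (Nat.eq_one_of_dvd_coprimes ?_
      (orderOf_map_dvd (MonoidHom.transferSylow P hNP) g) (orderOf_dvd_natCard _))
    obtain ⟨k, hk⟩ := IsPGroup.iff_card.mp P.isPGroup'
    rw [hk]
    exact (Nat.coprime_two_right.mpr hg).pow_right k
  haveI : (K.map D.subtype).Normal := by
    refine ⟨?_⟩
    rintro _ ⟨k, hk, rfl⟩ g
    refine ⟨⟨g * k * g⁻¹, hDn.conj_mem k k.2 g⟩, hKmem _ ?_, rfl⟩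
    rw [← Subgroup.orderOf_coe, Involutions.orderOf_conj, Subgroup.orderOf_coe]
    exact hKodd.of_dvd_nat (Subgroup.orderOf_dvd_natCard _ hk)
  have hK1 : K.map D.subtype ≤ oddCore G :=
    CfsgLib.le_oddCore (by rwa [Subgroup.card_map_of_injective D.subtype_injective])
  have hxD : x ∈ D := Subgroup.mem_centralizer_iff.mpr fun s hs => (hx s hs).symm
  have := hK1 ⟨⟨x, hxD⟩, hKmem _ (by rwa [Subgroup.orderOf_mk]), rfl⟩
  rwa [hO, Subgroup.mem_bot] at this

/-- The structure of the centraliser of a central involution. -/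
theorem cent_Z {z : G} (hz : z ∈ B.Z) (hz1 : z ≠ 1) :
    (∀ g ∈ centralizer ({z} : Set G), ∃ o ∈ oddC z, ∃ n ∈ normalizer ((B.S : Subgroup G) : Set G),
      n * z = z * n ∧ g = o * n) ∧
    ∀ g ∈ centralizer ({z} : Set G), Odd (orderOf g) →
      (∀ e ∈ B.E₁, g * e * g⁻¹ * e⁻¹ ∈ oddC z) → g ∈ oddC z := by
  haveI := two_fact
  set C := centralizer ({z} : Set G) with hC
  have hSC : (B.S : Subgroup G) ≤ C := fun s hs => Subgroup.mem_centralizer_singleton_iff.mpr (B.Z_comm hz hs).symm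
  haveI hOn : (oddCore ↥C).Normal := inferInstanceAs (pPrimeCore 2 ↥C).Normal
  set π := QuotientGroup.mk' (oddCore ↥C)
  have hπ : Function.Surjective π := QuotientGroup.mk'_surjective _
  set B₀ := B.restrict C hSC
  have hinj : Set.InjOn π (B₀.S : Subgroup C) := by
    intro x hx y hy h
    have h' := QuotientGroup.eq.mp h
    have hxy : x⁻¹ * y ∈ (B₀.S : Subgroup C) := mul_mem (inv_mem hx) hy
    refine inv_mul_eq_one.mp (orderOf_eq_one_iff.mp ?_)
    refine Nat.eq_one_of_dvd_coprimes (a := Nat.card (B₀.S : Subgroup C)) ?_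
      (Subgroup.orderOf_dvd_natCard _ hxy) (Subgroup.orderOf_dvd_natCard _ h')
    rw [B₀.card_S, show (64 : ℕ) = 2 ^ 6 by norm_num]
    exact (Nat.coprime_two_left.mpr CfsgLib.odd_card_oddCore).pow_left 6
  set B₁ := B₀.map π hπ hinj with hB₁
  have hO : oddCore (↥C ⧸ oddCore ↥C) = ⊥ := CfsgLib.pPrimeCore_quotient_eq_bot 2
  have hzB₀ : (⟨z, hSC (B.Z_le hz)⟩ : C) ∈ B₀.Z := (B.restrict_mem_Z C hSC).mpr hz
  set zb := π ⟨z, hSC (B.Z_le hz)⟩
  have hzb1 : zb ≠ 1 := fun e => hz1 (by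
    have := hinj (B₀.Z_le hzB₀) (B₀.S : Subgroup C).one_mem (e.trans (map_one π).symm)
    exact congrArg Subtype.val this)
  have hnorm := B₁.normal_of_central hO (B₀.map_mem_Z π hπ hinj hzB₀) hzb1 fun q => by
    obtain ⟨c, rfl⟩ := hπ q
    rw [← map_mul, ← map_mul]
    exact congrArg π (Subtype.ext (Subgroup.mem_centralizer_singleton_iff.mp c.2))
  have part1 : ∀ g ∈ C, ∃ o ∈ oddC z, ∃ n ∈ normalizer ((B.S : Subgroup G) : Set G), n * z = z * n ∧ g = o * n := by
    intro g hg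
    set OS := (oddCore ↥C) ⊔ (B₀.S : Subgroup C) with hOS
    have h2 : (((⟨g, hg⟩ : C) • B₀.S : Sylow 2 C) : Subgroup C) ≤ OS := by
      rintro _ ⟨s, hs, rfl⟩
      have hm : π (⟨g, hg⟩ * s * ⟨g, hg⟩⁻¹) ∈ (B₁.S : Subgroup (↥C ⧸ oddCore ↥C)) := by
        rw [map_mul, map_mul, map_inv]
        exact hnorm.conj_mem _ ⟨s, hs, rfl⟩ _
      obtain ⟨t, ht, e⟩ := hm
      have h := QuotientGroup.eq.mp e
      have := mul_mem (Subgroup.mem_sup_right (S := oddCore ↥C) ht)
        (Subgroup.mem_sup_left (T := (B₀.S : Subgroup C)) h)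
      rwa [mul_inv_cancel_left] at this
    obtain ⟨d, hd⟩ := MulAction.exists_smul_eq ↥OS (((⟨g, hg⟩ : C) • B₀.S).subtype h2) (B₀.S.subtype le_sup_right)
    rw [Sylow.smul_subtype] at hd
    have hd' := Sylow.subtype_injective hd
    rw [Subgroup.smul_def, smul_smul] at hd'
    have hn := Sylow.smul_eq_iff_mem_normalizer.mp hd'
    obtain ⟨o, ho, s, hs, e⟩ := Subgroup.mem_sup_of_normal_left.mp d.2
    have ho' : ((o : C) : G) ∈ oddC z := ⟨o, ho, rfl⟩
    have hs' : ((s : C) : G) ∈ (B.S : Subgroup G) := hs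
    have hsg : ((s : C) : G) * g ∈ C := mul_mem (s : C).2 hg
    have he : ((o : C) : G) * ((s : C) : G) = ((d : C) : G) := congrArg Subtype.val e
    refine ⟨((s : C) : G)⁻¹ * ((o : C) : G)⁻¹ * ((s : C) : G), ?_, ((s : C) : G)⁻¹ * (((d : C) : G) * g), ?_, ?_, by
      rw [← he]; group⟩
    · have := oddC_normal (inv_mem (s : C).2) (inv_mem ho')
      rwa [inv_inv] at this
    · refine mul_mem (inv_mem (Subgroup.le_normalizer hs')) (mem_normalizer_of_forall fun x hx => ?_)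
      exact (Subgroup.mem_normalizer_iff.mp hn ⟨x, hSC hx⟩).mp hx
    · exact Subgroup.mem_centralizer_singleton_iff.mp (mul_mem (inv_mem (s : C).2) (mul_mem (d : C).2 hg))
  refine ⟨part1, fun g hg hodd hcomm => ?_⟩
  obtain ⟨o, ho, n, hn, hnz, rfl⟩ := part1 g hg
  have hE : ∀ e ∈ B.E₁, n * e * n⁻¹ = e := by
    intro e he
    have hS' : n * e * n⁻¹ * e⁻¹ ∈ (B.S : Subgroup G) :=
      mul_mem ((Subgroup.mem_normalizer_iff.mp hn e).mp (B.E₁_le he)) (inv_mem (B.E₁_le he))
    have heC : e ∈ C := hSC (B.E₁_le he)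
    have h1 : n * e * n⁻¹ * e⁻¹ ∈ oddC z := by
      rw [show n * e * n⁻¹ * e⁻¹ = o⁻¹ * (o * n * e * (o * n)⁻¹ * e⁻¹) * (e * o * e⁻¹) by group]
      exact mul_mem (mul_mem (inv_mem ho) (hcomm e he)) (oddC_normal heC ho)
    refine mul_inv_eq_one.mp (orderOf_eq_one_iff.mp ?_)
    refine Nat.eq_one_of_dvd_coprimes (a := Nat.card (B.S : Subgroup G)) ?_
      (Subgroup.orderOf_dvd_natCard _ hS') (Subgroup.orderOf_dvd_natCard _ h1)
    rw [B.card_S, show (64 : ℕ) = 2 ^ 6 by norm_num]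
    exact (Nat.coprime_two_left.mpr (odd_oddC z)).pow_left 6
  obtain ⟨l, m, hA⟩ := B.exists_acts hn
  have hl : l = 1 := by
    obtain ⟨v, hv, hva, -⟩ := hA.2.2 ⟨1, 0, 0⟩
    rw [hE _ (B.pt_mem_E₁.mpr rfl)] at hv
    rw [← B.pt_injective hv, mul_one] at hva
    exact hva.symm
  have hlm := hA.mul_eq_one B hn hz hz1 hnz
  rw [hl, one_mul] at hlm
  subst hl hlm
  set q := π ⟨o * n, hg⟩ with hq
  have hnC : n ∈ C := Subgroup.mem_centralizer_singleton_iff.mpr hnz
  have hqn : q = π ⟨n, hnC⟩ := by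
    obtain ⟨o', ho', e'⟩ := ho
    subst e'
    have : (⟨(o' : G) * n, hg⟩ : C) = o' * ⟨n, hnC⟩ := Subtype.ext rfl
    show π ⟨(o' : G) * n, _⟩ = _
    rw [this, map_mul, show π o' = 1 from (QuotientGroup.eq_one_iff o').mpr ho', one_mul]
  have hqS : q ∈ normalizer ((B₁.S : Subgroup (↥C ⧸ oddCore ↥C)) : Set (↥C ⧸ oddCore ↥C)) := by
    rw [Subgroup.normalizer_eq_top]; exact Subgroup.mem_top q
  have hqodd : Odd (orderOf q) := by
    rw [hq]
    exact hodd.of_dvd_nat ((orderOf_map_dvd π _).trans (dvd_of_eq (Subgroup.orderOf_mk _ hg)))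
  have hq1 : q = 1 := by
    refine B₁.eq_one_of_centralizes hO hnorm (fun s hs => B₁.centralizes_of_acts_one hqS ?_ hqodd hs) hqodd
    refine ⟨one_ne_zero, one_ne_zero, fun u => ?_⟩
    obtain ⟨v, hv, hva, hvb⟩ := hA.2.2 u
    refine ⟨v, ?_, hva, hvb⟩
    rw [hqn, hB₁, B₀.map_pt, B₀.map_pt, ← map_inv, ← map_mul, ← map_mul]
    exact congrArg π (Subtype.ext hv)
  exact ⟨⟨o * n, hg⟩, (QuotientGroup.eq_one_iff _).mp hq1, rfl⟩

end Base

end CfsgLib.L34Sylow
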