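import Cfsg.Agent.Lib.L34Sylow.Model
import Cfsg.Agent.Lib.SteinerPlane.Field
import Cfsg.Agent.Lib.U34Char.Basic
import Cfsg.Prelude.Def_Local

/-!
Coordinates on a Sylow 2-subgroup of the type of `PSL₃(4)`.

Blueprint: `blueprint/S3198.md`, section 0.
-/

set_option autoImplicit false
set_option linter.unusedSectionVars false
set_option linter.style.haveILetI false

namespace CfsgLib.L34Sylow

open Subgroup Cfsg

variable {F : Type*} [Field F]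

/-- The Sylow 2-subgroup of `PSL₃(4)` is unitriangular. -/
theorem exists_equiv [Fintype F] (hF : Fintype.card F = 4)
    (P : Sylow 2 (Matrix.ProjectiveSpecialLinearGroup (Fin 3) F)) :
    Nonempty (U F ≃* (P : Subgroup (Matrix.ProjectiveSpecialLinearGroup (Fin 3) F))) := by
  haveI : Fact (Nat.Prime 2) := ⟨Nat.prime_two⟩
  haveI : Finite (Matrix.SpecialLinearGroup (Fin 3) F) := Subtype.finite
  classical
  haveI : Fintype (Projectivization F (Fin 3 → F)) := Fintype.ofFinite _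
  have hF' : Nat.card F = 4 := by rw [Nat.card_eq_fintype_card, hF]
  have hc : Nat.card (U.toPSL (F := F)).range = 2 ^ (Nat.card (Matrix.ProjectiveSpecialLinearGroup (Fin 3) F)).factorization 2 := by
    rw [← Nat.card_congr (MonoidHom.ofInjective U.toPSL_injective).toEquiv, U.card_eq hF', CfsgPlane.card_PSL34 hF,
      show (20160 : ℕ) = 2 ^ 6 * 315 by norm_num, Nat.factorization_mul (by norm_num) (by norm_num),
      Finsupp.add_apply, Nat.Prime.factorization_pow Nat.prime_two, Finsupp.single_eq_same,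
      Nat.factorization_eq_zero_of_not_dvd (by norm_num : ¬ 2 ∣ 315)]
    norm_num
  exact ⟨(MonoidHom.ofInjective U.toPSL_injective).trans (Sylow.equiv (Sylow.ofCard _ hc) P)⟩

namespace U

variable (hF : Nat.card F = 4)

/-- The automorphism exchanging the two pieces. -/
def flip : U F ≃* U F where
  toFun u := ⟨u.b, u.a, u.c + u.a * u.b⟩
  invFun u := ⟨u.b, u.a, u.c + u.a * u.b⟩
  left_inv u := by
    have := add_self hF (u.a * u.b)
    ext <;> simp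
    linear_combination this
  right_inv u := by
    have := add_self hF (u.a * u.b)
    ext <;> simp
    linear_combination this
  map_mul' u v := by
    have := add_self hF (u.a * v.b)
    ext <;> simp
    linear_combination this

end U

variable {G : Type*} [Group G]

/-- Coordinates. -/
structure Base (G : Type*) [Group G] (F : Type*) [Field F] where
  /-- The Sylow subgroup. -/
  S : Sylow 2 G
  hF : Nat.card F = 4
  /-- The coordinates. -/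
  e : U F ≃* (S : Subgroup G)

namespace Base

variable (B : Base G F)

/-- The element with given coordinates. -/
def pt : U F →* G := (B.S : Subgroup G).subtype.comp B.e.toMonoidHom

/-- The centre. -/
def Z : Subgroup G where
  carrier := {x | ∃ u : U F, u.a = 0 ∧ u.b = 0 ∧ B.pt u = x}
  one_mem' := ⟨1, rfl, rfl, map_one _⟩
  mul_mem' := by
    rintro _ _ ⟨u, ha, hb, rfl⟩ ⟨v, ha', hb', rfl⟩
    exact ⟨u * v, by simp [ha, ha'], by simp [hb, hb'], map_mul _ _ _⟩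
  inv_mem' := by
    rintro _ ⟨u, ha, hb, rfl⟩
    exact ⟨u⁻¹, by simp [ha], by simp [hb], map_inv _ _⟩

/-- The first elementary piece. -/
def E₁ : Subgroup G where
  carrier := {x | ∃ u : U F, u.b = 0 ∧ B.pt u = x}
  one_mem' := ⟨1, rfl, map_one _⟩
  mul_mem' := by
    rintro _ _ ⟨u, hb, rfl⟩ ⟨v, hb', rfl⟩
    exact ⟨u * v, by simp [hb, hb'], map_mul _ _ _⟩
  inv_mem' := by
    rintro _ ⟨u, hb, rfl⟩
    exact ⟨u⁻¹, by simp [hb], map_inv _ _⟩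

/-- The second elementary piece. -/
def E₂ : Subgroup G where
  carrier := {x | ∃ u : U F, u.a = 0 ∧ B.pt u = x}
  one_mem' := ⟨1, rfl, map_one _⟩
  mul_mem' := by
    rintro _ _ ⟨u, hb, rfl⟩ ⟨v, hb', rfl⟩
    exact ⟨u * v, by simp [hb, hb'], map_mul _ _ _⟩
  inv_mem' := by
    rintro _ ⟨u, hb, rfl⟩
    exact ⟨u⁻¹, by simp [hb], map_inv _ _⟩

/-- The coordinates with the two pieces exchanged. -/
def swap : Base G F := ⟨B.S, B.hF, (U.flip B.hF).trans B.e⟩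

theorem swap_S : B.swap.S = B.S := rfl

theorem swap_pt (u : U F) : B.swap.pt u = B.pt (U.flip B.hF u) := rfl

theorem swap_Z : B.swap.Z = B.Z := by
  ext x
  constructor
  · rintro ⟨u, ha, hb, rfl⟩
    exact ⟨U.flip B.hF u, hb, ha, rfl⟩
  · rintro ⟨u, ha, hb, rfl⟩
    refine ⟨(U.flip B.hF).symm u, hb, ha, ?_⟩
    rw [swap_pt, MulEquiv.apply_symm_apply]

theorem swap_E₁ : B.swap.E₁ = B.E₂ := by
  ext x
  constructor
  · rintro ⟨u, hb, rfl⟩
    exact ⟨U.flip B.hF u, hb, rfl⟩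
  · rintro ⟨u, ha, rfl⟩
    refine ⟨(U.flip B.hF).symm u, ha, ?_⟩
    rw [swap_pt, MulEquiv.apply_symm_apply]

theorem swap_E₂ : B.swap.E₂ = B.E₁ := by
  ext x
  constructor
  · rintro ⟨u, hb, rfl⟩
    exact ⟨U.flip B.hF u, hb, rfl⟩
  · rintro ⟨u, ha, rfl⟩
    refine ⟨(U.flip B.hF).symm u, ha, ?_⟩
    rw [swap_pt, MulEquiv.apply_symm_apply]

theorem pt_injective : Function.Injective B.pt := fun _ _ h => B.e.injective (Subtype.ext h)

theorem pt_mem (u : U F) : B.pt u ∈ (B.S : Subgroup G) := (B.e u).2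

theorem exists_pt {x : G} (hx : x ∈ (B.S : Subgroup G)) : ∃ u, B.pt u = x :=
  ⟨B.e.symm ⟨x, hx⟩, by show ((B.e (B.e.symm ⟨x, hx⟩) : (B.S : Subgroup G)) : G) = x; rw [MulEquiv.apply_symm_apply]⟩

theorem pt_mem_Z {u : U F} : B.pt u ∈ B.Z ↔ u.a = 0 ∧ u.b = 0 :=
  ⟨fun ⟨v, ha, hb, h⟩ => by rw [← B.pt_injective h]; exact ⟨ha, hb⟩, fun h => ⟨u, h.1, h.2, rfl⟩⟩

theorem pt_mem_E₁ {u : U F} : B.pt u ∈ B.E₁ ↔ u.b = 0 :=
  ⟨fun ⟨v, hb, h⟩ => by rw [← B.pt_injective h]; exact hb, fun h => ⟨u, h, rfl⟩⟩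

theorem pt_mem_E₂ {u : U F} : B.pt u ∈ B.E₂ ↔ u.a = 0 :=
  ⟨fun ⟨v, hb, h⟩ => by rw [← B.pt_injective h]; exact hb, fun h => ⟨u, h, rfl⟩⟩

theorem E₁_le : B.E₁ ≤ (B.S : Subgroup G) := by
  rintro _ ⟨u, -, rfl⟩; exact B.pt_mem u

theorem E₂_le : B.E₂ ≤ (B.S : Subgroup G) := by
  rintro _ ⟨u, -, rfl⟩; exact B.pt_mem u

theorem Z_le₁ : B.Z ≤ B.E₁ := by
  rintro _ ⟨u, -, hb, rfl⟩; exact ⟨u, hb, rfl⟩

theorem Z_le₂ : B.Z ≤ B.E₂ := by
  rintro _ ⟨u, ha, -, rfl⟩; exact ⟨u, ha, rfl⟩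

theorem Z_le : B.Z ≤ (B.S : Subgroup G) := B.Z_le₁.trans B.E₁_le

theorem inf_eq : B.E₁ ⊓ B.E₂ = B.Z := by
  refine le_antisymm ?_ (le_inf B.Z_le₁ B.Z_le₂)
  rintro _ ⟨⟨u, hb, rfl⟩, h2⟩
  exact B.pt_mem_Z.mpr ⟨B.pt_mem_E₂.mp h2, hb⟩

theorem card_S : Nat.card (B.S : Subgroup G) = 64 := by rw [← Nat.card_congr B.e.toEquiv, U.card_eq B.hF]

theorem card_Z : Nat.card B.Z = 4 := by
  rw [← B.hF]
  refine (Nat.card_congr (Equiv.ofBijective (fun c : F => (⟨B.pt ⟨0, 0, c⟩, ⟨0, 0, c⟩, rfl, rfl, rfl⟩ : B.Z))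
    ⟨fun c d h => by
      have h' : B.pt ⟨0, 0, c⟩ = B.pt ⟨0, 0, d⟩ := Subtype.mk_eq_mk.mp h
      exact congrArg U.c (B.pt_injective h'), ?_⟩)).symm
  rintro ⟨_, u, ha, hb, rfl⟩
  exact ⟨u.c, Subtype.ext (congrArg B.pt (U.ext ha.symm hb.symm rfl))⟩

theorem card_E₁ : Nat.card B.E₁ = 16 := by
  rw [show (16 : ℕ) = Nat.card (F × F) by rw [Nat.card_prod, B.hF]]
  refine (Nat.card_congr (Equiv.ofBijective (fun c : F × F => (⟨B.pt ⟨c.1, 0, c.2⟩, ⟨c.1, 0, c.2⟩, rfl, rfl⟩ : B.E₁))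
    ⟨fun c d h => ?_, ?_⟩)).symm
  · have h'' : B.pt ⟨c.1, 0, c.2⟩ = B.pt ⟨d.1, 0, d.2⟩ := Subtype.mk_eq_mk.mp h
    have h' := B.pt_injective h''
    exact Prod.ext (congrArg U.a h') (congrArg U.c h')
  rintro ⟨_, u, hb, rfl⟩
  exact ⟨(u.a, u.c), Subtype.ext (congrArg B.pt (U.ext rfl hb.symm rfl))⟩

theorem card_E₂ : Nat.card B.E₂ = 16 := B.swap_E₁ ▸ B.swap.card_E₁

theorem mem_E_of_sq {x : G} (hx : x ∈ (B.S : Subgroup G)) (h : x * x = 1) : x ∈ B.E₁ ∨ x ∈ B.E₂ := by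
  obtain ⟨u, rfl⟩ := B.exists_pt hx
  rw [← map_mul, ← map_one B.pt] at h
  rcases (U.sq_one_iff B.hF).mp (B.pt_injective h) with h | h
  · exact Or.inr (B.pt_mem_E₂.mpr h)
  · exact Or.inl (B.pt_mem_E₁.mpr h)

theorem sq_E₁ {x : G} (hx : x ∈ B.E₁) : x * x = 1 := by
  obtain ⟨u, hu, rfl⟩ := hx
  rw [← map_mul, (U.sq_one_iff B.hF).mpr (Or.inr hu), map_one]

theorem sq_E₂ {x : G} (hx : x ∈ B.E₂) : x * x = 1 := B.swap.sq_E₁ (B.swap_E₁ ▸ hx)

theorem comm_E₁ {x y : G} (hx : x ∈ B.E₁) (hy : y ∈ B.E₁) : x * y = y * x := by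
  obtain ⟨u, hu, rfl⟩ := hx
  obtain ⟨v, hv, rfl⟩ := hy
  rw [← map_mul, ← map_mul, (U.comm_iff B.hF).mpr (by rw [hu, hv, mul_zero, mul_zero])]

theorem comm_E₂ {x y : G} (hx : x ∈ B.E₂) (hy : y ∈ B.E₂) : x * y = y * x :=
  B.swap.comm_E₁ (B.swap_E₁ ▸ hx) (B.swap_E₁ ▸ hy)

theorem ea_E₁ : IsElementaryAbelian 2 B.E₁ :=
  ⟨⟨⟨fun a b => Subtype.ext (B.comm_E₁ a.2 b.2)⟩⟩, fun a ha => by rw [pow_two]; exact B.sq_E₁ ha⟩

theorem ea_E₂ : IsElementaryAbelian 2 B.E₂ := B.swap_E₁ ▸ B.swap.ea_E₁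

theorem Z_comm {z s : G} (hz : z ∈ B.Z) (hs : s ∈ (B.S : Subgroup G)) : z * s = s * z := by
  obtain ⟨u, ha, hb, rfl⟩ := hz
  obtain ⟨v, rfl⟩ := B.exists_pt hs
  rw [← map_mul, ← map_mul, U.center_of_zero ha hb]

/-- The centraliser in the Sylow subgroup of an element of a piece outside the centre is the piece. -/
theorem mem_E₁_of_comm {x s : G} (hx : x ∈ B.E₁) (hxZ : x ∉ B.Z) (hs : s ∈ (B.S : Subgroup G))
    (h : x * s = s * x) : s ∈ B.E₁ := by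
  obtain ⟨u, hu, rfl⟩ := hx
  obtain ⟨v, rfl⟩ := B.exists_pt hs
  rw [← map_mul, ← map_mul] at h
  have h' := (U.comm_iff B.hF).mp (B.pt_injective h)
  rw [hu, mul_zero] at h'
  refine B.pt_mem_E₁.mpr ((mul_eq_zero.mp h').resolve_left fun ha => hxZ (B.pt_mem_Z.mpr ⟨ha, hu⟩))

theorem mem_E₂_of_comm {x s : G} (hx : x ∈ B.E₂) (hxZ : x ∉ B.Z) (hs : s ∈ (B.S : Subgroup G))
    (h : x * s = s * x) : s ∈ B.E₂ := by
  rw [← swap_E₁] at hx ⊢
  rw [← swap_Z] at hxZ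
  exact B.swap.mem_E₁_of_comm hx hxZ hs h

/-- Commutators lie in the centre. -/
theorem comm_mem_Z {s t : G} (hs : s ∈ (B.S : Subgroup G)) (ht : t ∈ (B.S : Subgroup G)) :
    s * t * s⁻¹ * t⁻¹ ∈ B.Z := by
  obtain ⟨u, rfl⟩ := B.exists_pt hs
  obtain ⟨v, rfl⟩ := B.exists_pt ht
  rw [← map_inv, ← map_inv, ← map_mul, ← map_mul, ← map_mul, U.comm_eq B.hF]
  exact B.pt_mem_Z.mpr ⟨rfl, rfl⟩

/-- Squares lie in the centre. -/
theorem sq_mem_Z {s : G} (hs : s ∈ (B.S : Subgroup G)) : s * s ∈ B.Z := by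
  obtain ⟨u, rfl⟩ := B.exists_pt hs
  rw [← map_mul, U.sq_eq B.hF]
  exact B.pt_mem_Z.mpr ⟨rfl, rfl⟩

theorem conj_mem_E₁ {s x : G} (hs : s ∈ (B.S : Subgroup G)) (hx : x ∈ B.E₁) : s * x * s⁻¹ ∈ B.E₁ := by
  have h := mul_mem (B.Z_le₁ (B.comm_mem_Z hs (B.E₁_le hx))) hx
  simpa [mul_assoc] using h

theorem conj_mem_E₂ {s x : G} (hs : s ∈ (B.S : Subgroup G)) (hx : x ∈ B.E₂) : s * x * s⁻¹ ∈ B.E₂ := by
  rw [← swap_E₁] at hx ⊢
  exact B.swap.conj_mem_E₁ hs hx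

/-- An elementary subgroup of order sixteen is one of the pieces. -/
theorem eq_E {A : Subgroup G} (hA : A ≤ (B.S : Subgroup G)) (hsq : ∀ x ∈ A, x * x = 1) (hc : Nat.card A = 16) :
    A = B.E₁ ∨ A = B.E₂ := by
  haveI : Finite A := Nat.finite_of_card_ne_zero (by omega)
  have h : A ≤ B.E₁ ∨ A ≤ B.E₂ := by
    by_contra hc'
    push Not at hc'
    obtain ⟨⟨a, ha, ha'⟩, ⟨b, hb, hb'⟩⟩ := And.intro (SetLike.not_le_iff_exists.mp hc'.1)
      (SetLike.not_le_iff_exists.mp hc'.2)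
    have ha2 := (B.mem_E_of_sq (hA ha) (hsq a ha)).resolve_left ha'
    have hb1 := (B.mem_E_of_sq (hA hb) (hsq b hb)).resolve_right hb'
    rcases B.mem_E_of_sq (hA (mul_mem ha hb)) (hsq _ (mul_mem ha hb)) with h | h
    · exact ha' (by simpa using mul_mem h (inv_mem hb1))
    · exact hb' (by simpa using mul_mem (inv_mem ha2) h)
  rcases h with h | h
  · haveI : Finite B.E₁ := Nat.finite_of_card_ne_zero (by rw [B.card_E₁]; norm_num)
    exact Or.inl (Subgroup.eq_of_le_of_card_ge h (by rw [B.card_E₁, hc]))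
  · haveI : Finite B.E₂ := Nat.finite_of_card_ne_zero (by rw [B.card_E₂]; norm_num)
    exact Or.inr (Subgroup.eq_of_le_of_card_ge h (by rw [B.card_E₂, hc]))

/-- Conjugation by the second piece moves an outer element of the first over its whole coset. -/
theorem exists_shift {x z : G} (hx : x ∈ B.E₁) (hxZ : x ∉ B.Z) (hz : z ∈ B.Z) :
    ∃ s ∈ B.E₂, s * x * s⁻¹ = x * z := by
  obtain ⟨u, hu, rfl⟩ := hx
  obtain ⟨v, ha, hb, rfl⟩ := hz
  have hua : u.a ≠ 0 := fun ha => hxZ (B.pt_mem_Z.mpr ⟨ha, hu⟩)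
  refine ⟨B.pt ⟨0, v.c / u.a, 0⟩, B.pt_mem_E₂.mpr rfl, ?_⟩
  rw [← map_inv, ← map_mul, ← map_mul, ← map_mul]
  congr 1
  ext
  · simp [ha]
  · simp [hu, hb]
  · simp only [U.mul_c, U.mul_a, U.inv_b, U.inv_c, U.mul_b]
    rw [hb, neg_eq B.hF]
    field_simp
    linear_combination -(u.a * v.c) * two_eq_zero B.hF

end Base

end CfsgLib.L34Sylow
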