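import Cfsg.Agent.Lib.L34Sylow.CentFull
import Cfsg.Agent.Lib.L34Sylow.CaseUnfused

/-!
Counting the class of an outer involution in two ways.

Blueprint: `blueprint/S3198.md`, section 4 (a,a) III.
-/

set_option autoImplicit false
set_option linter.unusedSectionVars false
set_option linter.style.haveILetI false

namespace CfsgLib.L34Sylow

open Subgroup Cfsg

variable {G : Type*} [Group G]

theorem pow_cong {N : Subgroup G} {a s : G} (hs : ∀ i : ℕ, ∀ r ∈ N, s ^ i * r * (s ^ i)⁻¹ ∈ N) (h : a * s⁻¹ ∈ N) :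
    ∀ k : ℕ, a ^ k * (s ^ k)⁻¹ ∈ N
  | 0 => by simp
  | k + 1 => by
    have h1 := pow_cong hs h k
    rw [pow_succ, pow_succ, show a ^ k * a * (s ^ k * s)⁻¹ =
      (a ^ k * (s ^ k)⁻¹) * (s ^ k * (a * s⁻¹) * (s ^ k)⁻¹) by group]
    exact mul_mem h1 (hs k _ h)

theorem orderOf_eq_two_of_isConj {a b : G} (h : IsConj a b) (ha : orderOf a = 2) : orderOf b = 2 := by
  obtain ⟨g, rfl⟩ := isConj_iff.mp h
  rwa [Involutions.orderOf_conj]

theorem isConj_conj (g a : G) : IsConj a (g * a * g⁻¹) := isConj_iff.mpr ⟨g, rfl⟩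

theorem comm_conj {g a b : G} (h : a * b = b * a) : g * a * g⁻¹ * (g * b * g⁻¹) = g * b * g⁻¹ * (g * a * g⁻¹) := by
  rw [show g * a * g⁻¹ * (g * b * g⁻¹) = g * (a * b) * g⁻¹ by group, h]
  group

namespace Base

variable [Finite G] {F : Type*} [Field F] (B : Base G F)

/-- An element of the normaliser moving one outer involution to another and fixing the centre. -/
theorem exists_move (hfull : B.Full) {x x' z : G} (hx : x ∈ B.E₁) (hxZ : x ∉ B.Z) (hx' : x' ∈ B.E₁)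
    (hx'Z : x' ∉ B.Z) (hz : z ∈ B.Z) :
    ∃ n ∈ normalizer (B.E₁ : Set G), n * z = z * n ∧ n * x * n⁻¹ = x' := by
  obtain ⟨u, hu, rfl⟩ := id hx
  obtain ⟨u', hu', rfl⟩ := id hx'
  have ha : u.a ≠ 0 := fun h => hxZ (B.pt_mem_Z.mpr ⟨h, hu⟩)
  have ha' : u'.a ≠ 0 := fun h => hx'Z (B.pt_mem_Z.mpr ⟨h, hu'⟩)
  obtain ⟨k, hk, hA⟩ := hfull (u'.a / u.a) (u.a / u'.a) (div_ne_zero ha' ha) (div_ne_zero ha ha')
  obtain ⟨v, hv, hva, hvb⟩ := hA.2.2 u
  have hd : B.pt u' * (B.pt v)⁻¹ ∈ B.Z := by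
    rw [← map_inv, ← map_mul, B.pt_mem_Z]
    simp [hva, hvb, hu, hu', div_mul_cancel₀ _ ha]
  have hd' : k * B.pt u * k⁻¹ ∈ B.E₁ := hA.conj_E₁ B hx
  have hdZ : k * B.pt u * k⁻¹ ∉ B.Z := by
    rw [hv, B.pt_mem_Z]
    exact fun h => ha' (by have := h.1; rw [hva, div_mul_cancel₀ _ ha] at this; exact this)
  obtain ⟨s, hs, hsx⟩ := B.exists_shift hd' hdZ hd
  refine ⟨s * k, mul_mem (B.S_le_normalizer₁ (B.E₂_le hs)) (B.normalizer_S_le₁ hk), ?_, ?_⟩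
  · obtain ⟨c, rfl⟩ := B.pt_c hz
    refine mul_inv_eq_iff_eq_mul.mp ?_
    calc s * k * B.pt ⟨0, 0, c⟩ * (s * k)⁻¹ = s * (k * B.pt ⟨0, 0, c⟩ * k⁻¹) * s⁻¹ := by group
      _ = B.pt ⟨0, 0, c⟩ := by
        rw [hA.conj_Z B hk, show u'.a / u.a * (u.a / u'.a) = 1 by field_simp, one_mul,
          (B.S_le_stab₁ (B.E₂_le hs)).2.1 _ hz]
  · calc s * k * B.pt u * (s * k)⁻¹ = s * (k * B.pt u * k⁻¹) * s⁻¹ := by group
      _ = B.pt u' := by
        rw [hsx, hv, B.comm_E₁ (hv ▸ hd') (B.Z_le₁ hd), inv_mul_cancel_right]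

/-- Conjugates of an outer involution in the Sylow subgroup. -/
theorem type_X (h1 : ¬ B.Fused₁) {x s : G} (hx : x ∈ B.E₁) (hxZ : x ∉ B.Z) (hxs : IsConj x s)
    (hs : s ∈ (B.S : Subgroup G)) : s ∈ B.E₁ ∧ s ∉ B.Z := by
  have hxo : orderOf x = 2 := orderOf_two_of_sq (B.sq_E₁ hx) fun e => hxZ (e ▸ one_mem _)
  have ho := orderOf_eq_two_of_isConj hxs hxo
  have hsZ : s ∉ B.Z := fun h => B.not_conj_zx h1 h (ne_one_of_orderOf ho) hx hxZ hxs.symm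
  rcases B.mem_E_of_sq hs (Involutions.mul_self_eq_one_of_orderOf ho) with h | h
  · exact ⟨h, hsZ⟩
  · obtain ⟨g, hg⟩ := isConj_iff.mp hxs
    exact absurd hg (B.not_conj_xy h1 hx hxZ h hsZ g)

/-- An involution centralising a central one lies in the Sylow subgroup modulo the core. -/
theorem inv_cent_z {z t : G} (hz : z ∈ B.Z) (hz1 : z ≠ 1) (ht : orderOf t = 2) (htz : t * z = z * t) :
    ∃ o ∈ oddC z, ∃ s ∈ (B.S : Subgroup G), t = o * s * o⁻¹ ∧ t * s⁻¹ ∈ oddC z := by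
  set C := centralizer ({z} : Set G)
  have hSC : (B.S : Subgroup G) ≤ C := fun s hs => Subgroup.mem_centralizer_singleton_iff.mpr (B.Z_comm hz hs).symm
  set t' : C := ⟨t, Subgroup.mem_centralizer_singleton_iff.mpr htz⟩
  have ht' : orderOf t' = 2 := by rw [Subgroup.orderOf_mk]; exact ht
  obtain ⟨k, hk⟩ := (B.restrict C hSC).exists_cj_le
    (IsPGroup.of_card (p := 2) (n := 1) (by rw [Nat.card_zpowers, ht', pow_one]) : IsPGroup 2 (zpowers t'))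
  have hk' : k⁻¹ * t' * k ∈ ((B.restrict C hSC).S : Subgroup C) := mem_cj.mp (hk (mem_zpowers t'))
  have hs₀ : (k : G)⁻¹ * t * k ∈ (B.S : Subgroup G) := hk'
  obtain ⟨o, ho, n, hn, -, e⟩ := (B.cent_Z hz hz1).1 k k.2
  set s := n * ((k : G)⁻¹ * t * k) * n⁻¹ with hs
  have hsS : s ∈ (B.S : Subgroup G) := (Subgroup.mem_normalizer_iff.mp hn _).mp hs₀
  have et : t = o * s * o⁻¹ := by
    calc t = (k : G) * ((k : G)⁻¹ * t * k) * (k : G)⁻¹ := by group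
      _ = _ := by rw [e, hs, e]; group
  refine ⟨o, ho, s, hsS, et, ?_⟩
  rw [et, show o * s * o⁻¹ * s⁻¹ = o * (s * o⁻¹ * s⁻¹) by group]
  exact mul_mem ho (oddC_normal (hSC hsS) (inv_mem ho))

theorem eq_of_cong {z s r : G} (hs : s ∈ (B.S : Subgroup G)) (hr : r ∈ (B.S : Subgroup G))
    (h : s * r⁻¹ ∈ oddC z) : s = r :=
  mul_inv_eq_one.mp (B.eq_one_of_mem_oddC (mul_mem hs (inv_mem hr)) h)

theorem pow_cong_S {z a s : G} (hz : z ∈ B.Z) (hs : s ∈ (B.S : Subgroup G)) (h : a * s⁻¹ ∈ oddC z) (k : ℕ) :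
    a ^ k * (s ^ k)⁻¹ ∈ oddC z :=
  pow_cong (fun i _ hr => oddC_normal
    (Subgroup.mem_centralizer_singleton_iff.mpr (B.Z_comm hz (pow_mem hs i)).symm) hr) h k

theorem mul_cong {z a b s r : G} (hz : z ∈ B.Z) (hs : s ∈ (B.S : Subgroup G)) (h : a * s⁻¹ ∈ oddC z)
    (h' : b * r⁻¹ ∈ oddC z) : a * b * (s * r)⁻¹ ∈ oddC z := by
  rw [show a * b * (s * r)⁻¹ = (a * s⁻¹) * (s * (b * r⁻¹) * s⁻¹) by group]
  exact mul_mem h (oddC_normal (Subgroup.mem_centralizer_singleton_iff.mpr (B.Z_comm hz hs).symm) h')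

/-- The involution between a central and an outer one is outer. -/
theorem mid_zx (h1 : ¬ B.Fused₁) (h2 : ¬ B.swap.Fused₁) (hfull : B.Full) {x z v : G} (hx : x ∈ B.E₁)
    (hxZ : x ∉ B.Z) (hz : z ∈ B.Z) (hz1 : z ≠ 1) (hv : IsConj x v) :
    IsConj x (mid z v) ∧ mid z v * z = z * mid z v ∧ mid z v * v = v * mid z v := by
  have hzo : orderOf z = 2 := orderOf_two_of_sq (B.sq_E₁ (B.Z_le₁ hz)) hz1
  have hxo : orderOf x = 2 := orderOf_two_of_sq (B.sq_E₁ hx) fun e => hxZ (e ▸ one_mem _)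
  have hvo := orderOf_eq_two_of_isConj hv hxo
  obtain ⟨hwo, hwz, hwv⟩ := mid_spec hzo hvo (even_of_not_isConj hzo hvo fun h =>
    B.not_conj_zx h1 hz hz1 hx hxZ (h.trans hv.symm))
  refine ⟨?_, hwz, hwv⟩
  obtain ⟨g, rfl⟩ := isConj_iff.mp hv
  obtain ⟨c, hc, e, he, hwe⟩ := B.inv_cent_x h1 hx hxZ (t := g⁻¹ * mid z (g * x * g⁻¹) * g⁻¹⁻¹)
    (by rw [Involutions.orderOf_conj]; exact hwo) (by
      have := comm_conj (g := g⁻¹) hwv
      rwa [show g⁻¹ * (g * x * g⁻¹) * g⁻¹⁻¹ = x by group] at this)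
  set h := g * c with hh
  have hw : mid z (g * x * g⁻¹) = h * e * h⁻¹ := by
    calc mid z (g * x * g⁻¹) = g * (g⁻¹ * mid z (g * x * g⁻¹) * g⁻¹⁻¹) * g⁻¹ := by group
      _ = _ := by rw [hwe, hh]; group
  by_cases heZ : e ∈ B.Z
  swap
  · obtain ⟨n, -, -, hn⟩ := B.exists_move hfull hx hxZ he heZ hz
    rw [hw]
    exact (isConj_iff.mpr ⟨n, hn⟩ : IsConj x e).trans (isConj_conj h e)
  exfalso
  have heo : orderOf e = 2 := by
    rw [← Involutions.orderOf_conj h, ← hw]; exact hwo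
  have he1 := ne_one_of_orderOf heo
  have hm : mid (h⁻¹ * z * h⁻¹⁻¹) (h⁻¹ * (g * x * g⁻¹) * h⁻¹⁻¹) = e := by
    rw [mid_conj, hw]; group
  have hwze := comm_conj (g := h⁻¹) hwz.symm
  have hwve := comm_conj (g := h⁻¹) hwv.symm
  rw [hw, show h⁻¹ * (h * e * h⁻¹) * h⁻¹⁻¹ = e by group] at hwze hwve
  obtain ⟨o₁, -, s₁, hs₁, e₁, q₁⟩ := B.inv_cent_z heZ he1 (by rw [Involutions.orderOf_conj]; exact hzo) hwze
  obtain ⟨o₂, -, s₂, hs₂, e₂, q₂⟩ := B.inv_cent_z heZ he1 (by rw [Involutions.orderOf_conj]; exact hvo) hwve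
  have hs₁Z : s₁ ∈ B.Z := B.type_Z h1 h2 hz
    ((isConj_conj h⁻¹ z).trans (e₁ ▸ (isConj_conj o₁ s₁).symm)) hs₁
  obtain ⟨hs₂E, hs₂Z⟩ := B.type_X h1 hx hxZ
    (((isConj_conj g x).trans (isConj_conj h⁻¹ _)).trans (e₂ ▸ (isConj_conj o₂ s₂).symm)) hs₂
  have hq := B.pow_cong_S heZ (mul_mem hs₁ hs₂) (B.mul_cong heZ hs₁ q₁ q₂)
    (orderOf (h⁻¹ * z * h⁻¹⁻¹ * (h⁻¹ * (g * x * g⁻¹) * h⁻¹⁻¹)) / 2)
  unfold mid at hm
  rw [hm] at hq
  have heq := B.eq_of_cong (B.E₁_le he) (pow_mem (mul_mem hs₁ hs₂) _) hq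
  have hsq : (s₁ * s₂) ^ 2 = 1 := by rw [pow_two]; exact B.sq_E₁ (mul_mem (B.Z_le₁ hs₁Z) hs₂E)
  rw [← Nat.div_add_mod (orderOf (h⁻¹ * z * h⁻¹⁻¹ * (h⁻¹ * (g * x * g⁻¹) * h⁻¹⁻¹)) / 2) 2, pow_add, pow_mul, hsq,
    one_pow, one_mul] at heq
  rcases Nat.mod_two_eq_zero_or_one (orderOf (h⁻¹ * z * h⁻¹⁻¹ * (h⁻¹ * (g * x * g⁻¹) * h⁻¹⁻¹)) / 2) with hp | hp <;>
    rw [hp] at heq
  · exact he1 (heq.trans (pow_zero _))
  · rw [pow_one] at heq
    refine hs₂Z ?_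
    rw [show s₂ = s₁⁻¹ * e by rw [heq]; group]
    exact mul_mem (inv_mem hs₁Z) heZ

/-- The involution between outer ones of different pieces is central. -/
theorem mid_yx (h1 : ¬ B.Fused₁) (h2 : ¬ B.swap.Fused₁) (hfull : B.Full) {x y z v : G} (hx : x ∈ B.E₁)
    (hxZ : x ∉ B.Z) (hy : y ∈ B.E₂) (hyZ : y ∉ B.Z) (hz : z ∈ B.Z) (hz1 : z ≠ 1) (hv : IsConj x v) :
    IsConj z (mid y v) ∧ mid y v * y = y * mid y v := by
  have hyo : orderOf y = 2 := orderOf_two_of_sq (B.sq_E₂ hy) fun e => hyZ (e ▸ one_mem _)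
  have hxo : orderOf x = 2 := orderOf_two_of_sq (B.sq_E₁ hx) fun e => hxZ (e ▸ one_mem _)
  have hvo := orderOf_eq_two_of_isConj hv hxo
  have hne : ∀ {a : G}, IsConj x a → a ∈ B.E₂ → a ∉ B.Z → False := fun {a} h ha haZ => by
    obtain ⟨g, hg⟩ := isConj_iff.mp h
    exact B.not_conj_xy h1 hx hxZ ha haZ g hg
  obtain ⟨hwo, hwy, hwv⟩ := mid_spec hyo hvo (even_of_not_isConj hyo hvo fun h =>
    hne (hv.trans h.symm) hy hyZ)
  refine ⟨?_, hwy⟩
  obtain ⟨c', -, e', he', hwe'⟩ := B.swap.inv_cent_x h2 (B.swap_E₁.symm ▸ hy) (B.swap_Z.symm ▸ hyZ) hwo hwy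
  rw [swap_E₁] at he'
  have he'o : orderOf e' = 2 := by rw [← Involutions.orderOf_conj c', ← hwe']; exact hwo
  have hwe : IsConj e' (mid y v) := hwe' ▸ isConj_conj c' e'
  by_cases he'Z : e' ∈ B.Z
  · exact (B.isConj_Z hfull hz hz1 he'Z (ne_one_of_orderOf he'o)).trans hwe
  exfalso
  obtain ⟨g, rfl⟩ := isConj_iff.mp hv
  obtain ⟨c, hc, e, he, hwe₁⟩ := B.inv_cent_x h1 hx hxZ (t := g⁻¹ * mid y (g * x * g⁻¹) * g⁻¹⁻¹)
    (by rw [Involutions.orderOf_conj]; exact hwo) (by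
      have := comm_conj (g := g⁻¹) hwv
      rwa [show g⁻¹ * (g * x * g⁻¹) * g⁻¹⁻¹ = x by group] at this)
  have hwe₂ : IsConj e (mid y (g * x * g⁻¹)) :=
    (hwe₁ ▸ isConj_conj c e : IsConj e (g⁻¹ * mid y (g * x * g⁻¹) * g⁻¹⁻¹)).trans (isConj_conj g⁻¹ _).symm
  by_cases heZ : e ∈ B.Z
  · exact B.swap.not_conj_zx h2 (B.swap_Z.symm ▸ heZ) (ne_one_of_orderOf (orderOf_eq_two_of_isConj hwe₂.symm hwo))
      (B.swap_E₁.symm ▸ he') (B.swap_Z.symm ▸ he'Z) (hwe₂.trans hwe.symm)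
  · obtain ⟨n, -, -, hn⟩ := B.exists_move hfull hx hxZ he heZ hz
    exact hne (((isConj_iff.mpr ⟨n, hn⟩ : IsConj x e).trans hwe₂).trans hwe.symm) he' he'Z

/-- The class counted through the involutions between it and a central one. -/
theorem count_zx (h1 : ¬ B.Fused₁) (h2 : ¬ B.swap.Fused₁) (hfull : B.Full) {x z : G} (hx : x ∈ B.E₁)
    (hxZ : x ∉ B.Z) (hz : z ∈ B.Z) (hz1 : z ≠ 1) :
    Nat.card {v : G // IsConj x v} = Nat.card {w : G // IsConj x w ∧ w * z = z * w} * nJ z x := by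
  have hzo : orderOf z = 2 := orderOf_two_of_sq (B.sq_E₁ (B.Z_le₁ hz)) hz1
  have hxo : orderOf x = 2 := orderOf_two_of_sq (B.sq_E₁ hx) fun e => hxZ (e ▸ one_mem _)
  refine card_eq_mul_of_fibres (fun v => ⟨mid z v.1, (B.mid_zx h1 h2 hfull hx hxZ hz hz1 v.2).1,
    (B.mid_zx h1 h2 hfull hx hxZ hz hz1 v.2).2.1⟩) fun w => ?_
  -- an element of the centraliser moving `x` to `w`
  obtain ⟨o, ho, s, hs, hw, -⟩ := B.inv_cent_z hz hz1 (orderOf_eq_two_of_isConj w.2.1 hxo) w.2.2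
  obtain ⟨hsE, hsZ⟩ := B.type_X h1 hx hxZ (w.2.1.trans (hw ▸ (isConj_conj o s).symm)) hs
  obtain ⟨n₀, -, hn₀z, hn₀x⟩ := B.exists_move hfull hx hxZ hsE hsZ hz
  set n := o * n₀ with hn
  have hnz : n * z * n⁻¹ = z := by
    rw [hn, show o * n₀ * z * (o * n₀)⁻¹ = o * (n₀ * z * n₀⁻¹) * o⁻¹ by group, hn₀z, mul_inv_cancel_right,
      oddC_comm ho, mul_inv_cancel_right]
  have hnx : n * x * n⁻¹ = w.1 := by
    rw [hn, show o * n₀ * x * (o * n₀)⁻¹ = o * (n₀ * x * n₀⁻¹) * o⁻¹ by group, hn₀x, hw]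
  have hzx : z * x = x * z := B.comm_E₁ (B.Z_le₁ hz) hx
  have fwd : ∀ t : G, IsConj z t → t * x = x * t → Odd (orderOf (z * t)) →
      IsConj x (x * t) ∧ mid z (x * t) = x := by
    intro t hzt htx hodd
    constructor
    · obtain ⟨c, hc, e, he, rfl⟩ := B.inv_cent_x h1 hx hxZ (orderOf_eq_two_of_isConj hzt hzo) htx
      have heZ := B.type_Z h1 h2 hz (hzt.trans (isConj_conj c e).symm) (B.E₁_le he)
      obtain ⟨m, -, -, hm⟩ := B.exists_move hfull hx hxZ (mul_mem hx he)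
        (fun h => hxZ (by simpa using mul_mem h (inv_mem heZ))) hz
      rw [show x * (c * e * c⁻¹) = c * (x * e) * c⁻¹ by
        calc x * (c * e * c⁻¹) = (x * c) * e * c⁻¹ := by group
          _ = (c * x) * e * c⁻¹ := by rw [hc]
          _ = _ := by group]
      exact (isConj_iff.mpr ⟨m, hm⟩ : IsConj x (x * e)).trans (isConj_conj c _)
    · have hc : Commute x (z * t) :=
        Commute.mul_right hzx.symm htx.symm
      have e : z * (x * t) = x * (z * t) := by rw [← mul_assoc, hzx, mul_assoc]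
      rw [mid, e, hc.orderOf_mul_eq_mul_orderOf_of_coprime (by rw [hxo]; exact Nat.coprime_two_left.mpr hodd),
        hxo, Nat.mul_div_cancel_left _ two_pos, hc.mul_pow, pow_orderOf_eq_one, mul_one]
      obtain ⟨i, hi⟩ := hodd
      rw [hi, pow_succ, pow_mul, pow_two, B.sq_E₁ hx, one_pow, one_mul]
  symm
  refine Nat.card_eq_of_bijective (fun t : {t : G // IsConj z t ∧ t * x = x * t ∧ Odd (orderOf (z * t))} =>
    ⟨⟨n * (x * t.1) * n⁻¹, (fwd _ t.2.1 t.2.2.1 t.2.2.2).1.trans (isConj_conj n _)⟩, Subtype.ext ?_⟩)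
    ⟨fun a b e => Subtype.ext ?_, fun v => ?_⟩
  · show mid z (n * (x * t.1) * n⁻¹) = w.1
    have h := mid_conj n z (x * t.1)
    rw [hnz, (fwd _ t.2.1 t.2.2.1 t.2.2.2).2, hnx] at h
    exact h
  · have e' : n * (x * a.1) * n⁻¹ = n * (x * b.1) * n⁻¹ := congrArg (fun v => v.1.1) e
    exact mul_left_cancel (mul_left_cancel (mul_right_cancel e'))
  set u := n⁻¹ * v.1.1 * n⁻¹⁻¹ with hu
  have hxu : IsConj x u := v.1.2.trans (isConj_conj n⁻¹ _)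
  have huo := orderOf_eq_two_of_isConj hxu hxo
  have hmid : mid z u = x := by
    have h := mid_conj n⁻¹ z v.1.1
    rw [show n⁻¹ * z * n⁻¹⁻¹ = z by
      calc n⁻¹ * z * n⁻¹⁻¹ = n⁻¹ * (n * z * n⁻¹) * n := by rw [hnz]; group
        _ = z := by group, show mid z v.1.1 = w.1 from congrArg Subtype.val v.2, ← hu, ← hnx] at h
    rw [h]; group
  have hux : u * x = x * u := by
    have h := (B.mid_zx h1 h2 hfull hx hxZ hz hz1 hxu).2.2
    rw [hmid] at h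
    exact h.symm
  obtain ⟨c, hc, e, he, hue⟩ := B.inv_cent_x h1 hx hxZ huo hux
  obtain ⟨-, heZ⟩ := B.type_X h1 hx hxZ (hxu.trans (hue ▸ (isConj_conj c e).symm)) (B.E₁_le he)
  obtain ⟨d, hd, e₀, he₀, rfl⟩ := B.Dx_sup h1 hx hxZ hc
  have hud : u = d * e * d⁻¹ := by
    rw [hue]
    calc d * e₀ * e * (d * e₀)⁻¹ = d * (e₀ * e * e₀⁻¹) * d⁻¹ := by group
      _ = _ := by rw [B.comm_E₁ he₀ he, mul_inv_cancel_right]
  set k := orderOf (z * u) / 2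
  have hex : e * x = x * e := B.comm_E₁ he hx
  have hzD : z ∈ Dx x := (B.Dx_inter h1 hfull hx hxZ (B.Z_le₁ hz)).mpr hz
  have hcong : z * u * e⁻¹ ∈ Dx x := by
    rw [hud, show z * (d * e * d⁻¹) * e⁻¹ = z * (d * (e * d⁻¹ * e⁻¹)) by group]
    exact mul_mem hzD (mul_mem hd (Dx_conj hex (inv_mem hd)))
  have hk := pow_cong (fun i r hr => Dx_conj ((show Commute e x from hex).pow_left i).eq hr) hcong k
  rw [show (z * u) ^ k = x from hmid,
    B.Dx_inter h1 hfull hx hxZ (mul_mem hx (inv_mem (pow_mem he k)))] at hk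
  have hsq : e ^ 2 = 1 := by rw [pow_two]; exact B.sq_E₁ he
  rcases Nat.even_or_odd k with ⟨j, hj⟩ | hkodd
  · rw [hj, ← two_mul, pow_mul, hsq, one_pow, inv_one, mul_one] at hk
    exact absurd hk hxZ
  obtain ⟨j, hj⟩ := id hkodd
  rw [hj, pow_succ, pow_mul, hsq, one_pow, one_mul, inv_eq_of_mul_eq_one_right (B.sq_E₁ he)] at hk
  have hxe1 : x * e ≠ 1 := fun h => by
    have hu' : u = x := by
      rw [hud, show e = x by rw [← mul_one e, ← h, ← mul_assoc, hex, mul_assoc, B.sq_E₁ he, mul_one],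
        Dx_comm hd, mul_inv_cancel_right]
    have h' := mid_of_comm hzo hxo (fun h' => hxZ (h' ▸ hz)) hzx
    rw [← hu'] at h'
    rw [hmid, hu'] at h'
    exact hz1 (mul_eq_right.mp h'.symm)
  have ht : x * u = d * (x * e) * d⁻¹ := by
    rw [hud, ← mul_assoc, ← mul_assoc, ← Dx_comm hd]; group
  have htx : x * u * x = x * (x * u) := by rw [mul_assoc x u x, hux]
  refine ⟨⟨x * u, ht ▸ (B.isConj_Z hfull hz hz1 hk hxe1).trans (isConj_conj d _), htx, ?_⟩, ?_⟩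
  · refine Odd.of_dvd_nat hkodd (orderOf_dvd_of_pow_eq_one ?_)
    have hcx : Commute x (z * u) := Commute.mul_right hzx.symm hux.symm
    have e1 : z * (x * u) = x * (z * u) := by rw [← mul_assoc, hzx, mul_assoc]
    rw [e1, hcx.mul_pow, show (z * u) ^ k = x from hmid, ← pow_succ, show k + 1 = 2 * (j + 1) by omega,
      pow_mul, pow_two, B.sq_E₁ hx, one_pow]
  · refine Subtype.ext (Subtype.ext ?_)
    show n * (x * (x * u)) * n⁻¹ = v.1.1
    rw [← mul_assoc x x u, B.sq_E₁ hx, one_mul, hu]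
    group

/-- The conjugates of an outer involution centralising a central one with a given coordinate. -/
def Acl (x z : G) (α : F) : Set G :=
  {v | IsConj x v ∧ v * z = z * v ∧ ∃ γ : F, v * (B.pt ⟨α, 0, γ⟩)⁻¹ ∈ oddC z}

theorem exists_coord (h1 : ¬ B.Fused₁) {x z v : G} (hx : x ∈ B.E₁) (hxZ : x ∉ B.Z) (hz : z ∈ B.Z) (hz1 : z ≠ 1)
    (hv : IsConj x v) (hvz : v * z = z * v) : ∃ α : F, α ≠ 0 ∧ v ∈ B.Acl x z α := by
  have hxo : orderOf x = 2 := orderOf_two_of_sq (B.sq_E₁ hx) fun e => hxZ (e ▸ one_mem _)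
  obtain ⟨o, -, s, hs, hvs, hq⟩ := B.inv_cent_z hz hz1 (orderOf_eq_two_of_isConj hv hxo) hvz
  obtain ⟨hsE, hsZ⟩ := B.type_X h1 hx hxZ (hv.trans (hvs ▸ (isConj_conj o s).symm)) hs
  obtain ⟨u, hu, rfl⟩ := id hsE
  refine ⟨u.a, fun h => hsZ (B.pt_mem_Z.mpr ⟨h, hu⟩), hv, hvz, u.c, ?_⟩
  rwa [show (⟨u.a, 0, u.c⟩ : U F) = u from U.ext rfl hu.symm rfl]

theorem coord_unique {x z v : G} {α α' : F} (hz : z ∈ B.Z) (h : v ∈ B.Acl x z α) (h' : v ∈ B.Acl x z α') :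
    α = α' := by
  obtain ⟨-, -, γ, hγ⟩ := h
  obtain ⟨-, -, γ', hγ'⟩ := h'
  have := mul_mem (inv_mem hγ) hγ'
  rw [show (v * (B.pt ⟨α, 0, γ⟩)⁻¹)⁻¹ * (v * (B.pt ⟨α', 0, γ'⟩)⁻¹) =
    B.pt ⟨α, 0, γ⟩ * (B.pt ⟨α', 0, γ'⟩)⁻¹ by group] at this
  exact congrArg U.a (B.pt_injective (B.eq_of_cong (B.pt_mem _) (B.pt_mem _) this))

theorem card_Acl (hfull : B.Full) {x z : G} (hz : z ∈ B.Z) {α : F} (hα : α ≠ 0) :
    Nat.card (B.Acl x z α) = Nat.card (B.Acl x z 1) := by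
  obtain ⟨k, hk, hA⟩ := hfull α α⁻¹ hα (inv_ne_zero hα)
  have hkz : k * z * k⁻¹ = z := by
    obtain ⟨c, rfl⟩ := B.pt_c hz
    rw [hA.conj_Z B hk, mul_inv_cancel₀ hα, one_mul]
  have hA' := B.acts_inv hk hA
  have hkz' : k⁻¹ * z * k⁻¹⁻¹ = z := by
    calc k⁻¹ * z * k⁻¹⁻¹ = k⁻¹ * (k * z * k⁻¹) * k := by rw [hkz]; group
      _ = z := by group
  have key : ∀ {n : G} {l m : F}, n ∈ normalizer ((B.S : Subgroup G) : Set G) → B.Acts n l m → n * z * n⁻¹ = z →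
      ∀ {v : G} {β : F}, v ∈ B.Acl x z β → n * v * n⁻¹ ∈ B.Acl x z (l * β) := by
    intro n l m hn hA hnz v β hv
    obtain ⟨hv1, hvz, γ, hγ⟩ := hv
    obtain ⟨u, hu, hua, hub⟩ := hA.2.2 ⟨β, 0, γ⟩
    refine ⟨hv1.trans (isConj_conj n v), ?_, u.c, ?_⟩
    · have := comm_conj (g := n) hvz
      rwa [hnz] at this
    · have hnC : n ∈ centralizer ({z} : Set G) :=
        Subgroup.mem_centralizer_singleton_iff.mpr (mul_inv_eq_iff_eq_mul.mp hnz)
      have h := oddC_normal hnC hγ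
      rw [show (⟨l * β, 0, u.c⟩ : U F) = u from U.ext hua.symm (by rw [hub]; simp) rfl, ← hu]
      convert h using 1
      group
  refine (Nat.card_congr
    { toFun := fun v => ⟨k * v.1 * k⁻¹, by have := key hk hA hkz v.2; rwa [mul_one] at this⟩
      invFun := fun v => ⟨k⁻¹ * v.1 * k⁻¹⁻¹, by
        have := key (inv_mem hk) hA' hkz' v.2; rwa [inv_mul_cancel₀ hα] at this⟩
      left_inv := fun v => Subtype.ext (show k⁻¹ * (k * v.1 * k⁻¹) * k⁻¹⁻¹ = v.1 by group)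
      right_inv := fun v => Subtype.ext (show k * (k⁻¹ * v.1 * k⁻¹⁻¹) * k⁻¹ = v.1 by group) }).symm

theorem card_cent_eq (h1 : ¬ B.Fused₁) (hfull : B.Full) {x z : G} (hx : x ∈ B.E₁) (hxZ : x ∉ B.Z) (hz : z ∈ B.Z)
    (hz1 : z ≠ 1) :
    Nat.card {w : G // IsConj x w ∧ w * z = z * w} = 3 * Nat.card (B.Acl x z 1) := by
  classical
  haveI := finite_four B.hF
  haveI := Fintype.ofFinite F
  have h3 : Nat.card {a : F // a ≠ 0} = 3 := by
    rw [Nat.card_eq_fintype_card, Fintype.card_subtype_compl, Fintype.card_subtype_eq,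
      ← Nat.card_eq_fintype_card, B.hF]
  rw [← h3]
  choose f hf0 hf using fun w : {w : G // IsConj x w ∧ w * z = z * w} =>
    B.exists_coord h1 hx hxZ hz hz1 w.2.1 w.2.2
  refine card_eq_mul_of_fibres (fun w => (⟨f w, hf0 w⟩ : {a : F // a ≠ 0})) fun a => ?_
  rw [← B.card_Acl hfull hz a.2]
  exact Nat.card_congr
    { toFun := fun w => ⟨w.1.1, by rw [← congrArg Subtype.val w.2]; exact hf w.1⟩
      invFun := fun v => ⟨⟨v.1, v.2.1, v.2.2.1⟩, Subtype.ext (B.coord_unique hz (hf _) v.2)⟩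
      left_inv := fun _ => rfl
      right_inv := fun _ => rfl }

/-- The class counted through the involutions between it and an outer one of the other piece. -/
theorem count_yx (h1 : ¬ B.Fused₁) (h2 : ¬ B.swap.Fused₁) (hfull : B.Full) {x y z : G} (hx : x ∈ B.E₁)
    (hxZ : x ∉ B.Z) (hy : y ∈ B.E₂) (hyZ : y ∉ B.Z) (hz : z ∈ B.Z) (hz1 : z ≠ 1) :
    Nat.card {v : G // IsConj x v} = nI z y * Nat.card (B.Acl x z 1) := by
  have hyo : orderOf y = 2 := orderOf_two_of_sq (B.sq_E₂ hy) fun e => hyZ (e ▸ one_mem _)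
  have hxo : orderOf x = 2 := orderOf_two_of_sq (B.sq_E₁ hx) fun e => hxZ (e ▸ one_mem _)
  refine card_eq_mul_of_fibres (fun v => (⟨mid y v.1, B.mid_yx h1 h2 hfull hx hxZ hy hyZ hz hz1 v.2⟩ :
    {t : G // IsConj z t ∧ t * y = y * t})) fun w => ?_
  obtain ⟨g, hg⟩ := isConj_iff.mp w.2.1
  set y' := g⁻¹ * y * g⁻¹⁻¹ with hy'
  have hy'z : y' * z = z * y' := by
    have := comm_conj (g := g⁻¹) w.2.2.symm
    rwa [← hg, show g⁻¹ * (g * z * g⁻¹) * g⁻¹⁻¹ = z by group] at this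
  have hy'o : orderOf y' = 2 := by rw [hy', Involutions.orderOf_conj]; exact hyo
  obtain ⟨o, -, s, hs, hys, hq⟩ := B.inv_cent_z hz hz1 hy'o hy'z
  obtain ⟨hsE, hsZ⟩ := B.swap.type_X h2 (B.swap_E₁.symm ▸ hy) (B.swap_Z.symm ▸ hyZ)
    ((isConj_conj g⁻¹ y).trans (by rw [← hy', hys]; exact (isConj_conj o s).symm)) hs
  rw [swap_E₁] at hsE
  rw [swap_Z] at hsZ
  obtain ⟨p, hp, rfl⟩ := id hsE
  obtain ⟨c, rfl⟩ := B.pt_c hz
  have hc : c ≠ 0 := B.c_ne_zero hz1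
  have hpb : p.b ≠ 0 := fun h => hsZ (B.pt_mem_Z.mpr ⟨hp, h⟩)
  have hzo : orderOf (B.pt ⟨0, 0, c⟩) = 2 := orderOf_two_of_sq (B.sq_E₁ (B.Z_le₁ hz)) hz1
  -- the product squares into the centre
  have hsqr : ∀ α γ : F, (B.pt p * B.pt ⟨α, 0, γ⟩) ^ 2 = B.pt ⟨0, 0, α * p.b⟩ := by
    intro α γ
    rw [pow_two, ← map_mul, ← map_mul, U.sq_eq B.hF]
    simp [hp]
  have hfib : ∀ v : G, IsConj x v →
      (mid y' v = B.pt ⟨0, 0, c⟩ ↔ v ∈ B.Acl x (B.pt ⟨0, 0, c⟩) (c / p.b)) := by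
    intro v hv
    have hvo := orderOf_eq_two_of_isConj hv hxo
    have heven : Even (orderOf (y' * v)) := even_of_not_isConj hy'o hvo fun h => by
      obtain ⟨g', hg'⟩ := isConj_iff.mp ((hv.trans h.symm).trans (isConj_conj g⁻¹ y).symm)
      exact B.not_conj_xy h1 hx hxZ hy hyZ g' hg'
    obtain ⟨hwo, -, hwv⟩ := mid_spec hy'o hvo heven
    constructor
    · intro hm
      rw [hm] at hwv
      obtain ⟨α, hα0, hv1, hvz, γ, hγ⟩ := B.exists_coord h1 hx hxZ hz hz1 hv hwv.symm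
      refine ⟨hv1, hvz, γ, ?_⟩
      have hk := B.pow_cong_S hz (mul_mem hs (B.pt_mem _)) (B.mul_cong hz hs hq hγ) (orderOf (y' * v) / 2)
      rw [show (y' * v) ^ (orderOf (y' * v) / 2) = B.pt ⟨0, 0, c⟩ from hm] at hk
      have heq := B.eq_of_cong (B.pt_mem _) (pow_mem (mul_mem hs (B.pt_mem _)) _) hk
      have h2pow : ∀ j : ℕ, B.pt ⟨0, 0, α * p.b⟩ ^ j = 1 ∨ B.pt ⟨0, 0, α * p.b⟩ ^ j = B.pt ⟨0, 0, α * p.b⟩ := by
        intro j
        rw [← Nat.div_add_mod j 2, pow_add, pow_mul, pow_two, B.sq_E₁ (B.pt_mem_E₁.mpr rfl), one_pow, one_mul]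
        rcases Nat.mod_two_eq_zero_or_one j with h | h <;> rw [h] <;> simp
      rcases Nat.even_or_odd' (orderOf (y' * v) / 2) with ⟨j, hj | hj⟩
      · rw [hj, pow_mul, hsqr] at heq
        rcases h2pow j with h | h <;> rw [h] at heq
        · exact absurd heq hz1
        · have : c = α * p.b := congrArg U.c (B.pt_injective heq)
          rw [show c / p.b = α by rw [this, mul_div_cancel_right₀ _ hpb]]
          exact hγ
      · exfalso
        rw [hj, pow_add, pow_one, pow_mul, hsqr] at heq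
        refine hsZ (?_ : B.pt p ∈ B.Z)
        have h' : B.pt ⟨0, 0, α * p.b⟩ ^ j ∈ B.Z := pow_mem (B.pt_mem_Z.mpr ⟨rfl, rfl⟩) j
        have h'' := mul_mem (inv_mem h') hz
        rw [heq, inv_mul_cancel_left, ← map_mul, B.pt_mem_Z] at h''
        exact absurd (by simpa using h''.2) hpb
    · rintro ⟨-, hvz, γ, hγ⟩
      have hcong := B.mul_cong hz hs hq hγ
      have hsqr' : (B.pt p * B.pt ⟨c / p.b, 0, γ⟩) ^ 2 = B.pt ⟨0, 0, c⟩ := by
        rw [hsqr, div_mul_cancel₀ _ hpb]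
      set r := B.pt p * B.pt ⟨c / p.b, 0, γ⟩ with hr
      have hrS : r ∈ (B.S : Subgroup G) := mul_mem hs (B.pt_mem _)
      -- four divides the order
      have h4 : orderOf r = 4 := by
        refine orderOf_eq_prime_pow (p := 2) (n := 1) ?_ ?_
        · rw [pow_one, hsqr']; exact hz1
        · rw [show 2 ^ (1 + 1) = 2 * 2 from rfl, pow_mul, hsqr', pow_two]
          exact B.sq_E₁ (B.Z_le₁ hz)
      have hn := B.pow_cong_S hz hrS hcong (orderOf (y' * v))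
      rw [pow_orderOf_eq_one, one_mul] at hn
      have hr1 : r ^ orderOf (y' * v) = 1 :=
        inv_eq_one.mp (B.eq_one_of_mem_oddC (inv_mem (pow_mem hrS _)) hn)
      have hdvd : 4 ∣ orderOf (y' * v) := h4 ▸ orderOf_dvd_of_pow_eq_one hr1
      obtain ⟨j, hj⟩ := hdvd
      have hk := B.pow_cong_S hz hrS hcong (orderOf (y' * v) / 2)
      rw [show orderOf (y' * v) / 2 = 2 * j by omega, pow_mul r, hsqr',
        show (y' * v) ^ (2 * j) = mid y' v by rw [mid, show orderOf (y' * v) / 2 = 2 * j by omega]] at hk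
      rcases Nat.even_or_odd' j with ⟨i, hi | hi⟩
      · exfalso
        rw [hi, pow_mul, pow_two (B.pt ⟨0, 0, c⟩), B.sq_E₁ (B.Z_le₁ hz), one_pow, inv_one, mul_one] at hk
        have := odd_order_oddC hk
        rw [hwo] at this
        norm_num at this
      · rw [hi, pow_succ, pow_mul, pow_two (B.pt ⟨0, 0, c⟩), B.sq_E₁ (B.Z_le₁ hz), one_pow, one_mul] at hk
        refine mul_inv_eq_one.mp (by_contra fun hne => ?_)
        have hwz : mid y' v * B.pt ⟨0, 0, c⟩ = B.pt ⟨0, 0, c⟩ * mid y' v :=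
          Subgroup.mem_centralizer_singleton_iff.mp (mid_mem
            (Subgroup.mem_centralizer_singleton_iff.mpr hy'z) (Subgroup.mem_centralizer_singleton_iff.mpr hvz))
        have hzi : (B.pt ⟨0, 0, c⟩)⁻¹ = B.pt ⟨0, 0, c⟩ := Involutions.inv_eq_self_of_orderOf hzo
        have h2' : orderOf (mid y' v * (B.pt ⟨0, 0, c⟩)⁻¹) = 2 := orderOf_two_of_sq (by
          rw [hzi, mul_assoc, ← mul_assoc (B.pt ⟨0, 0, c⟩), ← hwz, mul_assoc (mid y' v) (B.pt ⟨0, 0, c⟩) (B.pt ⟨0, 0, c⟩),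
            B.sq_E₁ (B.Z_le₁ hz), mul_one, Involutions.mul_self_eq_one_of_orderOf hwo]) hne
        have := odd_order_oddC hk
        rw [h2'] at this
        norm_num at this
  rw [← B.card_Acl hfull hz (div_ne_zero hc hpb)]
  exact Nat.card_congr
    { toFun := fun v => ⟨g⁻¹ * v.1.1 * g⁻¹⁻¹, (hfib _ (v.1.2.trans (isConj_conj g⁻¹ _))).mp (by
        rw [hy', mid_conj, show mid y v.1.1 = w.1 from congrArg Subtype.val v.2, ← hg]; group)⟩
      invFun := fun v => ⟨⟨g * v.1 * g⁻¹, v.2.1.trans (isConj_conj g _)⟩, Subtype.ext (by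
        show mid y (g * v.1 * g⁻¹) = w.1
        have hy2 : y = g * y' * g⁻¹ := by rw [hy']; group
        conv_lhs => rw [hy2]
        rw [mid_conj, (hfib _ v.2.1).mpr v.2, hg])⟩
      left_inv := fun v => Subtype.ext (Subtype.ext (by simp [mul_assoc]))
      right_inv := fun v => Subtype.ext (by simp [mul_assoc]) }

theorem count_eq (h1 : ¬ B.Fused₁) (h2 : ¬ B.swap.Fused₁) (hfull : B.Full) {x y z : G} (hx : x ∈ B.E₁)
    (hxZ : x ∉ B.Z) (hy : y ∈ B.E₂) (hyZ : y ∉ B.Z) (hz : z ∈ B.Z) (hz1 : z ≠ 1) : nI z y = 3 * nJ z x := by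
  have h := B.count_yx h1 h2 hfull hx hxZ hy hyZ hz hz1
  rw [B.count_zx h1 h2 hfull hx hxZ hz hz1, B.card_cent_eq h1 hfull hx hxZ hz hz1] at h
  have hne : 0 < Nat.card (B.Acl x z 1) := by
    obtain ⟨n, -, hnz, hn⟩ := B.exists_move hfull hx hxZ (B.pt_mem_E₁.mpr rfl : B.pt ⟨1, 0, 0⟩ ∈ B.E₁)
      (fun h => one_ne_zero (B.pt_mem_Z.mp h).1) hz
    haveI : Nonempty (B.Acl x z 1) := ⟨⟨B.pt ⟨1, 0, 0⟩, isConj_iff.mpr ⟨n, hn⟩,
      (B.Z_comm hz (B.pt_mem _)).symm, 0, by rw [mul_inv_cancel]; exact one_mem _⟩⟩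
    exact Nat.card_pos
  refine Nat.eq_of_mul_eq_mul_right hne ?_
  rw [← h]; ring

/-- **With all multipliers the centraliser of an outer involution is good.** -/
theorem good₁_of_full (h1 : ¬ B.Fused₁) (h2 : ¬ B.swap.Fused₁) (hfull : B.Full) {x : G} (hx : x ∈ B.E₁)
    (hxZ : x ∉ B.Z) : Good B.E₁ x := by
  obtain ⟨z, hz, hz1⟩ := B.exists_Z_ne
  obtain ⟨y, hy, hyZ⟩ := B.exists_outer₂
  refine B.good₁_of_count h1 h2 hfull hx hxZ hz hz1 ?_
  have e1 := B.count_eq h1 h2 hfull hx hxZ hy hyZ hz hz1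
  have hy' : y ∈ B.swap.E₁ := B.swap_E₁.symm ▸ hy
  have hyZ' : y ∉ B.swap.Z := B.swap_Z.symm ▸ hyZ
  have hz' : z ∈ B.swap.Z := B.swap_Z.symm ▸ hz
  have h1' : ¬ B.swap.swap.Fused₁ := fun ⟨g, z, hz, h, h'⟩ => h1 ⟨g, z, by
    rwa [swap_Z, swap_Z] at hz, by rwa [swap_E₁, swap_E₂] at h, by rwa [swap_Z, swap_Z] at h'⟩
  have e2 := B.swap.count_eq h2 h1' hfull.swap hy' hyZ' (B.swap_E₂.symm ▸ hx) (B.swap_Z.symm ▸ hxZ) hz' hz1
  have e3 := (B.swap.count_bound h2 h1' hfull.swap hy' hyZ' hz' hz1).1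
  omega

end Base

end CfsgLib.L34Sylow
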