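import Cfsg.Agent.Lib.L34Sylow.Weak

/-!
Either the centre is not fused into the outer part of a piece, or the normaliser of the piece is transitive.

Blueprint: `blueprint/S3198.md`, section 1.
-/

set_option autoImplicit false
set_option linter.unusedSectionVars false
set_option linter.style.haveILetI false

namespace CfsgLib.L34Sylow

open Subgroup Cfsg

variable {G : Type*} [Group G]

/-- Equal actions on the set. -/
def SameOn (E : Subgroup G) (m n : G) : Prop := ∀ e ∈ E, m * e * m⁻¹ = n * e * n⁻¹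

namespace Base

variable {F : Type*} [Field F] (B : Base G F)

/-- The elements stabilising the series through the centre on the first piece. -/
def stab₁ : Subgroup G where
  carrier := {m | m ∈ normalizer (B.E₁ : Set G) ∧ (∀ z ∈ B.Z, m * z * m⁻¹ = z) ∧
    ∀ e ∈ B.E₁, m * e * m⁻¹ * e⁻¹ ∈ B.Z}
  one_mem' := ⟨one_mem _, fun z _ => by simp, fun e _ => by simp⟩
  mul_mem' := by
    rintro m n ⟨hm, hmz, hme⟩ ⟨hn, hnz, hne⟩
    refine ⟨mul_mem hm hn, fun z hz => ?_, fun e he => ?_⟩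
    · calc m * n * z * (m * n)⁻¹ = m * (n * z * n⁻¹) * m⁻¹ := by group
        _ = z := by rw [hnz z hz, hmz z hz]
    · have h1 := hme _ ((Subgroup.mem_normalizer_iff.mp hn e).mp he)
      have h2 := hne e he
      have := mul_mem h1 h2
      convert this using 1
      group
  inv_mem' := by
    rintro m ⟨hm, hmz, hme⟩
    refine ⟨inv_mem hm, fun z hz => ?_, fun e he => ?_⟩
    · conv_lhs => rw [← hmz z hz]
      group
    · have he' := (Subgroup.mem_normalizer_iff.mp (inv_mem hm) e).mp he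
      have h1 := hme _ he'
      have := inv_mem h1
      convert this using 1
      group

theorem S_le_stab₁ : (B.S : Subgroup G) ≤ B.stab₁ := by
  intro s hs
  refine ⟨?_, fun z hz => ?_, fun e he => B.comm_mem_Z hs (B.E₁_le he)⟩
  · refine Subgroup.mem_normalizer_iff.mpr fun x => ⟨B.conj_mem_E₁ hs, fun h => ?_⟩
    have := B.conj_mem_E₁ (inv_mem hs) h
    simpa [mul_assoc] using this
  · rw [← B.Z_comm hz hs, mul_inv_cancel_right]

/-- The commutators of an element of the Sylow subgroup outside the first piece fill the centre. -/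
theorem mem_E₁_of_comm_le {t z : G} (ht : t ∈ (B.S : Subgroup G)) (hz : z ∈ B.Z)
    (h : ∀ e ∈ B.E₁, t * e * t⁻¹ * e⁻¹ = 1 ∨ t * e * t⁻¹ * e⁻¹ = z) : t ∈ B.E₁ := by
  obtain ⟨u, rfl⟩ := B.exists_pt ht
  obtain ⟨v, hva, hvb, rfl⟩ := hz
  refine B.pt_mem_E₁.mpr (by_contra fun hb => ?_)
  have key : ∀ a : F, a * u.b = 0 ∨ a * u.b = v.c := fun a => by
    have h' := h (B.pt ⟨a, 0, 0⟩) (B.pt_mem_E₁.mpr rfl)
    rw [← map_inv, ← map_inv, ← map_mul, ← map_mul, ← map_mul, U.comm_eq B.hF, ← map_one B.pt] at h'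
    rcases h' with h' | h'
    · exact Or.inl (by simpa using congrArg U.c (B.pt_injective h'))
    · exact Or.inr (by simpa using congrArg U.c (B.pt_injective h'))
  obtain ⟨w, hw0, hw1⟩ := exists_omega B.hF
  have h1 := (key 1).resolve_left (by rw [one_mul]; exact hb)
  have h2 := (key w).resolve_left (mul_ne_zero hw0 hb)
  exact hw1 (mul_right_cancel₀ hb (h2.trans h1.symm))

/-- The fixed points in the first piece of an outer element are central. -/
theorem mem_Z_of_fixed {t e : G} (ht : t ∈ (B.S : Subgroup G)) (htE : t ∉ B.E₁) (he : e ∈ B.E₁)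
    (h : t * e * t⁻¹ = e) : e ∈ B.Z := by
  by_contra heZ
  exact htE (B.mem_E₁_of_comm he heZ ht (mul_inv_eq_iff_eq_mul.mp h).symm)

theorem sq_stab₁ {m : G} (hm : m ∈ B.stab₁) {e : G} (he : e ∈ B.E₁) : m * m * e * (m * m)⁻¹ = e := by
  obtain ⟨c, hc⟩ : ∃ c, c = m * e * m⁻¹ * e⁻¹ := ⟨_, rfl⟩
  have hcZ : c ∈ B.Z := hc ▸ hm.2.2 e he
  have h1 : m * e * m⁻¹ = c * e := by rw [hc]; group
  calc m * m * e * (m * m)⁻¹ = m * (m * e * m⁻¹) * m⁻¹ := by group
    _ = m * (c * e) * m⁻¹ := by rw [h1]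
    _ = (m * c * m⁻¹) * (m * e * m⁻¹) := by group
    _ = c * (c * e) := by rw [hm.2.1 c hcZ, h1]
    _ = e := by rw [← mul_assoc, B.sq_E₁ (B.Z_le₁ hcZ), one_mul]

variable [Finite G]

theorem centralizer₁_le_stab₁ : centralizer (B.E₁ : Set G) ≤ B.stab₁ := by
  intro m hm
  have hfix : ∀ e ∈ B.E₁, m * e * m⁻¹ = e := fun e he => by
    rw [← Subgroup.mem_centralizer_iff.mp hm e he, mul_inv_cancel_right]
  refine ⟨mem_normalizer_of_forall fun e he => (hfix e he).symm ▸ he, fun z hz => hfix z (B.Z_le₁ hz),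
    fun e he => ?_⟩
  rw [hfix e he, mul_inv_cancel]
  exact one_mem _

/-- An element of the stability group acts as an element of the Sylow subgroup. -/
theorem exists_sameOn {m : G} (hm : m ∈ B.stab₁) : ∃ s ∈ (B.S : Subgroup G), SameOn B.E₁ m s := by
  haveI := two_fact
  set K := (centralizer (B.E₁ : Set G)).subgroupOf B.stab₁ with hK
  haveI : K.Normal := by
    refine ⟨fun k hk n => ?_⟩
    rw [hK, Subgroup.mem_subgroupOf, Subgroup.mem_centralizer_iff] at hk ⊢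
    intro e he
    have he' : (n : G)⁻¹ * e * n ∈ B.E₁ := (Subgroup.mem_normalizer_iff''.mp n.2.1 e).mp he
    have := hk _ he'
    simp only [Subgroup.coe_mul, Subgroup.coe_inv]
    calc e * ((n : G) * k * (n : G)⁻¹) = n * (((n : G)⁻¹ * e * n) * k) * (n : G)⁻¹ := by group
      _ = n * (k * ((n : G)⁻¹ * e * n)) * (n : G)⁻¹ := by rw [this]
      _ = _ := by group
  have h2 : ∀ q : B.stab₁ ⧸ K, q ^ 2 = 1 := by
    intro q
    obtain ⟨q, rfl⟩ := QuotientGroup.mk'_surjective K q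
    rw [← map_pow, QuotientGroup.mk'_apply, QuotientGroup.eq_one_iff, hK, Subgroup.mem_subgroupOf,
      Subgroup.mem_centralizer_iff]
    intro e he
    rw [pow_two, Subgroup.coe_mul]
    exact (mul_inv_eq_iff_eq_mul.mp (B.sq_stab₁ q.2 he)).symm
  have hp : IsPGroup 2 (B.stab₁ ⧸ K) := fun q => ⟨1, by rw [pow_one]; exact h2 q⟩
  have hsup := CfsgLib.Transfer.sylow_sup_eq_top_of_isPGroup_quotient (B.S.subtype B.S_le_stab₁) (N := K) hp
  obtain ⟨s, hs, k, hk, e⟩ : ∃ s ∈ ((B.S.subtype B.S_le_stab₁ : Sylow 2 B.stab₁) : Subgroup B.stab₁), ∃ k ∈ K,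
      s * k = ⟨m, hm⟩ := Subgroup.mem_sup_of_normal_right.mp (hsup.symm ▸ Subgroup.mem_top _)
  refine ⟨s, hs, fun x hx => ?_⟩
  have he : (s : G) * k = m := congrArg Subtype.val e
  rw [← he]
  calc (s : G) * k * x * ((s : G) * k)⁻¹ = s * ((k : G) * x * (k : G)⁻¹) * (s : G)⁻¹ := by group
    _ = _ := by
      have := Subgroup.mem_centralizer_iff.mp (Subgroup.mem_subgroupOf.mp hk) x hx
      rw [← this, mul_inv_cancel_right]

/-- An element normalising the piece and the centre acts as an element of the normaliser of the Sylow subgroup. -/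
theorem exists_sameOn_normalizer {g : G} (hg : g ∈ normalizer (B.E₁ : Set G)) (hgZ : g ∈ normalizer (B.Z : Set G)) :
    ∃ n ∈ normalizer ((B.S : Subgroup G) : Set G), SameOn B.E₁ g n := by
  haveI := two_fact
  have hN : g ∈ normalizer (B.stab₁ : Set G) := by
    refine mem_normalizer_of_forall fun m hm => ⟨mul_mem (mul_mem hg hm.1) (inv_mem hg), fun z hz => ?_,
      fun e he => ?_⟩
    · have h := hm.2.1 _ ((Subgroup.mem_normalizer_iff''.mp hgZ z).mp hz)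
      calc g * m * g⁻¹ * z * (g * m * g⁻¹)⁻¹ = g * (m * (g⁻¹ * z * g) * m⁻¹) * g⁻¹ := by group
        _ = z := by rw [h]; group
    · have h := (Subgroup.mem_normalizer_iff.mp hgZ _).mp (hm.2.2 _ ((Subgroup.mem_normalizer_iff''.mp hg e).mp he))
      convert h using 1
      group
  have h2 : ((g • B.S : Sylow 2 G) : Subgroup G) ≤ B.stab₁ := by
    rintro _ ⟨s, hs, rfl⟩
    exact (Subgroup.mem_normalizer_iff.mp hN s).mp (B.S_le_stab₁ hs)
  obtain ⟨n, hn⟩ := MulAction.exists_smul_eq ↥B.stab₁ ((g • B.S).subtype h2) (B.S.subtype B.S_le_stab₁)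
  rw [Sylow.smul_subtype] at hn
  have hn' := Sylow.subtype_injective hn
  rw [Subgroup.smul_def, smul_smul] at hn'
  have h3 := Sylow.smul_eq_iff_mem_normalizer.mp hn'
  obtain ⟨s, hs, hsn⟩ := B.exists_sameOn n.2
  refine ⟨s⁻¹ * (n * g), mul_mem (inv_mem (Subgroup.le_normalizer hs)) h3, fun e he => ?_⟩
  have h4 := hsn _ ((Subgroup.mem_normalizer_iff.mp hg e).mp he)
  calc g * e * g⁻¹ = s⁻¹ * (s * (g * e * g⁻¹) * s⁻¹) * s := by group
    _ = s⁻¹ * (n * (g * e * g⁻¹) * (n : G)⁻¹) * s := by rw [h4]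
    _ = _ := by group

/-- An element whose action commutes with an outer element of the Sylow subgroup normalises the centre. -/
theorem mem_normalizer_Z_of_comm {g t : G} (hg : g ∈ normalizer (B.E₁ : Set G)) (ht : t ∈ (B.S : Subgroup G))
    (htE : t ∉ B.E₁) (h : SameOn B.E₁ (t * g) (g * t)) : g ∈ normalizer (B.Z : Set G) := by
  refine mem_normalizer_of_forall fun z hz => ?_
  refine B.mem_Z_of_fixed ht htE ((Subgroup.mem_normalizer_iff.mp hg z).mp (B.Z_le₁ hz)) ?_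
  calc t * (g * z * g⁻¹) * t⁻¹ = t * g * z * (t * g)⁻¹ := by group
    _ = g * (t * z * t⁻¹) * g⁻¹ := by rw [h z (B.Z_le₁ hz)]; group
    _ = _ := by rw [(B.S_le_stab₁ ht).2.1 z hz]

/-- Elements of exponent two modulo the centraliser, normalising the centre, act as elements of `S`. -/
theorem mem_stab₁_of_sq {r : G} (hr : r ∈ normalizer (B.E₁ : Set G)) (hrZ : r ∈ normalizer (B.Z : Set G))
    (h2 : SameOn B.E₁ (r * r) 1) : r ∈ B.stab₁ := by
  obtain ⟨n, hn, hrn⟩ := B.exists_sameOn_normalizer hr hrZ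
  obtain ⟨l, m, hA⟩ := B.exists_acts hn
  have hA2 := B.acts_mul hA hA
  have hfix : ∀ e ∈ B.E₁, n * n * e * (n * n)⁻¹ = e := by
    intro e he
    calc n * n * e * (n * n)⁻¹ = n * (n * e * n⁻¹) * n⁻¹ := by group
      _ = r * (r * e * r⁻¹) * r⁻¹ := by
        rw [← hrn e he, ← hrn _ ((Subgroup.mem_normalizer_iff.mp hr e).mp he)]
      _ = 1 * e * 1⁻¹ := by rw [← h2 e he]; group
      _ = e := by group
  have hl : l = 1 := by
    obtain ⟨v, hv, ha, -⟩ := hA2.2.2 ⟨1, 0, 0⟩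
    rw [hfix _ (B.pt_mem_E₁.mpr rfl)] at hv
    rw [← B.pt_injective hv] at ha
    simp only [mul_one] at ha
    have h' : (l - 1) * (l - 1) = 0 := by linear_combination -ha - (l - 1) * two_eq_zero B.hF
    exact sub_eq_zero.mp (mul_self_eq_zero.mp h')
  have hm : m = 1 := by
    have h := hA2.conj_Z B (mul_mem hn hn) 1
    rw [hfix _ (B.pt_mem_E₁.mpr rfl)] at h
    have h' : (1 : F) = l * l * (m * m) * 1 := congrArg U.c (B.pt_injective h)
    rw [hl] at h'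
    have h'' : (m - 1) * (m - 1) = 0 := by linear_combination -h' - (m - 1) * two_eq_zero B.hF
    exact sub_eq_zero.mp (mul_self_eq_zero.mp h'')
  subst hl hm
  refine ⟨hr, fun z hz => ?_, fun e he => ?_⟩
  · rw [hrn z (B.Z_le₁ hz)]
    obtain ⟨u, ha, hb, rfl⟩ := hz
    rw [show u = ⟨0, 0, u.c⟩ from U.ext ha hb rfl, hA.conj_Z B hn, one_mul, one_mul]
  · rw [hrn e he]
    obtain ⟨u, hu, rfl⟩ := he
    obtain ⟨v, hv, ha, hb⟩ := hA.2.2 u
    rw [hv, ← map_inv, ← map_mul, B.pt_mem_Z]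
    simp [ha, hb, one_mul, hu]

/-- The shifting involution. -/
theorem exists_shift' {x z : G} (hx : x ∈ B.E₁) (hxZ : x ∉ B.Z) (hz : z ∈ B.Z) (hz1 : z ≠ 1) :
    ∃ s ∈ (B.S : Subgroup G), s ∉ B.E₁ ∧ s * s = 1 ∧ s * x * s⁻¹ = x * z := by
  obtain ⟨s, hs, hsx⟩ := B.exists_shift hx hxZ hz
  refine ⟨s, B.E₂_le hs, fun h => hz1 ?_, B.sq_E₂ hs, hsx⟩
  rw [B.comm_E₁ h hx, mul_inv_cancel_right] at hsx
  simpa using hsx.symm

/-- **Conjugates of the centre under the normaliser of the piece meet trivially or coincide.** -/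
theorem Z_disjoint {g z : G} (hg : g ∈ normalizer (B.E₁ : Set G)) (hz1 : z ≠ 1) (hz : z ∈ B.Z)
    (hzg : z ∈ cj g B.Z) : g ∈ normalizer (B.Z : Set G) := by
  by_contra hgZ
  have hgZ_le : ∀ x ∈ cj g B.Z, x ∈ B.E₁ := by
    rintro _ ⟨x, hx, rfl⟩
    exact (Subgroup.mem_normalizer_iff.mp hg x).mp (B.Z_le₁ hx)
  obtain ⟨q, hq, hqZ⟩ : ∃ q ∈ cj g B.Z, q ∉ B.Z := by
    by_contra hc
    push Not at hc
    exact hgZ (mem_normalizer_of_forall fun x hx => hc _ (conj_mem_cj hx))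
  obtain ⟨p, hp, hpg⟩ : ∃ p ∈ B.Z, p ∉ cj g B.Z := by
    by_contra hc
    push Not at hc
    exact hqZ (Subgroup.eq_of_le_of_card_ge hc (card_cj g B.Z).le ▸ hq)
  obtain ⟨v, hv, hvE, hv2, hvq⟩ := B.exists_shift' (hgZ_le q hq) hqZ hz hz1
  have hp' : g⁻¹ * p * g ∈ B.E₁ := (Subgroup.mem_normalizer_iff''.mp hg p).mp (B.Z_le₁ hp)
  obtain ⟨s, hs, hsE, hs2, hsp⟩ := B.exists_shift' hp' (fun h => hpg (mem_cj.mpr h)) (mem_cj.mp hzg)
    (fun e => hz1 (by
      calc z = g * (g⁻¹ * z * g) * g⁻¹ := by group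
        _ = 1 := by rw [e, mul_one, mul_inv_cancel]))
  set w := g * s * g⁻¹ with hw
  have hw2 : w * w = 1 := by rw [hw, show g * s * g⁻¹ * (g * s * g⁻¹) = g * (s * s) * g⁻¹ by group, hs2]; group
  have hwN : w ∈ normalizer (B.E₁ : Set G) :=
    mul_mem (mul_mem hg (B.S_le_normalizer₁ hs)) (inv_mem hg)
  have hvN : v ∈ normalizer (B.E₁ : Set G) := B.S_le_normalizer₁ hv
  have hwp : w * p * w⁻¹ = p * z := by
    calc w * p * w⁻¹ = g * (s * (g⁻¹ * p * g) * s⁻¹) * g⁻¹ := by rw [hw]; group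
      _ = p * z := by rw [hsp]; group
  have hwfix : ∀ x ∈ cj g B.Z, w * x * w⁻¹ = x := fun x hx => by
    calc w * x * w⁻¹ = g * (s * (g⁻¹ * x * g) * s⁻¹) * g⁻¹ := by rw [hw]; group
      _ = x := by rw [(B.S_le_stab₁ hs).2.1 _ (mem_cj.mp hx)]; group
  have hwd : ∀ e ∈ B.E₁, w * e * w⁻¹ * e⁻¹ ∈ cj g B.Z := fun e he => mem_cj.mpr (by
    have h := (B.S_le_stab₁ hs).2.2 _ ((Subgroup.mem_normalizer_iff''.mp hg e).mp he)
    rw [hw]
    convert h using 1
    group)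
  have hvfix := (B.S_le_stab₁ hv).2.1
  set Q := zpowers z with hQ
  have hzQ : z ∈ Q := mem_zpowers z
  have hQZ : Q ≤ B.Z := zpowers_le.mpr hz
  have hQg : Q ≤ cj g B.Z := zpowers_le.mpr hzg
  have hz2 : z * z = 1 := B.sq_E₁ (B.Z_le₁ hz)
  have hQ2 : ∀ x ∈ Q, x = 1 ∨ x = z := by
    rintro x ⟨k, rfl⟩
    rcases Int.even_or_odd' k with ⟨i, rfl | rfl⟩
    · exact Or.inl (by simp only; rw [zpow_mul, zpow_two, hz2, one_zpow])
    · exact Or.inr (by simp only; rw [zpow_add, zpow_mul, zpow_two, hz2, one_zpow, one_mul, zpow_one])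
  have hwβ : ∀ β ∈ B.Z, w * β * w⁻¹ * β⁻¹ ∈ Q := by
    intro β hβ
    have hm : w * β * w⁻¹ * β⁻¹ ∈ cj g B.Z := hwd β (B.Z_le₁ hβ)
    by_cases hβg : β ∈ cj g B.Z
    · rw [hwfix β hβg, mul_inv_cancel]; exact one_mem _
    -- the centre is generated by `z` and `p`
    have hcases : β ∈ Q ∨ β * p ∈ Q := by
      by_contra hc
      push Not at hc
      have hcard := B.card_Z
      classical
      haveI := Fintype.ofFinite B.Z
      have hsub : ({⟨1, one_mem _⟩, ⟨z, hz⟩, ⟨p, hp⟩, ⟨z * p, mul_mem hz hp⟩, ⟨β, hβ⟩} : Finset B.Z).card ≤ 4 := by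
        rw [← hcard, Nat.card_eq_fintype_card]; exact Finset.card_le_univ _
      have hp1 : p ≠ 1 := fun e => hpg (e ▸ one_mem _)
      have hpz : p ≠ z := fun e => hpg (e ▸ hzg)
      have hzp : z * p ≠ 1 := fun e => hpz (by
        calc p = z * (z * p) := by rw [← mul_assoc, hz2, one_mul]
          _ = z := by rw [e, mul_one])
      have hb1 : β ≠ 1 := fun e => hc.1 (e ▸ one_mem _)
      have hbz : β ≠ z := fun e => hc.1 (e ▸ hzQ)
      have hbp : β ≠ p := fun e => hc.2 (by rw [e, B.sq_E₁ (B.Z_le₁ hp)]; exact one_mem _)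
      have hbzp : β ≠ z * p := fun e => hc.2 (by rw [e, mul_assoc, B.sq_E₁ (B.Z_le₁ hp), mul_one]; exact hzQ)
      rw [Finset.card_insert_of_notMem (by simp [Ne.symm hz1, Ne.symm hp1, Ne.symm hzp, Ne.symm hb1]),
        Finset.card_insert_of_notMem (by simp [Ne.symm hpz, Ne.symm hbz, show p ≠ 1 from hp1]),
        Finset.card_insert_of_notMem (by simp [hz1, Ne.symm hbp]),
        Finset.card_insert_of_notMem (by simp [Ne.symm hbzp]), Finset.card_singleton] at hsub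
      omega
    rcases hcases with h | h
    · exact absurd (hQg h) hβg
    · obtain ⟨c, hc, rfl⟩ : ∃ c ∈ Q, β = c * p := ⟨β * p, h, by rw [mul_assoc, B.sq_E₁ (B.Z_le₁ hp), mul_one]⟩
      have e : w * (c * p) * w⁻¹ * (c * p)⁻¹ = c * z * c⁻¹ := by
        calc w * (c * p) * w⁻¹ * (c * p)⁻¹ = (w * c * w⁻¹) * (w * p * w⁻¹) * p⁻¹ * c⁻¹ := by group
          _ = c * (p * z) * p⁻¹ * c⁻¹ := by rw [hwfix c (hQg hc), hwp]
          _ = c * (z * p) * p⁻¹ * c⁻¹ := by rw [B.comm_E₁ (B.Z_le₁ hp) (B.Z_le₁ hz)]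
          _ = _ := by group
      rw [e]
      exact mul_mem (mul_mem hc hzQ) (inv_mem hc)
  have hvα : ∀ α ∈ cj g B.Z, v * α * v⁻¹ * α⁻¹ ∈ Q := by
    intro α hα
    have hm : v * α * v⁻¹ * α⁻¹ ∈ B.Z := (B.S_le_stab₁ hv).2.2 α (hgZ_le α hα)
    by_cases hαZ : α ∈ B.Z
    · rw [hvfix α hαZ, mul_inv_cancel]; exact one_mem _
    have hcases : α ∈ Q ∨ α * q ∈ Q := by
      by_contra hc
      push Not at hc
      have hcard : Nat.card (cj g B.Z) = 4 := by rw [card_cj, B.card_Z]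
      classical
      haveI := Fintype.ofFinite (cj g B.Z)
      have hsub : ({⟨1, one_mem _⟩, ⟨z, hzg⟩, ⟨q, hq⟩, ⟨z * q, mul_mem hzg hq⟩, ⟨α, hα⟩} :
          Finset (cj g B.Z)).card ≤ 4 := by
        rw [← hcard, Nat.card_eq_fintype_card]; exact Finset.card_le_univ _
      have hq1 : q ≠ 1 := fun e => hqZ (e ▸ one_mem _)
      have hqz : q ≠ z := fun e => hqZ (e ▸ hz)
      have hzq : z * q ≠ 1 := fun e => hqz (by
        calc q = z * (z * q) := by rw [← mul_assoc, hz2, one_mul]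
          _ = z := by rw [e, mul_one])
      have hb1 : α ≠ 1 := fun e => hc.1 (e ▸ one_mem _)
      have hbz : α ≠ z := fun e => hc.1 (e ▸ hzQ)
      have hq2 := B.sq_E₁ (hgZ_le q hq)
      have hbq : α ≠ q := fun e => hc.2 (by rw [e, hq2]; exact one_mem _)
      have hbzq : α ≠ z * q := fun e => hc.2 (by rw [e, mul_assoc, hq2, mul_one]; exact hzQ)
      rw [Finset.card_insert_of_notMem (by simp [Ne.symm hz1, Ne.symm hq1, Ne.symm hzq, Ne.symm hb1]),
        Finset.card_insert_of_notMem (by simp [Ne.symm hqz, Ne.symm hbz, show q ≠ 1 from hq1]),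
        Finset.card_insert_of_notMem (by simp [hz1, Ne.symm hbq]),
        Finset.card_insert_of_notMem (by simp [Ne.symm hbzq]), Finset.card_singleton] at hsub
      omega
    rcases hcases with h | h
    · exact absurd (hQZ h) hαZ
    · obtain ⟨c, hc, rfl⟩ : ∃ c ∈ Q, α = c * q :=
        ⟨α * q, h, by rw [mul_assoc, B.sq_E₁ (hgZ_le q hq), mul_one]⟩
      have e : v * (c * q) * v⁻¹ * (c * q)⁻¹ = c * z * c⁻¹ := by
        calc v * (c * q) * v⁻¹ * (c * q)⁻¹ = (v * c * v⁻¹) * (v * q * v⁻¹) * q⁻¹ * c⁻¹ := by group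
          _ = c * (q * z) * q⁻¹ * c⁻¹ := by rw [hvfix c (hQZ hc), hvq]
          _ = c * (z * q) * q⁻¹ * c⁻¹ := by rw [B.comm_E₁ (hgZ_le q hq) (B.Z_le₁ hz)]
          _ = _ := by group
      rw [e]
      exact mul_mem (mul_mem hc hzQ) (inv_mem hc)
  have hcomm : ∀ e ∈ B.E₁, ∃ c ∈ Q, v * w * e * (v * w)⁻¹ = w * v * e * (w * v)⁻¹ * c := by
    intro e he
    obtain ⟨β, hβ⟩ : ∃ β, β = v * e * v⁻¹ * e⁻¹ := ⟨_, rfl⟩
    obtain ⟨α, hα⟩ : ∃ α, α = w * e * w⁻¹ * e⁻¹ := ⟨_, rfl⟩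
    have hβZ : β ∈ B.Z := hβ ▸ (B.S_le_stab₁ hv).2.2 e he
    have hαg : α ∈ cj g B.Z := hα ▸ hwd e he
    have e1 : v * e * v⁻¹ = β * e := by rw [hβ]; group
    have e2 : w * e * w⁻¹ = α * e := by rw [hα]; group
    obtain ⟨c1, hc1, ec1⟩ : ∃ c ∈ Q, v * α * v⁻¹ = c * α := ⟨_, hvα α hαg, by group⟩
    obtain ⟨c2, hc2, ec2⟩ : ∃ c ∈ Q, w * β * w⁻¹ = c * β := ⟨_, hwβ β hβZ, by group⟩
    refine ⟨c1 * c2, mul_mem hc1 hc2, ?_⟩
    have f1 : v * w * e * (v * w)⁻¹ = c1 * α * (β * e) := by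
      calc v * w * e * (v * w)⁻¹ = v * (w * e * w⁻¹) * v⁻¹ := by group
        _ = (v * α * v⁻¹) * (v * e * v⁻¹) := by rw [e2]; group
        _ = _ := by rw [ec1, e1]
    have f2 : w * v * e * (w * v)⁻¹ = c2 * β * (α * e) := by
      calc w * v * e * (w * v)⁻¹ = w * (v * e * v⁻¹) * w⁻¹ := by group
        _ = (w * β * w⁻¹) * (w * e * w⁻¹) := by rw [e1]; group
        _ = _ := by rw [ec2, e2]
    rw [f1, f2]
    haveI := B.ea_E₁.1
    have hE : c1 ∈ B.E₁ ∧ c2 ∈ B.E₁ ∧ α ∈ B.E₁ ∧ β ∈ B.E₁ :=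
      ⟨B.Z_le₁ (hQZ hc1), B.Z_le₁ (hQZ hc2), hgZ_le α hαg, B.Z_le₁ hβZ⟩
    have key : ∀ a b c d f : B.E₁, a * c * (d * f) = b * d * (c * f) * (a * b) := fun a b c d f => by
      calc a * c * (d * f) = (b * b) * (a * c * (d * f)) := by
            rw [show b * b = 1 from Subtype.ext (B.sq_E₁ b.2), one_mul]
        _ = _ := by ac_rfl
    exact congrArg Subtype.val (key ⟨c1, hE.1⟩ ⟨c2, hE.2.1⟩ ⟨α, hE.2.2.1⟩ ⟨β, hE.2.2.2⟩ ⟨e, he⟩)
  set r := v * w * (v * w) with hr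
  have hrN : r ∈ normalizer (B.E₁ : Set G) := mul_mem (mul_mem hvN hwN) (mul_mem hvN hwN)
  have hzfix : ∀ c ∈ Q, v * w * c * (v * w)⁻¹ = c := fun c hc => by
    calc v * w * c * (v * w)⁻¹ = v * (w * c * w⁻¹) * v⁻¹ := by group
      _ = c := by rw [hwfix c (hQg hc), hvfix c (hQZ hc)]
  have hrQ : ∀ e ∈ B.E₁, ∃ c ∈ Q, r * e * r⁻¹ = e * c := by
    intro e he
    obtain ⟨c, hc, hce⟩ := hcomm e he
    refine ⟨c, hc, ?_⟩
    calc r * e * r⁻¹ = v * w * (v * w * e * (v * w)⁻¹) * (v * w)⁻¹ := by rw [hr]; group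
      _ = (v * (w * w) * v * e * (v * (w * w) * v)⁻¹) * (v * w * c * (v * w)⁻¹) := by rw [hce]; group
      _ = _ := by rw [hw2, mul_one, hv2, hzfix c hc]; group
  have hrc : ∀ c ∈ Q, r * c * r⁻¹ = c := fun c hc => by
    calc r * c * r⁻¹ = v * w * (v * w * c * (v * w)⁻¹) * (v * w)⁻¹ := by rw [hr]; group
      _ = c := by rw [hzfix c hc, hzfix c hc]
  have hr2 : SameOn B.E₁ (r * r) 1 := by
    intro e he
    obtain ⟨c, hc, hce⟩ := hrQ e he
    calc r * r * e * (r * r)⁻¹ = r * (r * e * r⁻¹) * r⁻¹ := by group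
      _ = r * (e * c) * r⁻¹ := by rw [hce]
      _ = (r * e * r⁻¹) * (r * c * r⁻¹) := by group
      _ = e * (c * c) := by rw [hce, hrc c hc]; group
      _ = 1 * e * 1⁻¹ := by rw [B.sq_E₁ (B.Z_le₁ (hQZ hc))]; group
  have hrinv : v * r * v⁻¹ = r⁻¹ := by
    rw [hr, inv_eq_of_mul_eq_one_right hv2]
    calc v * (v * w * (v * w)) * v = (v * v) * w * v * w * v := by group
      _ = w⁻¹ * v⁻¹ * (w⁻¹ * v⁻¹) := by
        rw [hv2, inv_eq_of_mul_eq_one_right hv2, inv_eq_of_mul_eq_one_right hw2]; group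
      _ = _ := by group
  have hvr : SameOn B.E₁ (v * r) (r * v) := by
    intro e he
    have he' : v * e * v⁻¹ ∈ B.E₁ := (Subgroup.mem_normalizer_iff.mp hvN e).mp he
    have h := hr2 _ he'
    calc v * r * e * (v * r)⁻¹ = r⁻¹ * (1 * (v * e * v⁻¹) * 1⁻¹) * r := by
          rw [show v * r = r⁻¹ * v by rw [← hrinv]; group]; group
      _ = r⁻¹ * (r * r * (v * e * v⁻¹) * (r * r)⁻¹) * r := by rw [h]
      _ = _ := by group
  have hrZ := B.mem_normalizer_Z_of_comm hrN hv hvE hvr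
  obtain ⟨t, ht, hrt⟩ := B.exists_sameOn (B.mem_stab₁_of_sq hrN hrZ hr2)
  have htE : t ∈ B.E₁ := B.mem_E₁_of_comm_le ht hz fun e he => by
    rw [← hrt e he]
    obtain ⟨c, hc, hce⟩ := hrQ e he
    rw [hce, B.comm_E₁ he (B.Z_le₁ (hQZ hc)), mul_inv_cancel_right]
    exact hQ2 c hc
  have hr1 : SameOn B.E₁ r 1 := fun e he => by
    rw [hrt e he, B.comm_E₁ htE he]; group
  have hvw : SameOn B.E₁ (v * w) (w * v) := by
    intro e he
    have h := hr1 _ ((Subgroup.mem_normalizer_iff.mp (mul_mem hwN hvN) e).mp he)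
    have hrwv : r * (w * v) = v * w := by
      rw [hr, show v * w * (v * w) * (w * v) = v * w * (v * (w * w) * v) by group, hw2, mul_one, hv2, mul_one]
    calc v * w * e * (v * w)⁻¹ = r * (w * v) * e * (r * (w * v))⁻¹ := by rw [hrwv]
      _ = r * (w * v * e * (w * v)⁻¹) * r⁻¹ := by group
      _ = _ := by rw [h]; group
  have hw2' : SameOn B.E₁ (w * w) 1 := fun e _ => by rw [hw2]
  have hwZ := B.mem_normalizer_Z_of_comm hwN hv hvE hvw
  obtain ⟨t', ht', hwt⟩ := B.exists_sameOn (B.mem_stab₁_of_sq hwN hwZ hw2')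
  have ht'E : t' ∉ B.E₁ := fun h => hsE (by
    refine B.mem_E₁_of_comm_le hs B.Z.one_mem fun e he => Or.inl ?_
    have he' := (Subgroup.mem_normalizer_iff.mp hg e).mp he
    have := hwt _ he'
    rw [B.comm_E₁ h he', mul_inv_cancel_right, hw] at this
    calc s * e * s⁻¹ * e⁻¹ = g⁻¹ * (g * s * g⁻¹ * (g * e * g⁻¹) * (g * s * g⁻¹)⁻¹) * g * e⁻¹ := by group
      _ = _ := by rw [this]; group)
  refine hqZ (B.mem_Z_of_fixed ht' ht'E (hgZ_le q hq) ?_)
  rw [← hwt q (hgZ_le q hq), hwfix q hq]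

/-- The centre is fused into the outer part of the first piece. -/
def Fused₁ : Prop := ∃ g : G, ∃ z ∈ B.Z, g * z * g⁻¹ ∈ B.E₁ ∧ g * z * g⁻¹ ∉ B.Z

/-- Without fusion the normaliser of the piece normalises the centre. -/
theorem normalizer_le_of_not_fused (h : ¬ B.Fused₁) {g : G} (hg : g ∈ normalizer (B.E₁ : Set G)) :
    g ∈ normalizer (B.Z : Set G) :=
  mem_normalizer_of_forall fun z hz => by_contra fun hn =>
    h ⟨g, z, hz, (Subgroup.mem_normalizer_iff.mp hg z).mp (B.Z_le₁ hz), hn⟩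

/-- A conjugate of the centre disjoint from it. -/
theorem exists_disjoint (h : B.Fused₁) :
    ∃ g ∈ normalizer (B.E₁ : Set G), ∀ x ∈ B.Z, x ∈ cj g B.Z → x = 1 := by
  obtain ⟨g, z, hz, hzE, hzZ⟩ := h
  obtain ⟨n, hn, -, hnz⟩ := B.control₁ (C := ⊤) le_top (Subgroup.mem_top g) (B.Z_le₁ hz) hzE
  refine ⟨n, hn, fun x hx hxn => by_contra fun hx1 => hzZ ?_⟩
  rw [← hnz]
  exact (Subgroup.mem_normalizer_iff.mp (B.Z_disjoint hn hx1 hx hxn) z).mp hz

/-- **With fusion the normaliser of the piece is transitive on its involutions.** -/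
theorem transitive₁ (h : B.Fused₁) {z : G} (hz : z ∈ B.Z) (hz1 : z ≠ 1) {e : G} (he : e ∈ B.E₁) (he1 : e ≠ 1) :
    ∃ n ∈ normalizer (B.E₁ : Set G), n * z * n⁻¹ = e := by
  obtain ⟨g, hg, hdis⟩ := B.exists_disjoint h
  let R : G → G → Prop := fun a b => ∃ n ∈ normalizer (B.E₁ : Set G), n * a * n⁻¹ = b
  have Rs : ∀ {a b}, R a b → R b a := fun {a b} ⟨n, hn, e⟩ => ⟨n⁻¹, inv_mem hn, by rw [← e]; group⟩
  have Rt : ∀ {a b c}, R a b → R b c → R a c := fun {a b c} ⟨n, hn, e⟩ ⟨m, hm, e'⟩ =>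
    ⟨m * n, mul_mem hm hn, by rw [← e', ← e]; group⟩
  have hle : cj g B.Z ≤ B.E₁ := by
    rintro _ ⟨x, hx, rfl⟩
    exact (Subgroup.mem_normalizer_iff.mp hg x).mp (B.Z_le₁ hx)
  have cross : ∀ p ∈ B.Z, p ≠ 1 → ∀ q ∈ cj g B.Z, q ≠ 1 → R p (p * q) ∧ R q (p * q) := by
    intro p hp hp1 q hq hq1
    constructor
    · have hp' : g⁻¹ * p * g ∈ B.E₁ := (Subgroup.mem_normalizer_iff''.mp hg p).mp (B.Z_le₁ hp)
      obtain ⟨s, hs, hsx⟩ := B.exists_shift hp' (fun hc => hp1 (hdis p hp (mem_cj.mpr hc))) (mem_cj.mp hq)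
      refine ⟨g * s * g⁻¹, mul_mem (mul_mem hg (B.S_le_normalizer₁ (B.E₂_le hs))) (inv_mem hg), ?_⟩
      calc g * s * g⁻¹ * p * (g * s * g⁻¹)⁻¹ = g * (s * (g⁻¹ * p * g) * s⁻¹) * g⁻¹ := by group
        _ = p * q := by rw [hsx]; group
    · obtain ⟨s, hs, hsx⟩ := B.exists_shift (hle hq) (fun hc => hq1 (hdis q hc hq)) hp
      exact ⟨s, B.S_le_normalizer₁ (B.E₂_le hs), by rw [hsx, B.comm_E₁ (hle hq) (B.Z_le₁ hp)]⟩
  have cross' : ∀ p ∈ B.Z, p ≠ 1 → ∀ q ∈ cj g B.Z, q ≠ 1 → R p q := fun p hp hp1 q hq hq1 =>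
    Rt (cross p hp hp1 q hq hq1).1 (Rs (cross p hp hp1 q hq hq1).2)
  haveI : Finite B.E₁ := inferInstance
  have hsurj : Function.Surjective fun x : B.Z × cj g B.Z =>
      (⟨(x.1 : G) * x.2, mul_mem (B.Z_le₁ x.1.2) (hle x.2.2)⟩ : B.E₁) := by
    refine (Function.Injective.bijective_of_nat_card_le ?_ ?_).2
    · intro x y hxy
      exact Subgroup.mul_injective_of_disjoint (Subgroup.disjoint_def.mpr fun {a} ha hb => hdis a ha hb)
        (congrArg Subtype.val hxy)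
    · rw [Nat.card_prod, card_cj, B.card_Z, B.card_E₁]
  obtain ⟨⟨⟨p, hp⟩, ⟨q, hq⟩⟩, hpq⟩ := hsurj ⟨e, he⟩
  have hpq' : p * q = e := congrArg Subtype.val hpq
  obtain ⟨q₀, hq₀, hq₀1⟩ : ∃ q ∈ cj g B.Z, q ≠ 1 :=
    ⟨g * z * g⁻¹, conj_mem_cj hz, fun hc => hz1 (conj_eq_one_iff.mp hc)⟩
  by_cases hp1 : p = 1
  · rw [hp1, one_mul] at hpq'
    exact hpq' ▸ cross' z hz hz1 q hq (by rw [hpq']; exact he1)
  by_cases hq1 : q = 1
  · rw [hq1, mul_one] at hpq'
    exact hpq' ▸ Rt (cross' z hz hz1 q₀ hq₀ hq₀1) (Rs (cross' p hp hp1 q₀ hq₀ hq₀1))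
  · exact hpq' ▸ Rt (cross' z hz hz1 q hq hq1) (cross p hp hp1 q hq hq1).2

end Base

end CfsgLib.L34Sylow
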