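import Cfsg.Agent.Lib.L34Sylow.BothFused
import Mathlib.GroupTheory.SchurZassenhaus
import Mathlib.LinearAlgebra.Matrix.GeneralLinearGroup.Basic

/-!
A group without core and with normal Sylow subgroup embeds in the Borel subgroup.

Blueprint: `blueprint/S3198.md`, section 4 (a,a).
-/

set_option autoImplicit false
set_option linter.unusedSectionVars false
set_option linter.style.haveILetI false

namespace CfsgLib.L34Sylow

open Subgroup Cfsg
open scoped MatrixGroups

/-- A map to matrices multiplicative with scalar fibre only at one gives an embedding modulo the centre. -/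
theorem exists_embed_of_matrix {G : Type*} [Group G] {F : Type*} [Field F]
    (M : G →* Matrix (Fin 3) (Fin 3) F) (h : ∀ g r, M g = Matrix.scalar (Fin 3) r → g = 1) :
    ∃ f : G →* GL (Fin 3) F ⧸ Subgroup.center (GL (Fin 3) F), Function.Injective f := by
  refine ⟨(QuotientGroup.mk' _).comp M.toHomUnits, (injective_iff_map_eq_one _).mpr fun g hg => ?_⟩
  obtain ⟨r, hr⟩ := Matrix.GeneralLinearGroup.mem_center_iff_val_eq_scalar.mp ((QuotientGroup.eq_one_iff _).mp hg)
  exact h g r (by rw [hr, MonoidHom.coe_toHomUnits])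

/-- The natural map out of a split extension. -/
theorem exists_hom_of_complement {G H : Type*} [Group G] [Monoid H] {A K : Subgroup G} [A.Normal]
    (hAK : A.IsComplement' K) (α : A →* H) (β : K →* H)
    (hc : ∀ (k : K) (a : A), β k * α a = α ⟨(k : G) * a * (k : G)⁻¹, (inferInstance : A.Normal).conj_mem a a.2 k⟩ * β k) :
    ∃ f : G →* H, ∀ (a : A) (k : K), f ((a : G) * k) = α a * β k := by
  classical
  choose p hp using hAK.2
  have huniq : ∀ (a : A) (k : K), p ((a : G) * k) = (a, k) := fun a k => hAK.1 (hp _)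
  refine ⟨{ toFun := fun g => α (p g).1 * β (p g).2
            map_one' := by
              have h := huniq 1 1
              rw [Subgroup.coe_one, Subgroup.coe_one, mul_one] at h
              rw [h, map_one, map_one, mul_one]
            map_mul' := fun g g' => ?_ }, fun a k => by simp [huniq]⟩
  obtain ⟨a, k, rfl⟩ : ∃ (a : A) (k : K), (a : G) * k = g := ⟨_, _, hp g⟩
  obtain ⟨a', k', rfl⟩ : ∃ (a' : A) (k' : K), (a' : G) * k' = g' := ⟨_, _, hp g'⟩
  set a'' : A := ⟨(k : G) * a' * (k : G)⁻¹, (inferInstance : A.Normal).conj_mem a' a'.2 k⟩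
  have e : (a : G) * k * ((a' : G) * k') = ((a * a'' : A) : G) * ((k * k' : K) : G) := by
    simp only [a'', Subgroup.coe_mul]; group
  rw [e]
  simp only [huniq, map_mul]
  calc α a * α a'' * (β k * β k') = α a * (α a'' * β k) * β k' := by simp only [mul_assoc]
    _ = α a * (β k * α a') * β k' := by rw [hc k a']
    _ = _ := by simp only [mul_assoc]

namespace Base

variable {G : Type*} [Group G] [Finite G] {F : Type*} [Field F] (B : Base G F)

open Matrix in
/-- **Normal Sylow subgroup.** -/
theorem embed_of_normal (hO : oddCore G = ⊥) (hS : (B.S : Subgroup G).Normal) :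
    ∃ f : G →* GL (Fin 3) F ⧸ Subgroup.center (GL (Fin 3) F), Function.Injective f := by
  classical
  haveI := two_fact
  haveI := hS
  haveI := finite_four B.hF
  have hN : ∀ g : G, g ∈ normalizer ((B.S : Subgroup G) : Set G) := fun g => by
    rw [Subgroup.normalizer_eq_top]; exact Subgroup.mem_top g
  obtain ⟨K, hK⟩ := Subgroup.exists_right_complement'_of_coprime (N := (B.S : Subgroup G)) B.S.card_coprime_index
  haveI : Fintype K := Fintype.ofFinite K
  have hKodd : Odd (Nat.card K) := by
    have h1 := hK.card_mul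
    have h2 := (B.S : Subgroup G).card_mul_index
    rw [← h1] at h2
    have h3 : Nat.card K = (B.S : Subgroup G).index := by
      refine (Nat.eq_of_mul_eq_mul_left Nat.card_pos h2).symm
    rw [h3, ← Nat.not_even_iff_odd, even_iff_two_dvd]
    exact B.S.not_dvd_index
  choose l m hA using fun k : K => B.exists_acts (hN (k : G))
  have hlm : ∀ j k : K, l (j * k) = l j * l k ∧ m (j * k) = m j * m k := fun j k =>
    B.acts_unique (hA (j * k)) (B.acts_mul (hA j) (hA k))
  -- the transported coordinates
  set φ : K → U F → U F := fun k u => B.conjU (k : G) (hN k) u with hφ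
  have hφmul : ∀ j k : K, ∀ u, φ (j * k) u = φ j (φ k u) := fun j k u => B.pt_injective (by
    simp only [hφ, B.pt_conjU, Subgroup.coe_mul]; group)
  have hφab : ∀ k u, (φ k u).a = l k * u.a ∧ (φ k u).b = m k * u.b := fun k u => by
    obtain ⟨v, hv, ha, hb⟩ := (hA k).2.2 u
    rw [show φ k u = v from B.pt_injective (by simp only [hφ, B.pt_conjU]; exact hv)]
    exact ⟨ha, hb⟩
  set C : U F → F := fun u => ∑ k : K, (l k * m k)⁻¹ * (φ k u).c with hC
  have hone : (Fintype.card K : F) = 1 := by
    obtain ⟨i, hi⟩ := hKodd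
    rw [← Nat.card_eq_fintype_card, hi]
    push_cast
    rw [two_eq_zero B.hF]
    ring
  have hCmul : ∀ u v, C (u * v) = C u + C v + u.a * v.b := by
    intro u v
    simp only [hC]
    have e : ∀ k : K, (l k * m k)⁻¹ * (φ k (u * v)).c =
        (l k * m k)⁻¹ * (φ k u).c + (l k * m k)⁻¹ * (φ k v).c + u.a * v.b := fun k => by
      simp only [hφ, map_mul, U.mul_c]
      have h1 := (hA k).1
      have h2 := (hA k).2.1
      rw [show (B.conjU (k : G) (hN k) u).a = l k * u.a from (hφab k u).1,
        show (B.conjU (k : G) (hN k) v).b = m k * v.b from (hφab k v).2]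
      field_simp
    rw [Finset.sum_congr rfl fun k _ => e k, Finset.sum_add_distrib, Finset.sum_add_distrib, Finset.sum_const,
      Finset.card_univ, nsmul_eq_mul, hone, one_mul]
  have hCequiv : ∀ j u, C (φ j u) = l j * m j * C u := by
    intro j u
    simp only [hC]
    rw [Finset.mul_sum, ← Equiv.sum_comp (Equiv.mulRight j) (fun k => l j * m j * ((l k * m k)⁻¹ * (φ k u).c))]
    refine Finset.sum_congr rfl fun k _ => ?_
    simp only [Equiv.coe_mulRight, ← hφmul, (hlm k j).1, (hlm k j).2]
    have h1 := (hA k).1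
    have h2 := (hA k).2.1
    have h3 := (hA j).1
    have h4 := (hA j).2.1
    field_simp
  have hC0 : ∀ c : F, C ⟨0, 0, c⟩ = c := by
    intro c
    simp only [hC]
    have e : ∀ k : K, (φ k ⟨0, 0, c⟩).c = l k * m k * c := fun k => by
      rw [show φ k ⟨0, 0, c⟩ = ⟨0, 0, l k * m k * c⟩ from B.pt_injective (by
        simp only [hφ, B.pt_conjU]; exact (hA k).conj_Z B (hN k) c)]
    rw [Finset.sum_congr rfl fun k _ => (show (l k * m k)⁻¹ * (φ k ⟨0, 0, c⟩).c = c by
      rw [e, inv_mul_cancel_left₀ (mul_ne_zero (hA k).1 (hA k).2.1)]), Finset.sum_const, Finset.card_univ,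
      nsmul_eq_mul, hone, one_mul]
  let T : U F →* U F := MonoidHom.mk' (fun u => ⟨u.a, u.b, C u⟩) fun u v =>
    U.ext (by simp) (by simp) (by simp [hCmul])
  -- the two maps
  let α : (B.S : Subgroup G) →* Matrix (Fin 3) (Fin 3) F :=
    { toFun := fun s => U.mat (T (B.e.symm s))
      map_one' := by simp only [map_one, U.mat_one]
      map_mul' := fun s t => by simp only [map_mul, U.mat_mul] }
  let β : K →* Matrix (Fin 3) (Fin 3) F :=
    { toFun := fun k => !![l k, 0, 0; 0, 1, 0; 0, 0, (m k)⁻¹]
      map_one' := by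
        obtain ⟨e1, e2⟩ := B.acts_unique (hA 1) B.acts_one
        rw [e1, e2, inv_one]
        ext a b
        fin_cases a <;> fin_cases b <;> simp
      map_mul' := fun j k => by
        rw [(hlm j k).1, (hlm j k).2, mul_inv]
        ext a b
        fin_cases a <;> fin_cases b <;> simp [Matrix.mul_apply, Fin.sum_univ_three] }
  obtain ⟨M, hM⟩ := exists_hom_of_complement hK α β fun k s => by
    obtain ⟨u, hu⟩ := B.exists_pt s.2
    have hs : s = B.e u := Subtype.ext hu.symm
    have hks : (⟨(k : G) * s * (k : G)⁻¹, hS.conj_mem s s.2 k⟩ : (B.S : Subgroup G)) = B.e (φ k u) :=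
      Subtype.ext (by
        show (k : G) * s * (k : G)⁻¹ = B.pt (φ k u)
        simp only [hφ, B.pt_conjU, hu])
    simp only [α, β, MonoidHom.coe_mk, OneHom.coe_mk]
    rw [hks, hs, MulEquiv.symm_apply_apply, MulEquiv.symm_apply_apply]
    simp only [U.mat, T, MonoidHom.mk'_apply, hCequiv, (hφab k u).1, (hφab k u).2]
    have h2 := (hA k).2.1
    ext a b
    fin_cases a <;> fin_cases b <;> simp [Matrix.mul_apply, Fin.sum_univ_three] <;> field_simp
  refine exists_embed_of_matrix M fun g r hg => ?_
  obtain ⟨⟨s, k⟩, rfl⟩ := hK.2 g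
  rw [hM] at hg
  simp only [α, β, MonoidHom.coe_mk, OneHom.coe_mk, MonoidHom.mk'_apply, U.mat, T, Matrix.scalar_apply] at hg
  have e00 := congrFun (congrFun hg 0) 0
  have e01 := congrFun (congrFun hg 0) 1
  have e02 := congrFun (congrFun hg 0) 2
  have e11 := congrFun (congrFun hg 1) 1
  have e12 := congrFun (congrFun hg 1) 2
  have e22 := congrFun (congrFun hg 2) 2
  simp [Matrix.mul_apply, Fin.sum_univ_three] at e00 e01 e02 e11 e12 e22
  have hl : l k = 1 := e00.trans e11.symm
  have hm : m k = 1 := inv_eq_one.mp (e22.trans e11.symm)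
  have hk : (k : G) = 1 := by
    refine B.eq_one_of_centralizes hO hS (fun x hx => B.centralizes_of_acts_one (hN k) ?_ ?_ hx) ?_
    · have := hA k
      rwa [hl, hm] at this
    all_goals rw [Subgroup.orderOf_coe]; exact hKodd.of_dvd_nat (orderOf_dvd_natCard k)
  set u := B.e.symm s with hu
  have ha : u.a = 0 := e01
  have hb : u.b = 0 := by simpa [hm] using e12
  have hc : C u = 0 := by simpa [hm] using e02
  rw [show u = ⟨0, 0, u.c⟩ from U.ext ha hb rfl, hC0] at hc
  have hu1 : u = 1 := U.ext ha hb hc
  have hs1 : s = 1 := by rw [← B.e.apply_symm_apply s, ← hu, hu1, map_one]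
  simp [hs1, hk]

end Base

end CfsgLib.L34Sylow
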