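import Cfsg.Agent.Lib.L34Sylow.Dichotomy

/-!
When the centre is fused into a piece, the normaliser of the piece acts linearly over the field.

Blueprint: `blueprint/S3198.md`, section 1.
-/

set_option autoImplicit false
set_option linter.unusedSectionVars false
set_option linter.style.haveILetI false

namespace CfsgLib.L34Sylow

open Subgroup Cfsg

variable {G : Type*} [Group G] {F : Type*} [Field F]

namespace U

/-- The automorphism adding an additive function of the first coordinate to the centre. -/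
def shear (k : F → F) (hk : ∀ x y, k (x + y) = k x + k y) : U F ≃* U F where
  toFun u := ⟨u.a, u.b, u.c + k u.a⟩
  invFun u := ⟨u.a, u.b, u.c - k u.a⟩
  left_inv u := by ext <;> simp
  right_inv u := by ext <;> simp
  map_mul' u v := by ext <;> simp [hk]; ring

end U

namespace Base

variable (B : Base G F)

/-- A point of the first piece. -/
def q (x : F × F) : G := B.pt ⟨x.1, 0, x.2⟩

theorem q_mem (x : F × F) : B.q x ∈ B.E₁ := B.pt_mem_E₁.mpr rfl

theorem q_add (x y : F × F) : B.q (x + y) = B.q x * B.q y := by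
  rw [q, q, q, ← map_mul]
  congr 1
  ext <;> simp

theorem q_injective : Function.Injective B.q := fun _ _ h =>
  Prod.ext (congrArg U.a (B.pt_injective h)) (congrArg U.c (B.pt_injective h))

theorem q_zero : B.q 0 = 1 := by
  rw [q, ← map_one B.pt]; rfl

theorem exists_q {e : G} (he : e ∈ B.E₁) : ∃ x, B.q x = e := by
  obtain ⟨u, hu, rfl⟩ := he
  exact ⟨(u.a, u.c), congrArg B.pt (U.ext rfl hu.symm rfl)⟩

theorem q_mem_Z {x : F × F} : B.q x ∈ B.Z ↔ x.1 = 0 :=
  ⟨fun h => (B.pt_mem_Z.mp h).1, fun h => B.pt_mem_Z.mpr ⟨h, rfl⟩⟩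

/-- The element of the second piece acting as a transvection. -/
theorem shift_q (b : F) (x : F × F) :
    B.pt ⟨0, b, 0⟩ * B.q x * (B.pt ⟨0, b, 0⟩)⁻¹ = B.q (x.1, x.2 + x.1 * b) := by
  rw [q, q, ← map_inv, ← map_mul, ← map_mul]
  congr 1
  ext
  · simp
  · simp
  · simp only [U.mul_c, U.mul_a, U.inv_b, U.inv_c]
    linear_combination -(x.1 * b) * two_eq_zero B.hF

variable [Finite G]

/-- The image under the conjugation by an element of the normaliser. -/
noncomputable def img (m : ↥(normalizer (B.E₁ : Set G))) (x : F × F) : F × F :=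
  Classical.choose (B.exists_q ((Subgroup.mem_normalizer_iff.mp m.2 _).mp (B.q_mem x)))

theorem q_img (m : ↥(normalizer (B.E₁ : Set G))) (x : F × F) :
    B.q (B.img m x) = (m : G) * B.q x * (m : G)⁻¹ :=
  Classical.choose_spec (B.exists_q ((Subgroup.mem_normalizer_iff.mp m.2 _).mp (B.q_mem x)))

theorem img_add (m : ↥(normalizer (B.E₁ : Set G))) (x y : F × F) : B.img m (x + y) = B.img m x + B.img m y := by
  refine B.q_injective ?_
  rw [B.q_add, B.q_img, B.q_img, B.q_img, B.q_add]
  group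

theorem img_mul (m n : ↥(normalizer (B.E₁ : Set G))) (x : F × F) : B.img (m * n) x = B.img m (B.img n x) := by
  refine B.q_injective ?_
  rw [B.q_img, B.q_img, B.q_img, Subgroup.coe_mul]
  group

theorem img_one (x : F × F) : B.img 1 x = x := by
  refine B.q_injective ?_
  rw [B.q_img]
  simp

theorem img_zero (m : ↥(normalizer (B.E₁ : Set G))) : B.img m 0 = 0 := by
  refine B.q_injective ?_
  rw [B.q_img, B.q_zero]
  group

theorem img_injective (m : ↥(normalizer (B.E₁ : Set G))) : Function.Injective (B.img m) := fun x y h =>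
  B.q_injective (by
    have := congrArg B.q h
    rwa [B.q_img, B.q_img, mul_left_inj, mul_right_inj] at this)

/-- Some conjugate of the centre is the standard complement. -/
def Adapted : Prop := ∃ g ∈ normalizer (B.E₁ : Set G), ∀ x, B.q x ∈ cj g B.Z ↔ x.2 = 0

/-- **Coordinates adapted to a conjugate of the centre.** -/
theorem exists_adapted (h : B.Fused₁) :
    ∃ B' : Base G F, B'.S = B.S ∧ B'.Z = B.Z ∧ B'.E₁ = B.E₁ ∧ B'.E₂ = B.E₂ ∧ B'.Adapted := by
  obtain ⟨g, hg, hdis⟩ := B.exists_disjoint h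
  have hle : cj g B.Z ≤ B.E₁ := by
    rintro _ ⟨x, hx, rfl⟩
    exact (Subgroup.mem_normalizer_iff.mp hg x).mp (B.Z_le₁ hx)
  have hinj : ∀ x y : F × F, B.q x ∈ cj g B.Z → B.q y ∈ cj g B.Z → x.1 = y.1 → x = y := by
    intro x y hx hy hxy
    have h1 : B.q (x - y) ∈ cj g B.Z := by
      have := mul_mem hx (inv_mem hy)
      rwa [show B.q x = B.q (x - y) * B.q y by rw [← B.q_add, sub_add_cancel], mul_inv_cancel_right] at this
    have h2 := hdis _ (B.q_mem_Z.mpr (show (x - y).1 = 0 by simp [hxy])) h1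
    rw [← B.q_zero] at h2
    exact sub_eq_zero.mp (B.q_injective h2)
  classical
  haveI := finite_four B.hF
  have hbij : Function.Surjective fun x : {x : F × F // B.q x ∈ cj g B.Z} => (x : F × F).1 := by
    refine (Function.Injective.bijective_of_nat_card_le (fun x y hxy => Subtype.ext (hinj _ _ x.2 y.2 hxy)) ?_).2
    have hsur : Function.Surjective (fun x : {x : F × F // B.q x ∈ cj g B.Z} => (⟨B.q x, x.2⟩ : cj g B.Z)) := by
      rintro ⟨e, he⟩
      obtain ⟨x, rfl⟩ := B.exists_q (hle he)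
      exact ⟨⟨x, he⟩, rfl⟩
    have := Nat.card_le_card_of_surjective _ hsur
    rw [card_cj, B.card_Z] at this
    rw [B.hF]
    exact this
  choose k hk using hbij
  have hk' : ∀ a : F, B.q (a, ((k a : {x : F × F // B.q x ∈ cj g B.Z}) : F × F).2) ∈ cj g B.Z := fun a => by
    have e : ((k a : {x : F × F // B.q x ∈ cj g B.Z}) : F × F) = (a, ((k a : {x : F × F // B.q x ∈ cj g B.Z}) : F × F).2) :=
      Prod.ext (hk a) rfl
    exact e ▸ (k a).2
  set κ : F → F := fun a => ((k a : {x : F × F // B.q x ∈ cj g B.Z}) : F × F).2 with hκ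
  have hadd : ∀ a b, κ (a + b) = κ a + κ b := fun a b => by
    have h1 := hinj (a + b, κ (a + b)) (a + b, κ a + κ b) (hk' _) (by
      have := mul_mem (hk' a) (hk' b)
      rwa [← B.q_add] at this) rfl
    exact congrArg Prod.snd h1
  have hB' : ∀ u, (Base.mk B.S B.hF ((U.shear κ hadd).trans B.e)).pt u = B.pt ⟨u.a, u.b, u.c + κ u.a⟩ := fun _ => rfl
  set B' : Base G F := ⟨B.S, B.hF, (U.shear κ hadd).trans B.e⟩
  have hsh : ∀ u, (U.shear κ hadd).symm u = ⟨u.a, u.b, u.c - κ u.a⟩ := fun _ => rfl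
  have hback : ∀ u, B'.pt ((U.shear κ hadd).symm u) = B.pt u := fun u => by
    rw [hB', hsh]
    exact congrArg B.pt (by ext <;> simp)
  refine ⟨B', rfl, ?_, ?_, ?_, g, ?_, fun x => ?_⟩
  · ext x
    constructor
    · rintro ⟨u, ha, hb, rfl⟩
      rw [hB']
      exact B.pt_mem_Z.mpr ⟨ha, hb⟩
    · rintro ⟨u, ha, hb, rfl⟩
      exact ⟨(U.shear κ hadd).symm u, ha, hb, hback u⟩
  · ext x
    constructor
    · rintro ⟨u, hb, rfl⟩
      rw [hB']
      exact B.pt_mem_E₁.mpr hb
    · rintro ⟨u, hb, rfl⟩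
      exact ⟨(U.shear κ hadd).symm u, hb, hback u⟩
  · ext x
    constructor
    · rintro ⟨u, ha, rfl⟩
      rw [hB']
      exact B.pt_mem_E₂.mpr ha
    · rintro ⟨u, ha, rfl⟩
      exact ⟨(U.shear κ hadd).symm u, ha, hback u⟩
  · refine mem_normalizer_of_forall ?_
    rintro _ ⟨u, hb, rfl⟩
    rw [hB']
    have h1 := (Subgroup.mem_normalizer_iff.mp hg _).mp
      (B.pt_mem_E₁.mpr (show (⟨u.a, u.b, u.c + κ u.a⟩ : U F).b = 0 from hb))
    obtain ⟨v, hv, hve⟩ := h1
    exact ⟨(U.shear κ hadd).symm v, hv, by rw [hback, hve]⟩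
  · have hZ' : B'.Z = B.Z := by
      ext y
      constructor
      · rintro ⟨u, ha, hb, rfl⟩
        rw [hB']
        exact B.pt_mem_Z.mpr ⟨ha, hb⟩
      · rintro ⟨u, ha, hb, rfl⟩
        exact ⟨(U.shear κ hadd).symm u, ha, hb, hback u⟩
    have hq : B'.q x = B.q (x.1, x.2 + κ x.1) := hB' _
    rw [hZ', hq]
    constructor
    · intro hx
      have := congrArg Prod.snd (hinj (x.1, x.2 + κ x.1) (x.1, κ x.1) hx (hk' _) rfl)
      simpa using this
    · intro hx
      rw [hx, zero_add]
      exact hk' _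

variable {B} (hA : B.Adapted)

include hA

theorem exists_line {x : F × F} (hx : x ≠ 0) :
    ∃ g ∈ normalizer (B.E₁ : Set G), ∀ y, B.q y ∈ cj g B.Z ↔ ∃ t : F, y = t • x := by
  obtain ⟨g, hg, hline⟩ := hA
  rcases eq_or_ne x.1 0 with h0 | h0
  · refine ⟨1, one_mem _, fun y => ?_⟩
    rw [cj_one, B.q_mem_Z]
    have h2 : x.2 ≠ 0 := fun h => hx (Prod.ext h0 h)
    exact ⟨fun hy => ⟨y.2 / x.2, Prod.ext (by simp [hy, h0]) (by simp [h2])⟩, by rintro ⟨t, rfl⟩; simp [h0]⟩
  · set s := B.pt ⟨0, x.2 / x.1, 0⟩ with hs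
    refine ⟨s * g, mul_mem (B.S_le_normalizer₁ (B.pt_mem _)) hg, fun y => ?_⟩
    have key : B.q y ∈ cj (s * g) B.Z ↔ (s⁻¹ * B.q y * s) ∈ cj g B.Z := by
      rw [mem_cj, mem_cj]
      constructor <;> intro h <;> convert h using 1 <;> group
    have hsy : s⁻¹ * B.q y * s = B.q (y.1, y.2 + y.1 * (x.2 / x.1)) := by
      have h2 : (B.pt ⟨0, x.2 / x.1, 0⟩)⁻¹ = B.pt ⟨0, x.2 / x.1, 0⟩ :=
        inv_eq_of_mul_eq_one_right (B.sq_E₂ (B.pt_mem_E₂.mpr rfl))
      rw [hs, ← B.shift_q, h2]
    rw [key, hsy, hline]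
    constructor
    · intro hy
      refine ⟨y.1 / x.1, Prod.ext (by simp [h0]) ?_⟩
      show y.2 = y.1 / x.1 * x.2
      have h := eq_neg_of_add_eq_zero_left hy
      rw [neg_eq B.hF] at h
      rw [h]
      ring
    · rintro ⟨t, rfl⟩
      show t * x.2 + t * x.1 * (x.2 / x.1) = 0
      field_simp
      linear_combination (t * x.2) * two_eq_zero B.hF

/-- Conjugation carries lines to lines. -/
theorem img_line (m : ↥(normalizer (B.E₁ : Set G))) {x : F × F} (hx : x ≠ 0) (t : F) :
    ∃ s : F, B.img m (t • x) = s • B.img m x := by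
  have hfx : B.img m x ≠ 0 := fun h => hx (B.img_injective m (h.trans (B.img_zero m).symm))
  obtain ⟨g, hg, hgx⟩ := exists_line hA hx
  obtain ⟨g', hg', hgy⟩ := exists_line hA hfx
  have h1 : ∀ y, B.q y ∈ cj g B.Z → B.q (B.img m y) ∈ cj ((m : G) * g) B.Z := fun y hy => by
    rw [← cj_mul, B.q_img]
    exact conj_mem_cj hy
  have hne : B.q (B.img m x) ≠ 1 := fun h => hfx (B.q_injective (h.trans B.q_zero.symm))
  have hxm : B.q (B.img m x) ∈ cj ((m : G) * g) B.Z := h1 x ((hgx x).mpr ⟨1, (one_smul F x).symm⟩)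
  have hxg : B.q (B.img m x) ∈ cj g' B.Z := (hgy _).mpr ⟨1, (one_smul F _).symm⟩
  have hn : g'⁻¹ * ((m : G) * g) ∈ normalizer (B.Z : Set G) := by
    refine B.Z_disjoint (mul_mem (inv_mem hg') (mul_mem m.2 hg))
      (z := g'⁻¹ * B.q (B.img m x) * g') (fun e => hne ?_) (mem_cj.mp hxg) ?_
    · calc B.q (B.img m x) = g' * (g'⁻¹ * B.q (B.img m x) * g') * g'⁻¹ := by group
        _ = 1 := by rw [e]; group
    · rw [← cj_mul]
      refine ⟨B.q (B.img m x), hxm, ?_⟩
      simp
  have heq : cj ((m : G) * g) B.Z = cj g' B.Z := by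
    have := congrArg (cj g') (cj_eq_of_mem hn)
    rwa [cj_mul, mul_inv_cancel_left] at this
  exact (hgy _).mp (heq ▸ h1 _ ((hgx _).mpr ⟨t, rfl⟩))

/-- A multiplier common to all vectors. -/
theorem exists_multiplier (m : ↥(normalizer (B.E₁ : Set G))) {w : F} (hw0 : w ≠ 0) (hw1 : w ≠ 1) :
    ∃ μ : F, (μ = w ∨ μ = w + 1) ∧ ∀ x, B.img m (w • x) = μ • B.img m x := by
  have hne : ∀ {x : F × F}, x ≠ 0 → B.img m x ≠ 0 := fun {x} hx h =>
    hx (B.img_injective m (h.trans (B.img_zero m).symm))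
  have hμ : ∀ x : F × F, x ≠ 0 → ∃ μ, B.img m (w • x) = μ • B.img m x := fun x hx => img_line hA m hx w
  choose! μ hμ using hμ
  have indep : ∀ x y : F × F, x ≠ 0 → y ≠ 0 → (∀ t : F, y ≠ t • x) → μ x = μ y := by
    intro x y hx hy hxy
    have hxy0 : x + y ≠ 0 := fun h => hxy 1 (by
      rw [one_smul, eq_neg_of_add_eq_zero_right h]
      exact Prod.ext (neg_eq B.hF _) (neg_eq B.hF _))
    have h1 := hμ (x + y) hxy0
    rw [smul_add, B.img_add, B.img_add, hμ x hx, hμ y hy, smul_add] at h1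
    have h2 : (μ x - μ (x + y)) • B.img m x = (μ (x + y) - μ y) • B.img m y := by
      rw [sub_smul, sub_smul, sub_eq_sub_iff_add_eq_add]
      rw [h1]; abel
    have hfy : ∀ t : F, B.img m y ≠ t • B.img m x := by
      intro t ht
      obtain ⟨s, hs⟩ := img_line hA m⁻¹ (hne hx) t
      rw [← ht, ← B.img_mul, ← B.img_mul, inv_mul_cancel, B.img_one, B.img_one] at hs
      exact hxy s hs
    have h3 : μ (x + y) - μ y = 0 := by
      by_contra h0
      refine hfy ((μ x - μ (x + y)) / (μ (x + y) - μ y)) ?_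
      rw [div_eq_mul_inv, mul_comm, mul_smul, h2, smul_smul, inv_mul_cancel₀ h0, one_smul]
    rw [h3, zero_smul] at h2
    have h4 := (smul_eq_zero.mp h2).resolve_right (hne hx)
    linear_combination h4 + h3
  have he0 : ((1 : F), (0 : F)) ≠ 0 := fun h => one_ne_zero (congrArg Prod.fst h)
  have he1 : ((0 : F), (1 : F)) ≠ 0 := fun h => one_ne_zero (congrArg Prod.snd h)
  have hall : ∀ x : F × F, x ≠ 0 → μ x = μ (1, 0) := by
    intro x hx
    have h01 : μ ((1 : F), (0 : F)) = μ (0, 1) := indep _ _ he0 he1 fun t h => by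
      simpa using congrArg Prod.snd h
    rcases eq_or_ne x.2 0 with h | h
    · rw [h01]
      refine (indep _ _ he1 hx fun t ht => hx (Prod.ext ?_ h)).symm
      simpa using congrArg Prod.fst ht
    · exact (indep _ _ he0 hx fun t ht => h (by simpa using congrArg Prod.snd ht)).symm
  refine ⟨μ (1, 0), ?_, fun x => ?_⟩
  · have h0 := hμ _ he0
    rcases cases_four B.hF hw0 hw1 (μ (1, 0)) with h | h | h | h
    · rw [h, zero_smul] at h0
      exact absurd h0 (hne (smul_ne_zero hw0 he0))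
    · rw [h, one_smul] at h0
      exact absurd (congrArg Prod.fst (B.img_injective m h0)) (by simpa using hw1)
    · exact Or.inl h
    · exact Or.inr h
  · rcases eq_or_ne x 0 with rfl | hx
    · rw [smul_zero, B.img_zero, smul_zero]
    · rw [hμ x hx, hall x hx]

/-- **Linearity.** -/
theorem img_smul (m : ↥(normalizer (B.E₁ : Set G))) (t : F) (x : F × F) : B.img m (t • x) = t • B.img m x := by
  haveI := two_fact
  obtain ⟨w, hw0, hw1⟩ := exists_omega B.hF
  let L : Subgroup ↥(normalizer (B.E₁ : Set G)) :=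
    { carrier := {m | ∀ x, B.img m (w • x) = w • B.img m x}
      one_mem' := fun x => by rw [B.img_one, B.img_one]
      mul_mem' := fun {a b} ha hb x => by rw [B.img_mul, B.img_mul, hb, ha]
      inv_mem' := fun {a} ha x => B.img_injective a (by
        rw [ha, ← B.img_mul, ← B.img_mul, mul_inv_cancel, B.img_one, B.img_one]) }
  have hnon : ∀ a ∉ L, ∀ x, B.img a (w • x) = (w + 1) • B.img a x := by
    intro a ha x
    obtain ⟨μ, hμ, h⟩ := exists_multiplier hA a hw0 hw1
    rcases hμ with rfl | rfl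
    · exact absurd h ha
    · exact h x
  have hflip : ∀ a ∉ L, ∀ b ∉ L, a * b ∈ L := by
    intro a ha b hb x
    rw [B.img_mul, B.img_mul, hnon b hb, add_smul, one_smul, B.img_add, hnon a ha, add_smul, one_smul]
    rw [add_assoc, show B.img a (B.img b x) + B.img a (B.img b x) = 0 from
      Prod.ext (add_self B.hF _) (add_self B.hF _), add_zero]
  have hmem : m ∈ L := by
    by_contra hm
    have hidx : L.index = 2 := by
      refine Subgroup.index_eq_two_iff.mpr ⟨m, fun b => ?_⟩
      by_cases hb : b ∈ L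
      · refine Or.inr ⟨hb, fun h => hm ?_⟩
        simpa using L.mul_mem (L.inv_mem hb) h
      · exact Or.inl ⟨hflip b hb m hm, hb⟩
    have hS : (B.S : Subgroup G).subgroupOf (normalizer (B.E₁ : Set G)) ≤ L := by
      intro s hs x
      have hs' : (s : G) ∈ (B.S : Subgroup G) := hs
      obtain ⟨u, hu⟩ := B.exists_pt hs'
      have key : ∀ y, B.img s y = (y.1, y.2 + y.1 * u.b) := fun y => B.q_injective (by
        rw [B.q_img, ← hu, q, q, ← map_inv, ← map_mul, ← map_mul]
        congr 1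
        ext
        · simp
        · simp
        · simp only [U.mul_c, U.mul_a, U.inv_b, U.inv_c]
          linear_combination -(y.1 * u.b) * two_eq_zero B.hF)
      rw [key, key]
      refine Prod.ext rfl ?_
      show w * x.2 + w * x.1 * u.b = w * (x.2 + x.1 * u.b)
      ring
    have h2 := Subgroup.index_dvd_of_le hS
    rw [hidx] at h2
    exact (B.S.subtype B.S_le_normalizer₁).not_dvd_index h2
  have h1 : ∀ y, B.img m ((w + 1) • y) = (w + 1) • B.img m y := fun y => by
    rw [add_smul, one_smul, B.img_add, hmem, add_smul, one_smul]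
  rcases cases_four B.hF hw0 hw1 t with rfl | rfl | rfl | rfl
  · rw [zero_smul, zero_smul, B.img_zero]
  · rw [one_smul, one_smul]
  · exact hmem x
  · exact h1 x

omit hA in
/-- The matrix of a map on pairs. -/
noncomputable def mat (m : ↥(normalizer (B.E₁ : Set G))) : Matrix (Fin 2) (Fin 2) F :=
  !![(B.img m (1, 0)).1, (B.img m (0, 1)).1; (B.img m (1, 0)).2, (B.img m (0, 1)).2]

theorem img_eq_mat (m : ↥(normalizer (B.E₁ : Set G))) (x : F × F) :
    B.img m x = ((mat m) 0 0 * x.1 + (mat m) 0 1 * x.2, (mat m) 1 0 * x.1 + (mat m) 1 1 * x.2) := by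
  have e : x = x.1 • ((1 : F), (0 : F)) + x.2 • ((0 : F), (1 : F)) := by ext <;> simp
  conv_lhs => rw [e, B.img_add, img_smul hA, img_smul hA]
  ext <;> simp [mat, mul_comm]

/-- **The linear representation.** -/
theorem exists_rho : ∃ ρ : ↥(normalizer (B.E₁ : Set G)) →* GL (Fin 2) F,
    (∀ m, m ∈ ρ.ker ↔ (m : G) ∈ centralizer (B.E₁ : Set G)) ∧
    ∀ m x, B.img m x = ((ρ m : Matrix (Fin 2) (Fin 2) F) 0 0 * x.1 + (ρ m : Matrix (Fin 2) (Fin 2) F) 0 1 * x.2,
      (ρ m : Matrix (Fin 2) (Fin 2) F) 1 0 * x.1 + (ρ m : Matrix (Fin 2) (Fin 2) F) 1 1 * x.2) := by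
  have hmul : ∀ m n, mat (B := B) (m * n) = mat m * mat n := by
    intro m n
    ext i j
    fin_cases i <;> fin_cases j <;>
      simp [mat, Matrix.mul_apply, Fin.sum_univ_two, B.img_mul, img_eq_mat hA m (B.img n _)]
  let f : ↥(normalizer (B.E₁ : Set G)) →* Matrix (Fin 2) (Fin 2) F :=
    { toFun := mat
      map_one' := by
        ext i j
        fin_cases i <;> fin_cases j <;> simp [mat, B.img_one]
      map_mul' := hmul }
  refine ⟨f.toHomUnits, fun m => ?_, fun m x => by
    rw [MonoidHom.coe_toHomUnits]; exact img_eq_mat hA m x⟩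
  rw [MonoidHom.mem_ker, Subgroup.mem_centralizer_iff]
  constructor
  · intro h e he
    have h' : mat m = (1 : Matrix (Fin 2) (Fin 2) F) := congrArg Units.val h
    obtain ⟨x, rfl⟩ := B.exists_q he
    have h1 : B.img m x = x := by
      rw [img_eq_mat hA, h']
      simp
    have h2 := B.q_img m x
    rw [h1] at h2
    exact eq_mul_inv_iff_mul_eq.mp h2
  · intro h
    refine Units.ext ?_
    have h1 : ∀ x, B.img m x = x := fun x => B.q_injective (by
      rw [B.q_img, ← h _ (B.q_mem x), mul_inv_cancel_right])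
    show mat m = (1 : Matrix (Fin 2) (Fin 2) F)
    ext i j
    fin_cases i <;> fin_cases j <;> simp [mat, h1]

end Base

end CfsgLib.L34Sylow
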