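import Cfsg.Agent.Lib.L34Sylow.EmbedBorel
import Cfsg.Agent.Lib.L34Sylow.CentX
import Cfsg.Agent.Lib.L34Sylow.Linear

/-!
A group without core and with the fused piece normal embeds in a parabolic subgroup.

Blueprint: `blueprint/S3198.md`, section 4 (b,a).
-/

set_option autoImplicit false
set_option linter.unusedSectionVars false
set_option linter.style.haveILetI false

namespace CfsgLib.L34Sylow

open Subgroup Cfsg
open scoped MatrixGroups

universe u

namespace Base

variable {G : Type u} [Group G] [Finite G] {F : Type*} [Field F] (B : Base G F)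

/-- A normal piece is its own centraliser. -/
theorem centralizer_E₁_of_normal (hO : oddCore G = ⊥) (hE : B.E₁.Normal) :
    centralizer (B.E₁ : Set G) ≤ B.E₁ := by
  haveI := two_fact
  haveI := hE
  set C := centralizer (B.E₁ : Set G)
  haveI hCn : C.Normal := Subgroup.normal_centralizer (H := B.E₁)
  have hEC : B.E₁ ≤ C := fun e he => Subgroup.mem_centralizer_iff.mpr fun x hx => B.comm_E₁ hx he
  have hSC : ∀ s ∈ (B.S : Subgroup G), s ∈ C → s ∈ B.E₁ := fun s hs hc =>
    B.mem_E₁_of_comm (x := B.pt ⟨1, 0, 0⟩) (B.pt_mem_E₁.mpr rfl) (fun h => one_ne_zero (B.pt_mem_Z.mp h).1) hs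
      (Subgroup.mem_centralizer_iff.mp hc _ (B.pt_mem_E₁.mpr rfl))
  obtain ⟨P, hP⟩ := (B.isPGroup_E₁.comap_subtype (K := C)).exists_le_sylow
  have hPE : ∀ p ∈ (P : Subgroup C), (p : G) ∈ B.E₁ := by
    intro p hp
    obtain ⟨g, hg⟩ := B.exists_cj_le (P.isPGroup'.map C.subtype)
    have h1 := mem_cj.mp (hg ⟨p, hp, rfl⟩)
    have h2 := hSC _ h1 (by
      have := hCn.conj_mem _ p.2 g⁻¹
      rwa [inv_inv] at this)
    have h3 := hE.conj_mem _ h2 g
    convert h3 using 1
    group
    rfl
  have hN : normalizer ((P : Subgroup C) : Set C) ≤ centralizer ((P : Subgroup C) : Set C) := fun n _ =>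
    Subgroup.mem_centralizer_iff.mpr fun p hp => Subtype.ext (Subgroup.mem_centralizer_iff.mp n.2 _ (hPE p hp))
  intro g hg
  obtain ⟨o, ho, p, hp, e⟩ := (burnside_split P hN ⟨g, hg⟩).1
  have ho1 := CfsgLib.ZStar.map_pPrimeCore_le_of_normal C (Subgroup.mem_map_of_mem C.subtype ho)
  rw [show pPrimeCore 2 G = ⊥ from hO, Subgroup.mem_bot] at ho1
  have e' : g = (o : G) * p := congrArg Subtype.val e
  rw [e', show (o : G) = 1 from ho1, one_mul]
  exact hPE p hp

/-- The cocycle on the Sylow subgroup. -/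
def cut (u : U F) : F × F := (u.a, u.c + u.a * u.b)

/-- **Normal fused piece.** -/
theorem embed_of_normal_E₁ (hO : oddCore G = ⊥) (hE : B.E₁.Normal) (h1 : B.Fused₁) :
    ∃ f : G →* GL (Fin 3) F ⧸ Subgroup.center (GL (Fin 3) F), Function.Injective f := by
  classical
  haveI := two_fact
  obtain ⟨B', hS, hZ, hE₁, hE₂, hA⟩ := B.exists_adapted h1
  clear h1
  rw [← hE₁] at hE
  haveI := hE
  have hN : ∀ g : G, g ∈ normalizer (B'.E₁ : Set G) := fun g => by
    rw [Subgroup.normalizer_eq_top]; exact Subgroup.mem_top g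
  let el : G → ↥(normalizer (B'.E₁ : Set G)) := fun g => ⟨g, hN g⟩
  obtain ⟨ρ, hker, hρ⟩ := B'.exists_rho hA
  set J : G → F × F → F × F := fun g x => B'.img (el g) x with hJ
  have hJadd : ∀ g x y, J g (x + y) = J g x + J g y := fun g => B'.img_add _
  have hJmul : ∀ g h x, J (g * h) x = J g (J h x) := fun g h => B'.img_mul (el g) (el h)
  haveI : Fintype (G ⧸ (B'.S : Subgroup G)) := Fintype.ofFinite _
  let r : G ⧸ (B'.S : Subgroup G) → G := Quotient.out
  have hr : ∀ x : G ⧸ (B'.S : Subgroup G), (r x : G ⧸ (B'.S : Subgroup G)) = x := fun x => Quotient.out_eq' x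
  have hs : ∀ g x, (r (g • x))⁻¹ * g * r x ∈ (B'.S : Subgroup G) := fun g x => by
    rw [mul_assoc]
    refine QuotientGroup.eq.mp ((hr _).trans ?_)
    conv_lhs => rw [← hr x]
    rfl
  choose w hw using fun g x => B'.exists_pt (hs g x)
  have hwmul : ∀ g h x, w (g * h) x = w g (h • x) * w h x := fun g h x => B'.pt_injective (by
    rw [map_mul, hw, hw, hw, mul_smul]; group)
  have hcut : ∀ s : G, ∀ u u' : U F, B'.pt u = s → cut (u * u') = cut u + J s (cut u') := by
    intro s u u' hu
    have key : J s (cut u') = ((cut u').1, (cut u').2 + (cut u').1 * u.b) := B'.q_injective (by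
      simp only [hJ, B'.q_img]
      show s * B'.q (cut u') * s⁻¹ = _
      rw [← hu, q, q, ← map_inv, ← map_mul, ← map_mul]
      congr 1
      ext
      · simp
      · simp
      · simp only [U.mul_c, U.mul_a, U.inv_b, U.inv_c]
        linear_combination -((cut u').1 * u.b) * two_eq_zero B.hF)
    rw [key]
    simp only [cut, U.mul_a, U.mul_b, U.mul_c, Prod.mk_add_mk, Prod.mk.injEq, true_and]
    linear_combination (u.a * u'.b) * two_eq_zero B.hF
  let vS : G → G ⧸ (B'.S : Subgroup G) → F × F := fun g x => J (r (g • x)) (cut (w g x))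
  let v : G → F × F := fun g => ∑ x, vS g x
  have hJsum : ∀ g (s : G ⧸ (B'.S : Subgroup G) → F × F), J g (∑ x, s x) = ∑ x, J g (s x) := fun g s => by
    exact map_sum (AddMonoidHom.mk' (J g) (hJadd g)) s Finset.univ
  have hv : ∀ g h, v (g * h) = v g + J g (v h) := by
    intro g h
    have e : ∀ x, vS (g * h) x = vS g (h • x) + J g (vS h x) := fun x => by
      simp only [vS]
      rw [hwmul, hcut ((r (g • h • x))⁻¹ * g * r (h • x)) _ _ (hw g (h • x)), hJadd, mul_smul, ← hJmul, ← hJmul,
        show r (g • h • x) * ((r (g • h • x))⁻¹ * g * r (h • x)) = g * r (h • x) by group]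
    simp only [v]
    rw [Finset.sum_congr rfl fun x _ => e x, Finset.sum_add_distrib, hJsum]
    congr 1
    exact Equiv.sum_comp (MulAction.toPerm h) fun x => vS g x
  have hvE : ∀ x : F × F, v (B'.q x) = x := by
    intro x
    have e : ∀ y, vS (B'.q x) y = x := fun y => by
      have hfix : B'.q x • y = y := by
        conv_lhs => rw [← hr y]
        conv_rhs => rw [← hr y]
        refine QuotientGroup.eq.mpr ?_
        have := B'.E₁_le (hE.conj_mem _ (inv_mem (B'.q_mem x)) (r y)⁻¹)
        show (B'.q x * r y)⁻¹ * r y ∈ _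
        convert this using 1
        group
      simp only [vS, hfix]
      have hb : (w (B'.q x) y).b = 0 := by
        refine B'.pt_mem_E₁.mp ?_
        rw [hw, hfix]
        have := hE.conj_mem _ (B'.q_mem x) (r y)⁻¹
        rwa [inv_inv] at this
      refine B'.q_injective ?_
      simp only [hJ, B'.q_img]
      show r y * B'.q (cut (w (B'.q x) y)) * (r y)⁻¹ = _
      rw [show B'.q (cut (w (B'.q x) y)) = B'.pt (w (B'.q x) y) by
        rw [q, cut]
        exact congrArg B'.pt (U.ext rfl hb.symm (by simp [hb])), hw, hfix]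
      group
    simp only [v]
    rw [Finset.sum_congr rfl fun y _ => e y, Finset.sum_const, Finset.card_univ]
    have hodd : Odd (Fintype.card (G ⧸ (B'.S : Subgroup G))) := by
      rw [← Nat.card_eq_fintype_card, ← Subgroup.index_eq_card, ← Nat.not_even_iff_odd, even_iff_two_dvd]
      exact B'.S.not_dvd_index
    obtain ⟨i, hi⟩ := hodd
    rw [hi, add_nsmul, one_nsmul, mul_nsmul, two_nsmul,
      show x + x = 0 from Prod.ext (add_self B.hF _) (add_self B.hF _), nsmul_zero, zero_add]
  -- the matrices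
  set R : G → Matrix (Fin 2) (Fin 2) F := fun g => (ρ (el g) : Matrix (Fin 2) (Fin 2) F) with hR
  have hR' : ∀ g x, J g x = (R g 0 0 * x.1 + R g 0 1 * x.2, R g 1 0 * x.1 + R g 1 1 * x.2) := fun g => hρ (el g)
  have hRmul : ∀ g h, R (g * h) = R g * R h := fun g h => by
    simp only [hR, ← Units.val_mul, ← map_mul]
    rfl
  let Mf : G → Matrix (Fin 3) (Fin 3) F := fun g =>
    !![R g 0 0, R g 0 1, (v g).1; R g 1 0, R g 1 1, (v g).2; 0, 0, 1]
  have hR1 : R 1 = 1 := by simp only [hR]; rw [show el 1 = 1 from rfl, map_one, Units.val_one]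
  have hv1 : v 1 = 0 := by rw [← B'.q_zero]; exact hvE 0
  let M : G →* Matrix (Fin 3) (Fin 3) F :=
    { toFun := Mf
      map_one' := by
        simp only [Mf, hR1, hv1]
        ext a b
        fin_cases a <;> fin_cases b <;> simp
      map_mul' := fun g h => by
        simp only [Mf, hRmul, hv, hR']
        ext a b
        fin_cases a <;> fin_cases b <;> simp [Matrix.mul_apply, Fin.sum_univ_three, Fin.sum_univ_two] <;> ring }
  refine exists_embed_of_matrix M fun g c hg => ?_
  simp only [M, Mf, Matrix.scalar_apply, MonoidHom.coe_mk, OneHom.coe_mk] at hg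
  have h00 := congrFun (congrFun hg 0) 0
  have h01 := congrFun (congrFun hg 0) 1
  have h02 := congrFun (congrFun hg 0) 2
  have h10 := congrFun (congrFun hg 1) 0
  have h11 := congrFun (congrFun hg 1) 1
  have h12 := congrFun (congrFun hg 1) 2
  have h22 := congrFun (congrFun hg 2) 2
  simp at h00 h01 h02 h10 h11 h12 h22
  have hgE : g ∈ B'.E₁ := by
    refine B'.centralizer_E₁_of_normal hO hE ((hker (el g)).mp (MonoidHom.mem_ker.mpr (Units.ext ?_)))
    rw [Units.val_one]
    show R g = 1
    rw [Matrix.eta_fin_two (R g), h00, h01, h10, h11, ← h22, Matrix.one_fin_two]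
  obtain ⟨x, rfl⟩ := B'.exists_q hgE
  rw [hvE] at h02 h12
  rw [show x = 0 from Prod.ext h02 h12, B'.q_zero]

end Base

end CfsgLib.L34Sylow
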