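import Cfsg.Agent.Lib.L34Sylow.CentZ

/-!
Fusion of the involutions and the balance of the cores.

Blueprint: `blueprint/S3198.md`, section 4.
-/

set_option autoImplicit false
set_option linter.unusedSectionVars false
set_option linter.style.haveILetI false

namespace CfsgLib.L34Sylow

open Subgroup Cfsg

variable {G : Type*} [Group G] [Finite G]

/-- The centraliser of `t` is generated by the core and elements normalising `A`, and nothing odd outside the core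
centralises `A` modulo the core. -/
def Good (A : Subgroup G) (t : G) : Prop :=
  (∀ g ∈ centralizer ({t} : Set G), ∃ o ∈ oddC t, ∃ m ∈ normalizer (A : Set G), g = o * m) ∧
    ∀ g ∈ centralizer ({t} : Set G), Odd (orderOf g) → (∀ e ∈ A, g * e * g⁻¹ * e⁻¹ ∈ oddC t) → g ∈ oddC t

theorem Good.conj {A : Subgroup G} {t : G} (h : Good A t) {n : G} (hn : n ∈ normalizer (A : Set G)) :
    Good A (n * t * n⁻¹) := by
  have back : ∀ {g : G}, g ∈ centralizer ({n * t * n⁻¹} : Set G) → n⁻¹ * g * n ∈ centralizer ({t} : Set G) := by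
    intro g hg
    have := centralizer_conj (g := n⁻¹) hg
    rwa [inv_inv, show n⁻¹ * (n * t * n⁻¹) * n = t by group] at this
  refine ⟨fun g hg => ?_, fun g hg hodd hcomm => ?_⟩
  · obtain ⟨o, ho, m, hm, e⟩ := h.1 _ (back hg)
    refine ⟨n * o * n⁻¹, oddC_conj ho, n * m * n⁻¹, mul_mem (mul_mem hn hm) (inv_mem hn), ?_⟩
    calc g = n * (n⁻¹ * g * n) * n⁻¹ := by group
      _ = _ := by rw [e]; group
  · have h1 : n⁻¹ * g * n ∈ oddC t := by
      refine h.2 _ (back hg) (by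
        rwa [show n⁻¹ * g * n = n⁻¹ * g * n⁻¹⁻¹ by group, Involutions.orderOf_conj]) fun e he => ?_
      have h2 := oddC_conj (g := n⁻¹) (hcomm _ ((Subgroup.mem_normalizer_iff.mp hn e).mp he))
      rw [inv_inv, show n⁻¹ * (n * t * n⁻¹) * n = t by group] at h2
      convert h2 using 1
      group
    have := oddC_conj (g := n) h1
    rwa [show n * (n⁻¹ * g * n) * n⁻¹ = g by group] at this

/-- The cores form a balanced family. -/
theorem balanced_of_good {A : Subgroup G} (hA : IsElementaryAbelian 2 A) (hgood : ∀ b ∈ A, b ≠ 1 → Good A b) :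
    Balanced A := by
  intro a ha ha1 b hb hb1 r hr hrb
  have hcomm : ∀ x ∈ A, ∀ y ∈ A, x * y = y * x := fun x hx y hy =>
    congrArg Subtype.val (hA.1.is_comm.comm ⟨x, hx⟩ ⟨y, hy⟩)
  have hAC : ∀ y ∈ A, ∀ x ∈ A, x ∈ centralizer ({y} : Set G) := fun y hy x hx =>
    Subgroup.mem_centralizer_singleton_iff.mpr (hcomm x hx y hy)
  have hrC : r ∈ centralizer ({b} : Set G) := Subgroup.mem_centralizer_singleton_iff.mpr hrb
  refine (hgood b hb hb1).2 r hrC (odd_order_oddC hr) fun e he => ?_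
  obtain ⟨o, ho, m, hm, rfl⟩ := (hgood b hb hb1).1 r hrC
  set X := o * m * e * (o * m)⁻¹ * e⁻¹ with hX
  obtain ⟨f, hfA, hf⟩ : ∃ f ∈ A, f = m * e * m⁻¹ * e⁻¹ :=
    ⟨_, mul_mem ((Subgroup.mem_normalizer_iff.mp hm e).mp he) (inv_mem he), rfl⟩
  have hX1 : X ∈ oddC a := by
    rw [hX, show o * m * e * (o * m)⁻¹ * e⁻¹ = (o * m) * (e * (o * m)⁻¹ * e⁻¹) by group]
    exact mul_mem hr (oddC_normal (hAC a ha e he) (inv_mem hr))
  -- the image of the commutator modulo the core lies in `A`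
  obtain ⟨o', ho', hXf⟩ : ∃ o' ∈ oddC b, X = o' * f := by
    refine ⟨o * ((m * e * m⁻¹) * o⁻¹ * (m * e * m⁻¹)⁻¹),
      mul_mem ho (oddC_normal (hAC b hb _ ((Subgroup.mem_normalizer_iff.mp hm e).mp he)) (inv_mem ho)), ?_⟩
    rw [hX, hf]
    group
  rw [hXf]
  suffices f = 1 by rw [this, mul_one]; exact ho'
  have hfC : f ∈ centralizer ({b} : Set G) := hAC b hb f hfA
  have hk : ∀ k : ℕ, ∃ o'' ∈ oddC b, X ^ k = o'' * f ^ k := by
    intro k
    induction k with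
    | zero => exact ⟨1, one_mem _, by simp⟩
    | succ k ih =>
      obtain ⟨o'', ho'', e1⟩ := ih
      refine ⟨o'' * (f ^ k * o' * (f ^ k)⁻¹), mul_mem ho'' (oddC_normal (pow_mem hfC k) ho'), ?_⟩
      rw [pow_succ, e1, hXf, pow_succ]
      group
  obtain ⟨o'', ho'', e2⟩ := hk (orderOf X)
  obtain ⟨j, hj⟩ := odd_order_oddC hX1
  rw [pow_orderOf_eq_one, hj, pow_succ, pow_mul, hA.2 f hfA, one_pow, one_mul] at e2
  have hf2 : f ∈ oddC b := by
    rw [show f = o''⁻¹ by rw [← mul_one o''⁻¹, e2, inv_mul_cancel_left]]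
    exact inv_mem ho''
  refine orderOf_eq_one_iff.mp (Nat.eq_one_of_dvd_coprimes (a := 2) ?_ (orderOf_dvd_of_pow_eq_one (hA.2 f hfA))
    (Subgroup.orderOf_dvd_natCard _ hf2))
  exact Nat.coprime_two_left.mpr (odd_oddC b)

namespace Base

variable {F : Type*} [Field F] (B : Base G F)

theorem good₁_Z {z : G} (hz : z ∈ B.Z) (hz1 : z ≠ 1) : Good B.E₁ z := by
  refine ⟨fun g hg => ?_, (B.cent_Z hz hz1).2⟩
  obtain ⟨o, ho, n, hn, -, e⟩ := (B.cent_Z hz hz1).1 g hg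
  exact ⟨o, ho, n, B.normalizer_S_le₁ hn, e⟩

theorem good₂_Z {z : G} (hz : z ∈ B.Z) (hz1 : z ≠ 1) : Good B.E₂ z := by
  rw [← swap_E₁]
  exact B.swap.good₁_Z (B.swap_Z.symm ▸ hz) hz1

theorem good₁_fused (h : B.Fused₁) {e : G} (he : e ∈ B.E₁) (he1 : e ≠ 1) : Good B.E₁ e := by
  obtain ⟨z, hz, hz1⟩ : ∃ z ∈ B.Z, z ≠ 1 := by
    refine (Subgroup.bot_or_exists_ne_one B.Z).resolve_left fun h' => ?_
    have := B.card_Z
    rw [h', Subgroup.card_bot] at this
    omega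
  obtain ⟨n, hn, rfl⟩ := B.transitive₁ h hz hz1 he he1
  exact (B.good₁_Z hz hz1).conj hn

theorem exists_Z_ne : ∃ z ∈ B.Z, z ≠ 1 := by
  refine (Subgroup.bot_or_exists_ne_one B.Z).resolve_left fun h' => ?_
  have := B.card_Z
  rw [h', Subgroup.card_bot] at this
  omega

theorem not_fused_conj (h : ¬ B.Fused₁) {z g : G} (hz : z ∈ B.Z) (hg : g * z * g⁻¹ ∈ B.E₁) : g * z * g⁻¹ ∈ B.Z :=
  by_contra fun hn => h ⟨g, z, hz, hg, hn⟩

/-- An outer involution not fused with the centre has the piece as a maximal two-subgroup of its centraliser. -/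
theorem exists_conj_E₁ (h : ¬ B.Fused₁) {x : G} (hx : x ∈ B.E₁) (hxZ : x ∉ B.Z) {R : Subgroup G}
    (hR : IsPGroup 2 R) (hRC : R ≤ centralizer ({x} : Set G)) :
    ∃ c ∈ centralizer ({x} : Set G), cj c R ≤ B.E₁ := by
  obtain ⟨T, hT, hET, hTC, c, hc, hcT⟩ := exists_conj_into B.isPGroup_E₁
    (fun e he => Subgroup.mem_centralizer_singleton_iff.mpr (B.comm_E₁ he hx)) hR hRC
  refine ⟨c, hc, fun y hy => ?_⟩
  obtain ⟨k, hk⟩ := B.exists_cj_le hT
  have e1 : cj (1 : G) B.E₁ = cj k B.E₁ := B.cj_E₁_eq' (by rw [cj_one]; exact hET.trans hk)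
  rw [cj_one] at e1
  have hkN : k ∈ normalizer (B.E₁ : Set G) := mem_normalizer_of_cj e1.symm
  have hkZ := cj_eq_of_mem (B.normalizer_le_of_not_fused h hkN)
  have hx' : k⁻¹ * x * k ∈ B.E₁ := mem_cj.mp (e1 ▸ hx)
  have hxZ' : k⁻¹ * x * k ∉ B.Z := fun hc' => hxZ (by rw [← hkZ]; exact mem_cj.mpr hc')
  have hyT := hcT hy
  have h3 : k⁻¹ * y * k ∈ B.E₁ := by
    refine B.mem_E₁_of_comm hx' hxZ' (mem_cj.mp (hk hyT)) ?_
    calc k⁻¹ * x * k * (k⁻¹ * y * k) = k⁻¹ * (x * y) * k := by group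
      _ = k⁻¹ * (y * x) * k := by rw [Subgroup.mem_centralizer_singleton_iff.mp (hTC hyT)]
      _ = _ := by group
  rw [e1]
  exact mem_cj.mpr h3

/-- Outer involutions of different pieces are not conjugate when the first is not fused. -/
theorem not_conj_xy (h : ¬ B.Fused₁) {x y : G} (hx : x ∈ B.E₁) (hxZ : x ∉ B.Z) (hy : y ∈ B.E₂) (hyZ : y ∉ B.Z)
    (g : G) : g * x * g⁻¹ ≠ y := by
  intro e
  by_cases h2 : B.Fused₁ ∨ B.swap.Fused₁
  · have h2' := h2.resolve_left h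
    obtain ⟨z, hz, hz1⟩ := B.exists_Z_ne
    obtain ⟨n, -, hne⟩ := B.swap.transitive₁ h2' (B.swap_Z.symm ▸ hz) hz1 (B.swap_E₁.symm ▸ hy)
      (fun e' : y = 1 => hyZ (e' ▸ one_mem _))
    refine hxZ ?_
    have e3 : (g⁻¹ * n) * z * (g⁻¹ * n)⁻¹ = x := by
      calc (g⁻¹ * n) * z * (g⁻¹ * n)⁻¹ = g⁻¹ * (n * z * n⁻¹) * g := by group
        _ = _ := by rw [hne, ← e]; group
    rw [← e3] at hx ⊢
    exact B.not_fused_conj h hz hx
  · have hns : ¬ B.swap.Fused₁ := fun h' => h2 (Or.inr h')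
    obtain ⟨c, hc, hle⟩ := B.swap.exists_conj_E₁ hns (B.swap_E₁.symm ▸ hy) (B.swap_Z.symm ▸ hyZ)
      (R := cj g B.E₁) (B.isPGroup_E₁.map _) (by
        rintro _ ⟨a, ha, rfl⟩
        rw [← e]
        exact centralizer_conj (Subgroup.mem_centralizer_singleton_iff.mpr (B.comm_E₁ ha hx)))
    rw [swap_E₁, cj_mul] at hle
    exact B.not_conj (c * g) (Subgroup.eq_of_le_of_card_ge hle (by rw [card_cj, B.card_E₁, B.card_E₂]))

end Base

end CfsgLib.L34Sylow
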