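import Cfsg.Agent.Lib.L34Sylow.Piece
import Cfsg.Agent.Lib.L34Sylow.Transport
import Cfsg.Agent.Lib.CIT.L34
import Cfsg.Agent.Lib.PSLn.Group
import Cfsg.Agent.Lib.ZStar.Main

/-!
The simple normal subgroup and the embedding of the group in its automorphisms.

Blueprint: `blueprint/S3198.md`, section 4.
-/

set_option autoImplicit false
set_option linter.unusedSectionVars false
set_option linter.style.haveILetI false

namespace CfsgLib.L34Sylow

open Subgroup Cfsg
open scoped MatrixGroups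

universe u

variable {G : Type u} [Group G] [Finite G] {F : Type*} [Field F]

theorem psl3_congr {F K : Type*} [Field F] [Field K] (r : F ≃+* K) :
    Nonempty (Matrix.ProjectiveSpecialLinearGroup (Fin 3) F ≃* Matrix.ProjectiveSpecialLinearGroup (Fin 3) K) := by
  let e : Matrix.SpecialLinearGroup (Fin 3) F ≃* Matrix.SpecialLinearGroup (Fin 3) K :=
    { Matrix.SpecialLinearGroup.map (r : F →+* K) with
      invFun := Matrix.SpecialLinearGroup.map (r.symm : K →+* F)
      left_inv := fun A => Subtype.ext (Matrix.ext fun i j => r.symm_apply_apply _)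
      right_inv := fun A => Subtype.ext (Matrix.ext fun i j => r.apply_symm_apply _) }
  refine ⟨QuotientGroup.congr _ _ e ?_⟩
  ext x
  constructor
  · rintro ⟨a, ha, rfl⟩
    refine Subgroup.mem_center_iff.2 fun b => ?_
    rw [← e.apply_symm_apply b]
    show e _ * e a = e a * e _
    rw [← map_mul, ← map_mul, Subgroup.mem_center_iff.1 ha]
  · exact fun hx => ⟨e.symm x, Subgroup.mem_center_iff.2 fun b => e.injective (by
      rw [map_mul, map_mul, e.apply_symm_apply, Subgroup.mem_center_iff.1 hx]), e.apply_symm_apply x⟩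

/-- The quotient of a group of automorphisms by the inner-diagonal ones has exponent two. -/
theorem sq_mem_diag [Fintype F] (hF : Fintype.card F = 4)
    (φ : MulAut (Matrix.ProjectiveSpecialLinearGroup (Fin 3) F)) :
    φ * φ ∈ (PSLn.diagAut : GL (Fin 3) F →* MulAut (Matrix.ProjectiveSpecialLinearGroup (Fin 3) F)).range := by
  haveI : Fact (Nat.Prime 2) := ⟨Nat.prime_two⟩
  have hF' : Nat.card F = 4 := by rw [Nat.card_eq_fintype_card, hF]
  haveI : CharP F 2 := CharTwo.of_one_ne_zero_of_two_eq_zero one_ne_zero (two_eq_zero hF')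
  have he : ∀ e : RingAut F, e * e = 1 := by
    intro e
    ext x
    show e (e x) = x
    obtain ⟨w, hw0, hw1⟩ := exists_omega hF'
    have hw : e (e w) = w := by
      rcases cases_four hF' hw0 hw1 (e w) with h | h | h | h
      · exact absurd (e.injective (h.trans (map_zero e).symm)) hw0
      · exact absurd (e.injective (h.trans (map_one e).symm)) hw1
      · rw [h, h]
      · rw [h, map_add, map_one, h, add_assoc, add_self hF', add_zero]
    rcases cases_four hF' hw0 hw1 x with h | h | h | h <;> rw [h]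
    · rw [map_zero, map_zero]
    · rw [map_one, map_one]
    · exact hw
    · rw [map_add, map_add, map_one, map_one, hw]
  obtain ⟨g, e, h | h⟩ := PSLn.exists_decomposition 2 le_rfl φ
  all_goals subst h
  · refine ⟨g * (Matrix.GeneralLinearGroup.map (e : F ≃+* F).toRingHom g), ?_⟩
    rw [map_mul, show PSLn.diagAut g * PSLn.fieldAut e * (PSLn.diagAut g * PSLn.fieldAut e) =
      PSLn.diagAut g * (PSLn.fieldAut e * PSLn.diagAut g) * PSLn.fieldAut e by group, PSLn.fieldAut_diag,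
      mul_assoc, mul_assoc, ← map_mul PSLn.fieldAut, he, map_one, mul_one]
  · refine ⟨g * (Matrix.GeneralLinearGroup.map (e : F ≃+* F).toRingHom (PSLn.dualGL g)), ?_⟩
    rw [map_mul, show PSLn.diagAut g * PSLn.fieldAut e * PSLn.graphAut * (PSLn.diagAut g * PSLn.fieldAut e * PSLn.graphAut) =
      PSLn.diagAut g * (PSLn.fieldAut e * (PSLn.graphAut * PSLn.diagAut g)) * (PSLn.fieldAut e * PSLn.graphAut) by group,
      PSLn.graphAut_diag, ← mul_assoc (PSLn.fieldAut e), PSLn.fieldAut_diag]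
    simp only [mul_assoc]
    rw [← mul_assoc PSLn.graphAut (PSLn.fieldAut e), PSLn.graphAut_field, mul_assoc, PSLn.graphAut_mul_self, mul_one,
      ← map_mul PSLn.fieldAut, he, map_one, mul_one]

namespace Base

variable (B : Base G F)

theorem restrict_swap (K : Subgroup G) (hK : (B.S : Subgroup G) ≤ K) :
    (B.restrict K hK).swap = B.swap.restrict K hK := rfl

theorem E_sup {R : Subgroup G} (h1 : B.E₁ ≤ R) (h2 : B.E₂ ≤ R) : (B.S : Subgroup G) ≤ R := by
  intro s hs
  obtain ⟨u, rfl⟩ := B.exists_pt hs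
  have e : u = (⟨u.a, 0, u.c - u.a * u.b⟩ : U F) * ⟨0, u.b, 0⟩ := U.ext (by simp) (by simp) (by simp)
  rw [e, map_mul]
  exact mul_mem (h1 (B.pt_mem_E₁.mpr rfl)) (h2 (B.pt_mem_E₂.mpr rfl))

/-- Fusion descends to a normal subgroup containing the Sylow subgroup. -/
theorem fused₁_restrict (h : B.Fused₁) (K : Subgroup G) [K.Normal] (hK : (B.S : Subgroup G) ≤ K) :
    (B.restrict K hK).Fused₁ := by
  haveI := two_fact
  obtain ⟨g, z, hz, hgE, hgZ⟩ := h
  obtain ⟨n, hn, k, hk, rfl⟩ := Subgroup.mem_sup_of_normal_right.mp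
    ((Sylow.normalizer_sup_eq_top' B.S hK).symm ▸ Subgroup.mem_top g)
  refine ⟨⟨k, hk⟩, ⟨z, hK (B.Z_le hz)⟩, (B.restrict_mem_Z K hK).mpr hz, (B.restrict_mem_E₁ K hK).mpr ?_, fun hc => ?_⟩
  · show k * z * k⁻¹ ∈ B.E₁
    have := (Subgroup.mem_normalizer_iff.mp (inv_mem (B.normalizer_S_le₁ hn)) _).mp hgE
    convert this using 1
    group
  · have hc' : k * z * k⁻¹ ∈ B.Z := (B.restrict_mem_Z K hK).mp hc
    refine hgZ ?_
    have := (Subgroup.mem_normalizer_iff.mp (B.mem_normalizer_Z hn) _).mp hc'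
    convert this using 1
    group

/-- **The simple case.** -/
theorem exists_embedding [Fintype F] (hF : Fintype.card F = 4) (hO : oddCore G = ⊥) (h1 : B.Fused₁)
    (h2 : B.swap.Fused₁) (N : Subgroup G) [N.Normal] (hN : (B.S : Subgroup G) ≤ N)
    (hcent : ∀ z ∈ B.Z, z ≠ 1 → ∀ g ∈ N, g * z = z * g → g ∈ (B.S : Subgroup G)) :
    ∃ f : G →* GL (Fin 3) F ⧸ Subgroup.center (GL (Fin 3) F), Function.Injective f := by
  classical
  haveI := two_fact
  set K := Subgroup.normalClosure ((B.S : Subgroup G) : Set G) with hKdef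
  haveI hKn : K.Normal := Subgroup.normalClosure_normal
  have hSK : (B.S : Subgroup G) ≤ K := fun s hs => Subgroup.subset_normalClosure hs
  have hKN : K ≤ N := Subgroup.normalClosure_le_normal hN
  set B' := B.restrict K hSK with hB'
  have hOK : oddCore K = ⊥ := by
    have h := CfsgLib.ZStar.map_pPrimeCore_le_of_normal K
    rw [show pPrimeCore 2 G = ⊥ from hO, le_bot_iff, Subgroup.map_eq_bot_iff_of_injective _ K.subtype_injective] at h
    exact h
  have hsmall : B'.Small := ⟨hOK, B.fused₁_restrict h1 K hSK, by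
    rw [hB', restrict_swap]; exact B.swap.fused₁_restrict h2 K hSK, fun z hz hz1 g hg =>
      Subgroup.mem_subgroupOf.mpr (hcent z ((B.restrict_mem_Z K hSK).mp hz) (fun e => hz1 (Subtype.ext e)) g (hKN g.2)
        (congrArg Subtype.val hg :))⟩
  have hnorm : ∀ M : Subgroup K, M.Normal → M ≠ ⊥ → M = ⊤ := by
    intro M hM hne
    haveI := hM
    obtain ⟨t, ht⟩ := exists_prime_orderOf_dvd_card' (G := M) 2 (by
      rw [← even_iff_two_dvd, ← Nat.not_odd_iff_even]
      exact fun ho => hne (le_bot_iff.mp (hOK ▸ CfsgLib.le_oddCore ho)))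
    rw [← Subgroup.orderOf_coe] at ht
    obtain ⟨z, hz, hz1⟩ := B'.exists_Z_ne
    have hzM : z ∈ M := by
      obtain ⟨g, hg⟩ := isConj_iff.mp (B'.isConj_of_fused hsmall.h1 hsmall.h2 hz hz1 ht).symm
      exact hg ▸ hM.conj_mem _ t.2 g
    have hinv : ∀ x : K, x * x = 1 → x ∈ M := fun x hx => by
      by_cases hx1 : x = 1
      · rw [hx1]; exact one_mem _
      obtain ⟨g, hg⟩ := isConj_iff.mp (B'.isConj_of_fused hsmall.h1 hsmall.h2 hz hz1 (orderOf_two_of_sq hx hx1))
      exact hg ▸ hM.conj_mem _ hzM g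
    have hS : (B'.S : Subgroup K) ≤ M :=
      B'.E_sup (fun x hx => hinv x (B'.sq_E₁ hx)) fun x hx => hinv x (B'.sq_E₂ hx)
    have hKM : K ≤ M.map K.subtype := by
      refine (Subgroup.closure_le _).mpr fun x hx => ?_
      obtain ⟨s, hs, hc⟩ := Group.mem_conjugatesOfSet_iff.mp hx
      obtain ⟨g, rfl⟩ := isConj_iff.mp hc
      obtain ⟨k, hk, n, hn, rfl⟩ := Subgroup.mem_sup_of_normal_left.mp
        ((sup_comm (normalizer ((B.S : Subgroup G) : Set G)) K).symm.trans (Sylow.normalizer_sup_eq_top' B.S hSK) |>.symm ▸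
          Subgroup.mem_top g)
      have hns : n * s * n⁻¹ ∈ (B.S : Subgroup G) := (Subgroup.mem_normalizer_iff.mp hn s).mp hs
      refine ⟨⟨k, hk⟩ * ⟨n * s * n⁻¹, hSK hns⟩ * ⟨k, hk⟩⁻¹, hM.conj_mem _ (hS (Subgroup.mem_subgroupOf.mpr hns)) _, ?_⟩
      show k * (n * s * n⁻¹) * k⁻¹ = k * n * s * (k * n)⁻¹
      group
    refine eq_top_iff.mpr fun x _ => ?_
    obtain ⟨y, hy, e⟩ := hKM x.2
    exact (Subtype.ext e : y = x) ▸ hy
  haveI : Nontrivial K := by
    obtain ⟨z, hz, hz1⟩ := B.exists_Z_ne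
    exact ⟨⟨⟨z, hSK (B.Z_le hz)⟩, 1, fun e => hz1 (congrArg Subtype.val e)⟩⟩
  haveI : IsSimpleGroup K := ⟨fun M hM => or_iff_not_imp_left.mpr (hnorm M hM)⟩
  obtain ⟨F₀, _, _, hF₀, ⟨e₀⟩⟩ := CIT.Pair4.l34 hsmall.pair
  obtain ⟨e₁⟩ := psl3_congr (FiniteField.ringEquivOfCardEq (K := F₀) (K' := F) (hF₀.trans hF.symm))
  let e := e₀.trans e₁
  -- the centraliser of the simple subgroup is trivial
  have hCK : ∀ x : G, (∀ k ∈ K, x * k = k * x) → x = 1 := by
    intro x hx
    obtain ⟨z, hz, hz1⟩ := B.exists_Z_ne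
    have hN' := B.mem_normalizer_of_comm hO h1 h2 hz hz1 (hx z (hSK (B.Z_le hz)))
    have hA : B.Acts x 1 1 := ⟨one_ne_zero, one_ne_zero, fun u =>
      ⟨u, by rw [hx _ (hSK (B.pt_mem u)), mul_inv_cancel_right], by simp, by simp⟩⟩
    have hxS := B.mem_S_of_acts_one hO h1 h2 hN' hA
    have hc : (⟨x, hSK hxS⟩ : K) ∈ Subgroup.center K :=
      Subgroup.mem_center_iff.mpr fun k => Subtype.ext (hx k k.2).symm
    rcases (Subgroup.center K).normal_of_characteristic.eq_bot_or_eq_top with h | h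
    · rw [h, Subgroup.mem_bot] at hc
      exact congrArg Subtype.val hc
    · exfalso
      obtain ⟨w, hw, hw1⟩ : ∃ w : F, w ≠ 0 ∧ True := ⟨1, one_ne_zero, trivial⟩
      have h' := Subgroup.mem_center_iff.mp (h.symm ▸ Subgroup.mem_top (⟨B.pt ⟨1, 0, 0⟩, hSK (B.pt_mem _)⟩ : K) :
        (⟨B.pt ⟨1, 0, 0⟩, hSK (B.pt_mem _)⟩ : K) ∈ Subgroup.center K) ⟨B.pt ⟨0, 1, 0⟩, hSK (B.pt_mem _)⟩
      have h'' : B.pt ⟨0, 1, 0⟩ * B.pt ⟨1, 0, 0⟩ = B.pt ⟨1, 0, 0⟩ * B.pt ⟨0, 1, 0⟩ := congrArg Subtype.val h'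
      rw [← map_mul, ← map_mul] at h''
      simpa using congrArg U.c (B.pt_injective h'')
  let ψ : G →* MulAut (Matrix.ProjectiveSpecialLinearGroup (Fin 3) F) :=
    (MulAut.congr e).toMonoidHom.comp MulAut.conjNormal
  have hψ : Function.Injective ψ := by
    refine (injective_iff_map_eq_one ψ).mpr fun x hx => hCK x fun k hk => ?_
    have h' : (MulAut.conjNormal x : MulAut K) = 1 := (MulAut.congr e).injective (hx.trans (map_one _).symm)
    have h'' := congrArg (fun φ : MulAut K => ((φ ⟨k, hk⟩ : K) : G)) h'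
    simp only [MulAut.conjNormal_apply, MulAut.one_apply] at h''
    exact mul_inv_eq_iff_eq_mul.mp h''
  haveI : CharP F 2 :=
    CharTwo.of_one_ne_zero_of_two_eq_zero one_ne_zero (two_eq_zero (by rw [Nat.card_eq_fintype_card, hF]))
  set D := (PSLn.diagAut : GL (Fin 3) F →* MulAut (Matrix.ProjectiveSpecialLinearGroup (Fin 3) F)).range
  haveI : D.Normal := PSLn.diagAut_range_normal 2 (by norm_num)
  have hK : ∀ k ∈ K, ψ k ∈ D := by
    intro k hk
    obtain ⟨A, hA⟩ := QuotientGroup.mk'_surjective _ (e ⟨k, hk⟩)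
    refine ⟨Matrix.SpecialLinearGroup.toGL A, ?_⟩
    rw [PSLn.diagAut_toGL]
    refine MulEquiv.ext fun y => ?_
    show _ * y * _⁻¹ = e (MulAut.conjNormal k (e.symm y))
    rw [show (MulAut.conjNormal k (e.symm y) : K) = ⟨k, hk⟩ * e.symm y * ⟨k, hk⟩⁻¹ from
      Subtype.ext (by simp [MulAut.conjNormal_apply]), map_mul, map_mul, map_inv, e.apply_symm_apply, ← hA]
  have hidx : Odd K.index := by
    refine (Nat.not_even_iff_odd.mp ?_)
    rw [even_iff_two_dvd]
    exact fun h => B.S.not_dvd_index (h.trans (Subgroup.index_dvd_of_le hSK))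
  have hD : ∀ g, ψ g ∈ D := by
    intro g
    obtain ⟨i, hi⟩ := hidx
    have h1' : ψ g ^ K.index ∈ D := by rw [← map_pow]; exact hK _ (Subgroup.pow_index_mem K g)
    have h2' : (ψ g ^ 2) ^ i ∈ D := pow_mem (by rw [pow_two]; exact sq_mem_diag hF (ψ g)) i
    rw [← pow_mul] at h2'
    rw [hi, pow_succ] at h1'
    exact (D.mul_mem_cancel_left h2').mp h1'
  let f₁ : G →* D := ψ.codRestrict D hD
  let iso : GL (Fin 3) F ⧸ Subgroup.center (GL (Fin 3) F) ≃* D :=
    (QuotientGroup.quotientMulEquivOfEq (PSLn.ker_diagAut (by norm_num)).symm).trans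
      (QuotientGroup.quotientKerEquivRange _)
  exact ⟨iso.symm.toMonoidHom.comp f₁, iso.symm.injective.comp fun a b h => hψ (congrArg Subtype.val h)⟩

end Base

end CfsgLib.L34Sylow
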