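import Cfsg.Agent.Lib.L34Sylow.ThreePack
import Cfsg.Agent.Lib.Transfer

/-!
The normal subgroup of index three.

Blueprint: `blueprint/S3198.md`, section 5.
-/

set_option autoImplicit false
set_option linter.unusedSectionVars false
set_option linter.style.haveILetI false

namespace CfsgLib.L34Sylow

open Subgroup Cfsg
open scoped commutatorElement

universe u

variable {G : Type u} [Group G] [Finite G] {F : Type*} [Field F]

namespace Base

namespace Frame

namespace Pack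

variable {B : Base G F} {P : B.Frame} (K : P.Pack)

theorem e_mem : P.e ∈ K.PP := K.T_le P.e_mem

theorem d_mem : P.d ∈ K.PP := K.T_le P.d_mem

theorem comm_e {x : G} (hx : x ∈ K.PP) : x * P.e = P.e * x :=
  Subgroup.mem_centralizer_singleton_iff.mp (K.le_cent hx)

theorem conj_mem_A {x a : G} (hx : x ∈ K.PP) (ha : a ∈ K.A) : x * a * x⁻¹ ∈ K.A := by
  have h := K.fusion a (K.A_le ha) x (K.comm_e hx) (mul_mem (mul_mem hx (K.A_le ha)) (inv_mem hx))
  simpa using mul_mem h ha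

theorem u₀_shift {x : G} (hx : x ∈ K.PP) : P.u₀ * x * P.u₀⁻¹ * x⁻¹ ∈ K.A := by
  obtain ⟨i, hi⟩ := K.dec x hx
  set a := x * (P.d ^ i)⁻¹ with ha
  have hx' : x = a * P.d ^ i := by rw [ha, inv_mul_cancel_right]
  have hd : P.u₀ * P.d ^ i * P.u₀⁻¹ = P.d ^ i := by
    rw [← MulAut.conj_apply, map_pow, MulAut.conj_apply, P.u₀_d]
  rw [hx', show P.u₀ * (a * P.d ^ i) * P.u₀⁻¹ * (a * P.d ^ i)⁻¹ =
    (P.u₀ * a * P.u₀⁻¹) * (P.u₀ * P.d ^ i * P.u₀⁻¹) * (P.d ^ i)⁻¹ * a⁻¹ by group, hd, K.inverts a hi,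
    mul_inv_cancel_right]
  exact mul_mem (inv_mem hi) (inv_mem hi)

theorem odd_order {x : G} (hx : x ∈ K.PP) : Odd (orderOf x) := by
  haveI : Fact (Nat.Prime 3) := ⟨Nat.prime_three⟩
  obtain ⟨k, hk⟩ := IsPGroup.iff_card.mp K.isP
  exact (show Odd (3 ^ k) from (show Odd 3 by decide).pow).of_dvd_nat (hk ▸ Subgroup.orderOf_dvd_natCard _ hx)

theorem mem_A_of_inv_sq {x : G} (hx : x ∈ K.PP) (h : x⁻¹ * x⁻¹ ∈ K.A) : x ∈ K.A := by
  refine (zpowers_le.mpr ?_) (mem_zpowers_sq (K.odd_order hx))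
  have := inv_mem h
  rwa [mul_inv_rev, inv_inv, ← pow_two] at this

/-- The fixed-point-free element lies in the abelian subgroup. -/
theorem e_mem_A : P.e ∈ K.A := by
  refine K.mem_A_of_inv_sq K.e_mem ?_
  have h := K.u₀_shift K.e_mem
  rwa [P.u₀_e] at h

theorem cent_d {a : G} (ha : a ∈ K.A) (h : a * P.d = P.d * a) : a ∈ zpowers P.e := by
  obtain ⟨i, j, e⟩ := P.exists_coord (P.mem_T_of_comm h (K.comm_e (K.A_le ha)))
  have hdi : P.d ^ i ∈ K.A := by
    have := mul_mem ha (inv_mem (pow_mem K.e_mem_A j))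
    rwa [e, mul_inv_cancel_right] at this
  rcases (by omega : i % 3 = 0 ∨ i % 3 = 1 ∨ i % 3 = 2) with hi | hi | hi
  · rw [e, P.d_pow_eq.mpr hi, one_mul]
    exact Subgroup.npow_mem_zpowers _ j
  all_goals
    rw [← pow_mod_orderOf P.d i, P.orderOf_d, hi] at hdi
  · exact absurd (by simpa using hdi) K.d_not
  · refine absurd ?_ K.d_not
    have := mul_mem hdi hdi
    rwa [← pow_add, pow_succ, P.d_pow_eq.mpr rfl, one_mul] at this

theorem cube_mem {x : G} (hx : x ∈ K.PP) : x ^ 3 ∈ K.A := by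
  obtain ⟨i, hi⟩ := K.dec x hx
  set a := x * (P.d ^ i)⁻¹ with ha
  have hx' : x = a * P.d ^ i := by rw [ha, inv_mul_cancel_right]
  have hd := pow_mem K.d_mem i
  have h3 : (P.d ^ i) ^ 3 = 1 := by rw [← pow_mul]; exact P.d_pow_eq.mpr (by omega)
  rw [hx', show (a * P.d ^ i) ^ 3 = a * (P.d ^ i * a * (P.d ^ i)⁻¹) *
      (P.d ^ i * P.d ^ i * a * (P.d ^ i * P.d ^ i)⁻¹) * ((P.d ^ i) ^ 3) by
    rw [pow_three, pow_three]; group, h3, mul_one]
  exact mul_mem (mul_mem hi (K.conj_mem_A hd hi)) (K.conj_mem_A (mul_mem hd hd) hi)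

theorem cent_outer {x a : G} (hx : x ∈ K.PP) (hxA : x ∉ K.A) (ha : a ∈ K.A) (hax : a * x = x * a) :
    a ∈ zpowers P.e := by
  obtain ⟨i, hi⟩ := K.dec x hx
  refine K.cent_d ha ?_
  have hc : a * (x * (P.d ^ i)⁻¹) = x * (P.d ^ i)⁻¹ * a := K.comm a ha _ hi
  have h1 : Commute a (P.d ^ i) := by
    have h2 : Commute a ((x * (P.d ^ i)⁻¹)⁻¹ * x) := (Commute.inv_right hc).mul_right hax
    rwa [mul_inv_rev, inv_inv, inv_mul_cancel_right] at h2
  have hne : ¬ i % 3 = 0 := fun h0 => hxA (by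
    rw [P.d_pow_eq.mpr h0, inv_one, mul_one] at hi; exact hi)
  have h2 := h1.pow_right i
  rw [← pow_mul, ← pow_mod_orderOf P.d, P.orderOf_d, Nat.mul_mod] at h2
  rcases (by omega : i % 3 = 1 ∨ i % 3 = 2) with h | h <;> rw [h] at h2 <;> simpa using h2.eq

/-- The centraliser in the Sylow subgroup of an outer element has at most nine elements. -/
theorem card_cent_le {x : G} (hx : x ∈ K.PP) (hxA : x ∉ K.A) :
    Nat.card (K.PP ⊓ centralizer ({x} : Set G) : Subgroup G) ≤ 9 := by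
  set M := (K.PP ⊓ centralizer ({x} : Set G) : Subgroup G)
  have hxM : x ∈ M := Subgroup.mem_inf.mpr ⟨hx, Subgroup.mem_centralizer_singleton_iff.mpr rfl⟩
  have heM : P.e ∈ M := Subgroup.mem_inf.mpr ⟨K.e_mem, Subgroup.mem_centralizer_singleton_iff.mpr (K.comm_e hx).symm⟩
  obtain ⟨i, hi⟩ := K.dec x hx
  have hi0 : ¬ i % 3 = 0 := fun h0 => hxA (by
    rw [P.d_pow_eq.mpr h0, inv_one, mul_one] at hi; exact hi)
  -- powers of `x` modulo `A`
  have hpow : ∀ k : ℕ, x ^ k * (P.d ^ (i * k))⁻¹ ∈ K.A := by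
    intro k
    induction k with
    | zero => simp
    | succ k ih =>
      have := mul_mem (K.conj_mem_A hx ih) hi
      convert this using 1
      rw [pow_succ', mul_add, mul_one, pow_add]
      group
  rw [show 9 = Nat.card (Fin 3 × zpowers P.e) by
    rw [Nat.card_prod, Nat.card_fin, Nat.card_zpowers, P.orderOf_e]]
  refine Nat.card_le_card_of_surjective
    (fun p => ⟨(p.2 : G) * x ^ (p.1 : ℕ), mul_mem (zpowers_le.mpr heM p.2.2) (pow_mem hxM _)⟩) fun y => ?_
  obtain ⟨j, hj⟩ := K.dec y y.2.1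
  set k := i * j
  have hka : (y : G) * (x ^ k)⁻¹ ∈ K.A := by
    have hdd : P.d ^ (i * k) = P.d ^ j := by
      rw [← pow_mod_orderOf P.d (i * k), ← pow_mod_orderOf P.d j, P.orderOf_d, show i * k = i * i * j by ring,
        Nat.mul_mod, Nat.mul_mod i i]
      rcases (by omega : i % 3 = 1 ∨ i % 3 = 2) with h | h <;> simp [h]
    have h := mul_mem hj (inv_mem (hpow k))
    rw [hdd] at h
    convert h using 1
    group
  have hxy : Commute (y : G) x := Subgroup.mem_centralizer_singleton_iff.mp y.2.2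
  obtain ⟨b, hb⟩ := K.cent_outer hx hxA hka
    ((hxy.mul_left ((Commute.refl x).pow_left k).inv_left : Commute ((y : G) * (x ^ k)⁻¹) x)).eq
  have hx3 : x ^ 3 ∈ zpowers P.e := K.cent_outer hx hxA (K.cube_mem hx) ((Commute.refl x).pow_left 3).eq
  refine ⟨(⟨k % 3, Nat.mod_lt _ (by norm_num)⟩, ⟨P.e ^ b * (x ^ 3) ^ (k / 3),
    mul_mem (Subgroup.zpow_mem _ (mem_zpowers _) b) (pow_mem hx3 _)⟩), Subtype.ext ?_⟩
  show P.e ^ b * (x ^ 3) ^ (k / 3) * x ^ (k % 3) = y
  rw [mul_assoc, ← pow_mul, ← pow_add, Nat.div_add_mod, show P.e ^ b = (y : G) * (x ^ k)⁻¹ from hb,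
    inv_mul_cancel_right]

/-- A three-group centralising `e` and an outer element has at most nine elements. -/
theorem three_le {x : G} (hx : x ∈ K.PP) (hxA : x ∉ K.A) {R : Subgroup G} (hR : IsPGroup 3 R)
    (hRe : R ≤ centralizer ({P.e} : Set G)) (hRx : R ≤ centralizer ({x} : Set G)) : Nat.card R ≤ 9 := by
  haveI : Fact (Nat.Prime 3) := ⟨Nat.prime_three⟩
  set R' := R ⊔ zpowers x
  have hR' : IsPGroup 3 R' := by
    refine IsPGroup.to_sup_of_normal_right' hR (K.isP.to_le (zpowers_le.mpr hx)) fun r hr =>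
      mem_normalizer_of_forall fun z hz => ?_
    obtain ⟨k, rfl⟩ := hz
    rw [(Commute.zpow_right (Subgroup.mem_centralizer_singleton_iff.mp (hRx hr) : Commute r x) k).eq,
      mul_inv_cancel_right]
    exact Subgroup.zpow_mem _ (mem_zpowers _) k
  obtain ⟨y, hy, hle⟩ := K.sylow R' hR' (sup_le hRe (zpowers_le.mpr (K.le_cent hx)))
  have hx' : y * x * y⁻¹ ∈ K.PP := hle (conj_mem_cj (Subgroup.mem_sup_right (mem_zpowers x)))
  have hx'A : y * x * y⁻¹ ∉ K.A := fun h => hxA (by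
    have := mul_mem (inv_mem (K.fusion x hx y hy hx')) h
    simpa [mul_assoc] using this)
  rw [← card_cj y R]
  refine (Subgroup.card_le_of_le ?_).trans (K.card_cent_le hx' hx'A)
  exact le_inf ((Subgroup.map_mono le_sup_left).trans hle) (cj_mem_centralizer hRx)

theorem card_pow {R : Subgroup G} (hR : R ≤ K.PP) : ∃ k, Nat.card R = 3 ^ k := by
  haveI : Fact (Nat.Prime 3) := ⟨Nat.prime_three⟩
  exact IsPGroup.iff_card.mp (K.isP.to_le hR)

/-- The centraliser of an outer element in the Sylow subgroup has order nine. -/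
theorem card_cent {x : G} (hx : x ∈ K.PP) (hxA : x ∉ K.A) :
    Nat.card (K.PP ⊓ centralizer ({x} : Set G) : Subgroup G) = 9 := by
  set M := (K.PP ⊓ centralizer ({x} : Set G) : Subgroup G)
  have hxM : x ∈ M := Subgroup.mem_inf.mpr ⟨hx, Subgroup.mem_centralizer_singleton_iff.mpr rfl⟩
  have heM : P.e ∈ M := Subgroup.mem_inf.mpr ⟨K.e_mem, Subgroup.mem_centralizer_singleton_iff.mpr (K.comm_e hx).symm⟩
  have h9 := K.card_cent_le hx hxA
  obtain ⟨k, hk⟩ := K.card_pow (inf_le_left : M ≤ K.PP)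
  rw [hk] at h9 ⊢
  have hk2 : k ≤ 2 := by
    by_contra h
    have : 3 ^ 3 ≤ 3 ^ k := Nat.pow_le_pow_right (by norm_num) (by omega)
    omega
  have h3 : 3 ∣ 3 ^ k := hk ▸ P.orderOf_e ▸ Subgroup.orderOf_dvd_natCard _ heM
  interval_cases k
  · norm_num at h3
  · exfalso
    have hle : zpowers P.e ≤ M := zpowers_le.mpr heM
    have heq := Subgroup.eq_of_le_of_card_ge hle (by rw [Nat.card_zpowers, P.orderOf_e, hk, pow_one])
    have hxe : x ∈ zpowers P.e := heq.symm ▸ hxM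
    exact hxA ((zpowers_le.mpr K.e_mem_A) hxe)
  · norm_num

/-- An element normalising a small subgroup without centralising it shifts. -/
theorem exists_normalising {R S' : Subgroup G} (hR : IsPGroup 3 S') (hRS : R ≤ S') (hne : R ≠ S') :
    ∃ r ∈ S', r ∉ R ∧ r ∈ normalizer (R : Set G) := by
  haveI : Fact (Nat.Prime 3) := ⟨Nat.prime_three⟩
  haveI := hR.isNilpotent
  have hlt : R.subgroupOf S' < ⊤ := lt_of_le_of_ne le_top fun e =>
    hne (le_antisymm hRS (Subgroup.subgroupOf_eq_top.mp e))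
  obtain ⟨r, hrN, hr⟩ := SetLike.exists_of_lt (Group.normalizerCondition_of_isNilpotent _ hlt)
  refine ⟨r, r.2, hr, mem_normalizer_of_forall fun z hz => ?_⟩
  exact (Subgroup.mem_normalizer_iff.mp hrN ⟨z, hRS hz⟩).mp hz

/-- An element conjugate to `e` is not outer. -/
theorem not_conj {f g : G} (hf : f ∈ K.PP) (hfA : f ∉ K.A) : g * P.e * g⁻¹ ≠ f := by
  haveI : Fact (Nat.Prime 3) := ⟨Nat.prime_three⟩
  intro hg
  have hf3 : f ^ 3 = 1 := by rw [← hg, ← MulAut.conj_apply, ← map_pow, P.e_pow_eq.mpr rfl, map_one]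
  have hef : Commute P.e f := (K.comm_e hf).symm
  set T' := (K.PP ⊓ centralizer ({f} : Set G) : Subgroup G) with hT'
  have hT9 := K.card_cent hf hfA
  have hfT : f ∈ T' := Subgroup.mem_inf.mpr ⟨hf, Subgroup.mem_centralizer_singleton_iff.mpr rfl⟩
  have heT : P.e ∈ T' := Subgroup.mem_inf.mpr ⟨K.e_mem, Subgroup.mem_centralizer_singleton_iff.mpr hef.eq⟩
  have hdis : ∀ a ∈ zpowers f, a ∈ zpowers P.e → a = 1 := by
    intro a ha hb
    by_contra ha1
    refine hfA ?_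
    have hle : zpowers a ≤ zpowers f := zpowers_le.mpr ha
    have hof : orderOf f ∣ 3 := orderOf_dvd_of_pow_eq_one hf3
    have hc : Nat.card (zpowers f) ≤ Nat.card (zpowers a) := by
      have h1 : orderOf a ∣ 3 := (Nat.card_zpowers a ▸ Nat.card_zpowers f ▸ Subgroup.card_dvd_of_le hle).trans hof
      rw [Nat.card_zpowers, Nat.card_zpowers]
      rcases (Nat.dvd_prime Nat.prime_three).mp h1 with h | h
      · exact absurd (orderOf_eq_one_iff.mp h) ha1
      · rw [h]; exact Nat.le_of_dvd (by norm_num) hof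
    have := Subgroup.eq_of_le_of_card_ge hle hc
    exact (zpowers_le.mpr ((zpowers_le.mpr K.e_mem_A) hb)) (this.symm ▸ mem_zpowers f)
  have hf1 : f ≠ 1 := fun h => hfA (h ▸ one_mem _)
  have hof : orderOf f = 3 := orderOf_eq_prime hf3 hf1
  have hspan : ∀ y ∈ T', ∃ i j : ℕ, y = f ^ i * P.e ^ j := by
    have hinj : Function.Injective fun p : zpowers f × zpowers P.e =>
        (⟨(p.1 : G) * p.2, mul_mem (zpowers_le.mpr hfT p.1.2) (zpowers_le.mpr heT p.2.2)⟩ : T') := by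
      intro p q h
      exact Subgroup.mul_injective_of_disjoint (Subgroup.disjoint_def.mpr fun {a} => hdis a)
        (congrArg (fun x : T' => (x : G)) h)
    intro y hy
    obtain ⟨⟨⟨a, ha⟩, ⟨b, hb⟩⟩, hab⟩ := (hinj.bijective_of_nat_card_le (by
      rw [Nat.card_prod, Nat.card_zpowers, Nat.card_zpowers, hof, P.orderOf_e, hT9])).2 ⟨y, hy⟩
    obtain ⟨i, rfl⟩ := (Submonoid.mem_powers_iff _ _).mp (mem_powers_iff_mem_zpowers.mpr ha)
    obtain ⟨j, rfl⟩ := (Submonoid.mem_powers_iff _ _).mp (mem_powers_iff_mem_zpowers.mpr hb)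
    exact ⟨i, j, (congrArg (fun x : T' => (x : G)) hab).symm⟩
  have hfpow : ∀ i : ℕ, f ^ i = 1 ↔ i % 3 = 0 := fun i => by
    rw [← orderOf_dvd_iff_pow_eq_one, hof, Nat.dvd_iff_mod_eq_zero]
  -- a transvection fixing `e`
  obtain ⟨p, hpe, hpf⟩ : ∃ p, p * P.e * p⁻¹ = P.e ∧ p * f * p⁻¹ = f * P.e := by
    have hne : T' ≠ K.PP := fun e => by
      have := K.big
      rw [← e, hT9] at this
      omega
    obtain ⟨r, hr, hrT, hrN⟩ := exists_normalising K.isP inf_le_left hne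
    obtain ⟨i, j, hij⟩ := hspan _ ((Subgroup.mem_normalizer_iff.mp hrN f).mp hfT)
    have hre : r * P.e * r⁻¹ = P.e := mul_inv_eq_iff_eq_mul.mpr (K.comm_e hr)
    have hA := K.fusion f hf r (K.comm_e hr) (mul_mem (mul_mem hr hf) (inv_mem hr))
    rw [hij, show f ^ i * P.e ^ j * f⁻¹ = f ^ i * f⁻¹ * P.e ^ j by
      rw [mul_assoc, ((hef.pow_left j).inv_right).eq, mul_assoc]] at hA
    have hA' : f ^ i * f⁻¹ ∈ K.A := by
      simpa using mul_mem hA (inv_mem (pow_mem K.e_mem_A j))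
    have hi : i % 3 = 1 := by
      rcases (by omega : i % 3 = 0 ∨ i % 3 = 1 ∨ i % 3 = 2) with h | h | h
      · rw [(hfpow i).mpr h, one_mul, inv_mem_iff] at hA'
        exact absurd hA' hfA
      · exact h
      · rw [← pow_mod_orderOf f i, hof, h, pow_two, mul_inv_cancel_right] at hA'
        exact absurd hA' hfA
    rw [← pow_mod_orderOf f i, hof, hi, pow_one] at hij
    rw [← pow_mod_orderOf P.e j, P.orderOf_e] at hij
    rcases (by omega : j % 3 = 0 ∨ j % 3 = 1 ∨ j % 3 = 2) with h | h | h <;> rw [h] at hij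
    · refine absurd ?_ hrT
      rw [pow_zero, mul_one] at hij
      exact Subgroup.mem_inf.mpr ⟨hr, Subgroup.mem_centralizer_singleton_iff.mpr (mul_inv_eq_iff_eq_mul.mp hij)⟩
    · exact ⟨r, hre, by rw [hij, pow_one]⟩
    · refine ⟨r * r, by rw [show r * r * P.e * (r * r)⁻¹ = r * (r * P.e * r⁻¹) * r⁻¹ by group, hre, hre], ?_⟩
      calc r * r * f * (r * r)⁻¹ = r * (r * f * r⁻¹) * r⁻¹ := by group
        _ = r * (f * P.e ^ 2) * r⁻¹ := by rw [hij]
        _ = (r * f * r⁻¹) * (r * P.e * r⁻¹) ^ 2 := by rw [pow_two, pow_two]; group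
        _ = f * P.e ^ 4 := by rw [hij, hre]; group
        _ = f * P.e := by rw [pow_succ, P.e_pow_eq.mpr rfl, one_mul]
  -- a transvection fixing `f`
  obtain ⟨q, hqf, hqe⟩ : ∃ q, q * f * q⁻¹ = f ∧ q * P.e * q⁻¹ = P.e * f := by
    have hgf : cj g⁻¹ T' ≤ centralizer ({P.e} : Set G) := by
      have h := cj_mem_centralizer (g := g⁻¹) (inf_le_right : T' ≤ centralizer ({f} : Set G))
      rwa [show g⁻¹ * f * g⁻¹⁻¹ = P.e by rw [← hg]; group] at h
    obtain ⟨y, hy, hyle⟩ := K.sylow (cj g⁻¹ T') ((K.isP.to_le inf_le_left).map _) hgf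
    rw [cj_mul] at hyle
    set h := y * g⁻¹ with hh
    have hhf : h * f * h⁻¹ = P.e := by
      rw [hh, ← hg]
      calc y * g⁻¹ * (g * P.e * g⁻¹) * (y * g⁻¹)⁻¹ = y * P.e * y⁻¹ := by group
        _ = P.e := by rw [hy, mul_inv_cancel_right]
    have hne : cj h T' ≠ K.PP := fun e => by
      have := K.big
      rw [← e, card_cj, hT9] at this
      omega
    obtain ⟨r₀, hr₀, hr₀T, hr₀N⟩ := exists_normalising K.isP hyle hne
    set r := h⁻¹ * r₀ * h with hr
    have hrf : r * f * r⁻¹ = f := by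
      calc r * f * r⁻¹ = h⁻¹ * (r₀ * (h * f * h⁻¹) * r₀⁻¹) * h := by rw [hr]; group
        _ = h⁻¹ * (h * f * h⁻¹) * h := by rw [hhf, mul_inv_eq_iff_eq_mul.mpr (K.comm_e hr₀)]
        _ = f := by group
    obtain ⟨i, j, hij⟩ : ∃ i j : ℕ, r * P.e * r⁻¹ = P.e ^ i * f ^ j := by
      have hm := (Subgroup.mem_normalizer_iff.mp hr₀N _).mp (conj_mem_cj (g := h) heT)
      obtain ⟨j, i, e⟩ := hspan _ (mem_cj.mp hm)
      refine ⟨i, j, ?_⟩
      rw [← ((hef.pow_pow i j)).symm.eq, ← e, hr]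
      group
    have hrodd : Odd (orderOf r) := by
      rw [hr, show h⁻¹ * r₀ * h = h⁻¹ * r₀ * h⁻¹⁻¹ by group, Involutions.orderOf_conj]
      exact K.odd_order hr₀
    have hi : i % 3 = 1 := by
      rcases (by omega : i % 3 = 0 ∨ i % 3 = 1 ∨ i % 3 = 2) with h0 | h0 | h0
      · exfalso
        rw [P.e_pow_eq.mpr h0, one_mul] at hij
        have h1 : r⁻¹ * f ^ j * r = f ^ j := by
          have hc : Commute r f := mul_inv_eq_iff_eq_mul.mp hrf
          rw [mul_assoc, ← (hc.pow_right j).eq, inv_mul_cancel_left]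
        have h2 : P.e = f ^ j := by rw [← h1, ← hij]; group
        have := hdis _ (Subgroup.npow_mem_zpowers f j) (h2 ▸ mem_zpowers _)
        rw [this] at h2
        have h3 := P.orderOf_e
        rw [h2, orderOf_one] at h3
        omega
      · exact h0
      · exfalso
        rw [← pow_mod_orderOf P.e i, P.orderOf_e, h0] at hij
        have h2 : r ^ 2 * P.e * (r ^ 2)⁻¹ = P.e := by
          calc r ^ 2 * P.e * (r ^ 2)⁻¹ = r * (r * P.e * r⁻¹) * r⁻¹ := by rw [pow_two]; group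
            _ = (r * P.e * r⁻¹) ^ 2 * (r * f * r⁻¹) ^ j := by
              rw [hij, ← MulAut.conj_apply, map_mul, map_pow, map_pow, MulAut.conj_apply, MulAut.conj_apply, hij]
            _ = P.e ^ 2 * f ^ j * (P.e ^ 2 * f ^ j) * f ^ j := by rw [hij, hrf, pow_two (P.e ^ 2 * f ^ j)]
            _ = (P.e ^ 2 * P.e ^ 2) * (f ^ j * f ^ j * f ^ j) := by
              rw [show P.e ^ 2 * f ^ j * (P.e ^ 2 * f ^ j) = P.e ^ 2 * (f ^ j * P.e ^ 2) * f ^ j by group,
                ← (hef.pow_pow 2 j).eq]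
              group
            _ = P.e := by
              rw [← pow_add, pow_succ P.e 3, P.e_pow_eq.mpr rfl, one_mul, ← pow_add, ← pow_add,
                (hfpow _).mpr (by omega), mul_one]
        have hc : Commute r P.e := by
          have : r ∈ centralizer ({P.e} : Set G) := (zpowers_le.mpr (Subgroup.mem_centralizer_singleton_iff.mpr
            (mul_inv_eq_iff_eq_mul.mp h2))) (mem_zpowers_sq hrodd)
          exact Subgroup.mem_centralizer_singleton_iff.mp this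
        have he' : P.e ^ 2 * f ^ j = P.e := by rw [← hij, hc.eq, mul_inv_cancel_right]
        have h3 : P.e * f ^ j = 1 := mul_left_cancel (a := P.e) (by rw [← mul_assoc, ← pow_two, he', mul_one])
        have h4 : P.e = (f ^ j)⁻¹ := eq_inv_of_mul_eq_one_left h3
        have := hdis _ (inv_mem (Subgroup.npow_mem_zpowers f j)) (h4 ▸ mem_zpowers _)
        rw [this] at h4
        have h5 := P.orderOf_e
        rw [h4, orderOf_one] at h5
        omega
    rw [← pow_mod_orderOf P.e i, P.orderOf_e, hi, pow_one, ← pow_mod_orderOf f j, hof] at hij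
    rcases (by omega : j % 3 = 0 ∨ j % 3 = 1 ∨ j % 3 = 2) with h0 | h0 | h0 <;> rw [h0] at hij
    · exfalso
      rw [pow_zero, mul_one] at hij
      set R := zpowers r₀ ⊔ cj h T' with hRdef
      have hR3 : IsPGroup 3 R := K.isP.to_le (sup_le (zpowers_le.mpr hr₀) hyle)
      have hgen : ∀ x ∈ T', r * x * r⁻¹ = x := by
        intro x hx
        obtain ⟨a, b, rfl⟩ := hspan x hx
        rw [← MulAut.conj_apply, map_mul, map_pow, map_pow, MulAut.conj_apply, MulAut.conj_apply, hrf, hij]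
      have hTle : ∀ x ∈ T', x * P.e = P.e * x := fun x hx => K.comm_e hx.1
      set R' := cj h⁻¹ R
      have hR' : ∀ z ∈ ({P.e, f} : Set G), R' ≤ centralizer ({z} : Set G) := by
        intro z hz
        rw [show R' = zpowers (h⁻¹ * r₀ * h) ⊔ T' by
          show cj h⁻¹ (zpowers r₀ ⊔ cj h T') = _
          rw [cj, Subgroup.map_sup, MonoidHom.map_zpowers]
          congr 1
          · congr 1
            show h⁻¹ * r₀ * h⁻¹⁻¹ = _
            group
          · show cj h⁻¹ (cj h T') = T'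
            rw [cj_mul, inv_mul_cancel, cj_one]]
        rcases hz with rfl | rfl
        · exact sup_le (zpowers_le.mpr (Subgroup.mem_centralizer_singleton_iff.mpr (mul_inv_eq_iff_eq_mul.mp hij)))
            fun x hx => Subgroup.mem_centralizer_singleton_iff.mpr (hTle x hx)
        · exact sup_le (zpowers_le.mpr (Subgroup.mem_centralizer_singleton_iff.mpr (mul_inv_eq_iff_eq_mul.mp hrf)))
            fun x hx => hx.2
      have hle9 := K.three_le hf hfA (hR3.map _ : IsPGroup 3 R') (hR' _ (Set.mem_insert _ _))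
        (hR' _ (Set.mem_insert_of_mem _ rfl))
      rw [card_cj] at hle9
      have heq := Subgroup.eq_of_le_of_card_ge (le_sup_right : cj h T' ≤ R) (by rw [card_cj, hT9]; exact hle9)
      exact hr₀T (heq.symm ▸ Subgroup.mem_sup_left (mem_zpowers r₀))
    · exact ⟨r, hrf, by rw [hij, pow_one]⟩
    · refine ⟨r * r, by rw [show r * r * f * (r * r)⁻¹ = r * (r * f * r⁻¹) * r⁻¹ by group, hrf, hrf], ?_⟩
      calc r * r * P.e * (r * r)⁻¹ = r * (r * P.e * r⁻¹) * r⁻¹ := by group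
        _ = r * (P.e * f ^ 2) * r⁻¹ := by rw [hij]
        _ = (r * P.e * r⁻¹) * (r * f * r⁻¹) ^ 2 := by rw [pow_two, pow_two]; group
        _ = P.e * f ^ 4 := by rw [hij, hrf]; group
        _ = P.e * f := by rw [pow_succ, (hfpow 3).mpr rfl, one_mul]
  -- their product inverts both
  set y := p * q with hy
  have hyf : y * f * y⁻¹ = f * P.e := by
    rw [hy, show p * q * f * (p * q)⁻¹ = p * (q * f * q⁻¹) * p⁻¹ by group, hqf, hpf]
  have hye : y * P.e * y⁻¹ = P.e * (f * P.e) := by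
    rw [hy, show p * q * P.e * (p * q)⁻¹ = p * (q * P.e * q⁻¹) * p⁻¹ by group, hqe,
      show p * (P.e * f) * p⁻¹ = (p * P.e * p⁻¹) * (p * f * p⁻¹) by group, hpe, hpf]
  have hwf : y * y * f * (y * y)⁻¹ = f⁻¹ := by
    calc y * y * f * (y * y)⁻¹ = y * (y * f * y⁻¹) * y⁻¹ := by group
      _ = y * (f * P.e) * y⁻¹ := by rw [hyf]
      _ = (y * f * y⁻¹) * (y * P.e * y⁻¹) := by group
      _ = f * P.e * (P.e * (f * P.e)) := by rw [hyf, hye]
      _ = f * (f * (P.e * P.e)) * P.e := by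
        rw [← ((hef.mul_left hef) : Commute (P.e * P.e) f).eq]; group
      _ = f ^ 2 * P.e ^ 3 := by rw [pow_two, pow_three]; group
      _ = f⁻¹ := by
        rw [P.e_pow_eq.mpr rfl, mul_one]
        refine (inv_eq_of_mul_eq_one_right ?_).symm
        rw [← pow_succ', hf3]
  have hwe : y * y * P.e * (y * y)⁻¹ = P.e⁻¹ := by
    calc y * y * P.e * (y * y)⁻¹ = y * (y * P.e * y⁻¹) * y⁻¹ := by group
      _ = y * (P.e * (f * P.e)) * y⁻¹ := by rw [hye]
      _ = (y * P.e * y⁻¹) * ((y * f * y⁻¹) * (y * P.e * y⁻¹)) := by group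
      _ = P.e * (f * P.e) * (f * P.e * (P.e * (f * P.e))) := by rw [hyf, hye]
      _ = P.e ^ 5 * f ^ 3 := by
        have h1 : ∀ a : G, P.e * (f * a) = f * (P.e * a) := fun a => by rw [← mul_assoc, hef.eq, mul_assoc]
        simp only [pow_succ, pow_zero, one_mul, mul_assoc, h1, hef.eq]
      _ = P.e⁻¹ := by
        rw [hf3, mul_one]
        refine (inv_eq_of_mul_eq_one_right ?_).symm
        rw [← pow_succ']
        exact P.e_pow_eq.mpr rfl
  set c := y * y * P.u₀ with hc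
  have hce : c * P.e = P.e * c := by
    refine mul_inv_eq_iff_eq_mul.mp ?_
    calc c * P.e * c⁻¹ = (y * y) * (P.u₀ * P.e * P.u₀⁻¹) * (y * y)⁻¹ := by rw [hc]; group
      _ = (y * y) * P.e⁻¹ * (y * y)⁻¹ := by rw [P.u₀_e]
      _ = (y * y * P.e * (y * y)⁻¹)⁻¹ := map_inv (MulAut.conj (y * y)) P.e
      _ = P.e := by rw [hwe, inv_inv]
  have hcf : c * (P.u₀ * f * P.u₀⁻¹) * c⁻¹ = f⁻¹ := by
    rw [hc, ← hwf, show y * y * P.u₀ * (P.u₀ * f * P.u₀⁻¹) * (y * y * P.u₀)⁻¹ =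
      (y * y) * ((P.u₀ * P.u₀) * f * (P.u₀ * P.u₀)⁻¹) * (y * y)⁻¹ by group, P.u₀_sq]
    group
  have h1 := K.fusion _ (K.u₀_mem f hf) c hce (hcf ▸ inv_mem hf)
  rw [hcf] at h1
  have h2 := mul_mem h1 (K.u₀_shift hf)
  rw [show f⁻¹ * (P.u₀ * f * P.u₀⁻¹)⁻¹ * (P.u₀ * f * P.u₀⁻¹ * f⁻¹) = f⁻¹ * f⁻¹ by group] at h2
  exact hfA (K.mem_A_of_inv_sq hf h2)

/-- The order-three elements met by conjugates of `e` in the centraliser of an outer element. -/
theorem mem_zpowers_e {x g : G} (hx : x ∈ K.PP) (hxA : x ∉ K.A)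
    (hg : g * P.e * g⁻¹ ∈ (K.PP ⊓ centralizer ({x} : Set G) : Subgroup G)) : g * P.e * g⁻¹ ∈ zpowers P.e := by
  by_contra h
  refine h (K.cent_outer hx hxA (by_contra fun hA => K.not_conj hg.1 hA rfl) ?_)
  exact Subgroup.mem_centralizer_singleton_iff.mp hg.2

/-- The centraliser of an outer element in the Sylow subgroup is a Sylow subgroup of the centraliser. -/
theorem maximal_cent {x : G} (hx : x ∈ K.PP) (hxA : x ∉ K.A) {R : Subgroup G} (hR : IsPGroup 3 R)
    (hRx : R ≤ centralizer ({x} : Set G))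
    (hle : (K.PP ⊓ centralizer ({x} : Set G) : Subgroup G) ≤ R) :
    R = (K.PP ⊓ centralizer ({x} : Set G) : Subgroup G) := by
  haveI : Fact (Nat.Prime 3) := ⟨Nat.prime_three⟩
  by_contra hne
  set M := (K.PP ⊓ centralizer ({x} : Set G) : Subgroup G) with hM
  obtain ⟨r, hr, hrM, hrN⟩ := exists_normalising hR hle (Ne.symm hne)
  have heM : P.e ∈ M := Subgroup.mem_inf.mpr
    ⟨K.e_mem, Subgroup.mem_centralizer_singleton_iff.mpr (K.comm_e hx).symm⟩
  have hre := K.mem_zpowers_e hx hxA ((Subgroup.mem_normalizer_iff.mp hrN _).mp heM)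
  have hrodd : Odd (orderOf r) := by
    obtain ⟨k, hk⟩ := IsPGroup.iff_card.mp hR
    exact (show Odd (3 ^ k) from (show Odd 3 by decide).pow).of_dvd_nat (hk ▸ Subgroup.orderOf_dvd_natCard _ hr)
  have hrY : r ∈ centralizer ({P.e} : Set G) := by
    refine Subgroup.mem_centralizer_singleton_iff.mpr (mul_inv_eq_iff_eq_mul.mp ?_)
    obtain ⟨i, hi⟩ := (Submonoid.mem_powers_iff _ _).mp (mem_powers_iff_mem_zpowers.mpr hre)
    rw [← pow_mod_orderOf P.e i, P.orderOf_e] at hi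
    rcases (by omega : i % 3 = 0 ∨ i % 3 = 1 ∨ i % 3 = 2) with h | h | h <;> rw [h] at hi
    · exfalso
      rw [pow_zero] at hi
      have := P.orderOf_e
      rw [conj_eq_one_iff.mp hi.symm, orderOf_one] at this
      omega
    · rw [← hi, pow_one]
    · refine fix_of_odd hrodd ?_
      rw [← hi]
      refine (inv_eq_of_mul_eq_one_right ?_).symm
      rw [← pow_succ']
      exact P.e_pow_eq.mpr rfl
  set R₁ := M ⊔ zpowers r
  have h9 := K.three_le hx hxA (hR.to_le (sup_le hle (zpowers_le.mpr hr)) : IsPGroup 3 R₁)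
    (sup_le (inf_le_left.trans K.le_cent) (zpowers_le.mpr hrY)) (sup_le inf_le_right (zpowers_le.mpr (hRx hr)))
  have heq := Subgroup.eq_of_le_of_card_ge (le_sup_left : M ≤ R₁) (by rw [hM, K.card_cent hx hxA]; exact h9)
  exact hrM (heq.symm ▸ Subgroup.mem_sup_right (mem_zpowers r))

/-- Fusion between outer elements. -/
theorem fusion_outer {x g : G} (hx : x ∈ K.PP) (hxA : x ∉ K.A) (hy : g * x * g⁻¹ ∈ K.PP)
    (hyA : g * x * g⁻¹ ∉ K.A) : g * x * g⁻¹ * x⁻¹ ∈ K.A := by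
  haveI : Fact (Nat.Prime 3) := ⟨Nat.prime_three⟩
  set y := g * x * g⁻¹ with hy'
  set Mx := (K.PP ⊓ centralizer ({x} : Set G) : Subgroup G)
  set My := (K.PP ⊓ centralizer ({y} : Set G) : Subgroup G)
  set C := centralizer ({y} : Set G)
  have hgC : cj g Mx ≤ C := by
    have h := cj_mem_centralizer (g := g) (inf_le_right : Mx ≤ centralizer ({x} : Set G))
    exact h
  obtain ⟨R₁, hR₁⟩ := (((K.isP.to_le inf_le_left).map _ : IsPGroup 3 (cj g Mx)).comap_subtype (K := C)).exists_le_sylow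
  obtain ⟨R₂, hR₂⟩ := ((K.isP.to_le (inf_le_left : My ≤ K.PP)).comap_subtype (K := C)).exists_le_sylow
  obtain ⟨c, hc⟩ := MulAction.exists_smul_eq C R₁ R₂
  have hmax := K.maximal_cent hy hyA (R := (R₂ : Subgroup C).map C.subtype) (R₂.isPGroup'.map _)
    (Subgroup.map_subtype_le _) fun r hr => ⟨⟨r, hr.2⟩, hR₂ hr, rfl⟩
  set n := (c : G) * g with hn
  have hny : n * x * n⁻¹ = y := by
    have hcy : (c : G) * y = y * c := Subgroup.mem_centralizer_singleton_iff.mp c.2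
    calc n * x * n⁻¹ = (c : G) * y * (c : G)⁻¹ := by rw [hn, hy']; group
      _ = y := by rw [hcy, mul_inv_cancel_right]
  have hne : n * P.e * n⁻¹ ∈ zpowers P.e := by
    refine K.mem_zpowers_e hy hyA ?_
    have heM : g * P.e * g⁻¹ ∈ cj g Mx := conj_mem_cj (Subgroup.mem_inf.mpr
      ⟨K.e_mem, Subgroup.mem_centralizer_singleton_iff.mpr (K.comm_e hx).symm⟩)
    have hm : c * ⟨_, hgC heM⟩ * c⁻¹ ∈ ((c • R₁ : Sylow 3 C) : Subgroup C) := ⟨_, hR₁ heM, rfl⟩
    rw [hc] at hm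
    have h2 : ((c * ⟨_, hgC heM⟩ * c⁻¹ : C) : G) ∈ (R₂ : Subgroup C).map C.subtype := ⟨_, hm, rfl⟩
    rw [hmax] at h2
    convert h2 using 1
    rw [hn]
    simp [mul_assoc]
  obtain ⟨i, hi⟩ := (Submonoid.mem_powers_iff _ _).mp (mem_powers_iff_mem_zpowers.mpr hne)
  rw [← pow_mod_orderOf P.e i, P.orderOf_e] at hi
  rcases (by omega : i % 3 = 0 ∨ i % 3 = 1 ∨ i % 3 = 2) with h | h | h <;> rw [h] at hi
  · exfalso
    rw [pow_zero] at hi
    have := P.orderOf_e
    rw [conj_eq_one_iff.mp hi.symm, orderOf_one] at this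
    omega
  · rw [pow_one] at hi
    rw [← hny]
    exact K.fusion x hx n (mul_inv_eq_iff_eq_mul.mp hi.symm) (hny.symm ▸ hy)
  · have hinv : P.e ^ 2 = P.e⁻¹ := (inv_eq_of_mul_eq_one_right (by
      rw [← pow_succ']; exact P.e_pow_eq.mpr rfl)).symm
    have hce : n * P.u₀ * P.e = P.e * (n * P.u₀) := by
      refine mul_inv_eq_iff_eq_mul.mp ?_
      rw [show n * P.u₀ * P.e * (n * P.u₀)⁻¹ = n * (P.u₀ * P.e * P.u₀⁻¹) * n⁻¹ by group, P.u₀_e,
        show n * P.e⁻¹ * n⁻¹ = (n * P.e * n⁻¹)⁻¹ by group, ← hi, hinv, inv_inv]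
    have hcx : n * P.u₀ * (P.u₀ * x * P.u₀⁻¹) * (n * P.u₀)⁻¹ = y := by
      rw [show n * P.u₀ * (P.u₀ * x * P.u₀⁻¹) * (n * P.u₀)⁻¹ =
        n * ((P.u₀ * P.u₀) * x * (P.u₀ * P.u₀)⁻¹) * n⁻¹ by group, P.u₀_sq, ← hny]
      group
    have h1 := K.fusion _ (K.u₀_mem x hx) _ hce (hcx.symm ▸ hy)
    rw [hcx] at h1
    have h2 := mul_mem h1 (K.u₀_shift hx)
    rw [show y * (P.u₀ * x * P.u₀⁻¹)⁻¹ * (P.u₀ * x * P.u₀⁻¹ * x⁻¹) = y * x⁻¹ by group] at h2
    exact h2

/-- **Fusion preserves the cosets of the abelian subgroup.** -/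
theorem fusion_all {x g : G} (hx : x ∈ K.PP) (hy : g * x * g⁻¹ ∈ K.PP) : g * x * g⁻¹ * x⁻¹ ∈ K.A := by
  have key : ∀ x g : G, x ∈ K.PP → g * x * g⁻¹ ∈ K.A → x ∈ K.A := by
    intro x g hx hy
    by_contra hxA
    refine hxA (K.mem_A_of_inv_sq hx ?_)
    set k := g⁻¹ * P.u₀ * g with hk'
    have hk : k * x * k⁻¹ = x⁻¹ := by
      calc k * x * k⁻¹ = g⁻¹ * (P.u₀ * (g * x * g⁻¹) * P.u₀⁻¹) * g := by rw [hk']; group
        _ = g⁻¹ * (g * x * g⁻¹)⁻¹ * g := by rw [K.inverts _ hy]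
        _ = _ := by group
    have h := K.fusion_outer (g := k) hx hxA (by rw [hk]; exact inv_mem hx) (by rw [hk, inv_mem_iff]; exact hxA)
    rwa [hk] at h
  by_cases hxA : x ∈ K.A
  · have hyA := key _ g⁻¹ hy (by rwa [show g⁻¹ * (g * x * g⁻¹) * g⁻¹⁻¹ = x by group])
    exact mul_mem hyA (inv_mem hxA)
  · exact K.fusion_outer hx hxA hy fun h => hxA (key x g hx h)

/-- The Sylow subgroup of the centraliser of `e` is a Sylow subgroup. -/
theorem exists_sylow : ∃ R : Sylow 3 G, (R : Subgroup G) = K.PP := by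
  haveI : Fact (Nat.Prime 3) := ⟨Nat.prime_three⟩
  obtain ⟨R, hR⟩ := K.isP.exists_le_sylow
  refine ⟨R, by_contra fun hne => ?_⟩
  obtain ⟨r, hr, hrP, hrN⟩ := exists_normalising R.isPGroup' hR (Ne.symm hne)
  set a := r * P.e * r⁻¹ with ha
  have haP : a ∈ K.PP := (Subgroup.mem_normalizer_iff.mp hrN _).mp K.e_mem
  have hcomm : ∀ z ∈ K.PP, a * z = z * a := by
    intro z hz
    have h := K.comm_e ((Subgroup.mem_normalizer_iff''.mp hrN z).mp hz)
    calc a * z = r * (P.e * (r⁻¹ * z * r)) * r⁻¹ := by rw [ha]; group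
      _ = r * (r⁻¹ * z * r * P.e) * r⁻¹ := by rw [h]
      _ = _ := by rw [ha]; group
  obtain ⟨i, j, hij⟩ := P.exists_coord (P.mem_T_of_comm (hcomm _ K.d_mem) (K.comm_e haP))
  have hi : i % 3 = 0 := by
    have h := hcomm _ K.σ_mem
    have h2 : P.σ * a * P.σ⁻¹ = a := by rw [← h, mul_inv_cancel_right]
    rw [hij, show P.σ * (P.d ^ i * P.e ^ j) * P.σ⁻¹ = (P.σ * P.d ^ i * P.σ⁻¹) * (P.σ * P.e ^ j * P.σ⁻¹) by group,
      P.σ_pow_d, P.σ_pow_e, mul_assoc, mul_right_inj, mul_eq_right, inv_eq_one] at h2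
    exact P.e_pow_eq.mp h2
  rw [P.d_pow_eq.mpr hi, one_mul] at hij
  have hrodd : Odd (orderOf r) := by
    obtain ⟨k, hk⟩ := IsPGroup.iff_card.mp R.isPGroup'
    exact (show Odd (3 ^ k) from (show Odd 3 by decide).pow).of_dvd_nat (hk ▸ Subgroup.orderOf_dvd_natCard _ hr)
  have hrY : r ∈ centralizer ({P.e} : Set G) := by
    refine Subgroup.mem_centralizer_singleton_iff.mpr (mul_inv_eq_iff_eq_mul.mp ?_)
    rw [← pow_mod_orderOf P.e j, P.orderOf_e, ha] at hij
    rcases (by omega : j % 3 = 0 ∨ j % 3 = 1 ∨ j % 3 = 2) with h | h | h <;> rw [h] at hij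
    · exfalso
      rw [pow_zero] at hij
      have := P.orderOf_e
      rw [conj_eq_one_iff.mp hij, orderOf_one] at this
      omega
    · rw [hij, pow_one]
    · refine fix_of_odd hrodd ?_
      rw [hij]
      refine (inv_eq_of_mul_eq_one_right ?_).symm
      rw [← pow_succ']
      exact P.e_pow_eq.mpr rfl
  set R₁ := K.PP ⊔ zpowers r
  have hR₁ : IsPGroup 3 R₁ := R.isPGroup'.to_le (sup_le hR (zpowers_le.mpr hr))
  obtain ⟨y, -, hle⟩ := K.sylow R₁ hR₁ (sup_le K.le_cent (zpowers_le.mpr hrY))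
  have hc := Subgroup.card_le_of_le hle
  rw [card_cj] at hc
  exact hrP ((Subgroup.eq_of_le_of_card_ge (le_sup_left : K.PP ≤ R₁) hc).symm ▸
    Subgroup.mem_sup_right (mem_zpowers r))

end Pack

end Frame

/-- **A normal subgroup in which the centralisers of the central involutions are the Sylow subgroup.** -/
theorem Three.exists_normal {B : Base G F} (h : B.Three) :
    ∃ N : Subgroup G, N.Normal ∧ (B.S : Subgroup G) ≤ N ∧
      ∀ z ∈ B.Z, z ≠ 1 → ∀ g ∈ N, g * z = z * g → g ∈ (B.S : Subgroup G) := by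
  haveI : Fact (Nat.Prime 3) := ⟨Nat.prime_three⟩
  obtain ⟨P⟩ := h.exists_frame
  obtain ⟨K⟩ := P.exists_pack
  obtain ⟨R, hR⟩ := K.exists_sylow
  have hcard : ∀ L : Subgroup K.PP, ∃ k, Nat.card (K.PP ⧸ L) = 3 ^ k := fun L => by
    obtain ⟨k, hk⟩ := IsPGroup.iff_card.mp K.isP
    have : Nat.card (K.PP ⧸ L) ∣ 3 ^ k := hk ▸ Subgroup.card_quotient_dvd_card L
    obtain ⟨m, -, hm⟩ := (Nat.dvd_prime_pow Nat.prime_three).mp this
    exact ⟨m, hm⟩
  have hidx : K.PP.index.Coprime (Nat.card (K.PP ⧸ K.PP.focalSubgroupOf)) := by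
    obtain ⟨k, hk⟩ := hcard K.PP.focalSubgroupOf
    rw [hk]
    have := R.not_dvd_index
    rw [hR] at this
    exact ((Nat.prime_three.coprime_iff_not_dvd.mpr this).symm).pow_right k
  obtain ⟨-, N, hN, hNP, hsup⟩ := CfsgLib.Transfer.exists_normal_inf_eq_focal K.PP hidx
  have hfocal : K.PP.focalSubgroup ≤ K.A := by
    rw [Subgroup.focalSubgroup_def, Subgroup.closure_le]
    rintro _ ⟨hgP, x, hx, u, rfl⟩
    have hu : u * x⁻¹ * u⁻¹ ∈ K.PP := by
      have := mul_mem (inv_mem hx) hgP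
      rw [commutatorElement_def] at this
      convert this using 1
      group
    have h1 := K.fusion_all (inv_mem hx) hu
    have h2 := K.conj_mem_A hx h1
    show ⁅x, u⁆ ∈ K.A
    rw [commutatorElement_def]
    convert h2 using 1
    group
  haveI := hN
  have hd : ∀ i : ℕ, P.d ^ i ∈ N → P.d ^ i = 1 := fun i hi => by
    have hA : P.d ^ i ∈ K.A := hfocal (hNP ▸ Subgroup.mem_inf.mpr ⟨hi, pow_mem K.d_mem i⟩)
    rw [← pow_mod_orderOf P.d i, P.orderOf_d] at hA ⊢
    rcases (by omega : i % 3 = 0 ∨ i % 3 = 1 ∨ i % 3 = 2) with h' | h' | h' <;> rw [h'] at hA ⊢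
    · exact pow_zero _
    · exact absurd (by simpa using hA) K.d_not
    · refine absurd ?_ K.d_not
      have := mul_mem hA hA
      rwa [← pow_add, pow_succ, P.d_pow_eq.mpr rfl, one_mul] at this
  have hSN : (B.S : Subgroup G) ≤ N := by
    intro s hs
    refine (QuotientGroup.eq_one_iff s).mp ?_
    set π := QuotientGroup.mk' N
    have hsurj : Function.Surjective (π.comp K.PP.subtype) := by
      intro x
      obtain ⟨g, rfl⟩ := QuotientGroup.mk'_surjective N x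
      obtain ⟨n, hn, p, hp, rfl⟩ := Subgroup.mem_sup_of_normal_left.mp (hsup.symm ▸ Subgroup.mem_top g)
      refine ⟨⟨p, hp⟩, ?_⟩
      show π p = π (n * p)
      rw [map_mul, show π n = 1 from (QuotientGroup.eq_one_iff n).mpr hn, one_mul]
    obtain ⟨k, hk⟩ := hcard (π.comp K.PP.subtype).ker
    have e : Nat.card (G ⧸ N) = 3 ^ k := by
      rw [← hk]
      exact (Nat.card_congr (QuotientGroup.quotientKerEquivOfSurjective _ hsurj).toEquiv).symm
    refine orderOf_eq_one_iff.mp (Nat.eq_one_of_dvd_coprimes (a := 2 ^ 6) (b := 3 ^ k)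
      (Nat.Coprime.pow 6 k (by norm_num : Nat.Coprime 2 3)) ?_ (e ▸ orderOf_dvd_natCard _))
    refine (orderOf_map_dvd π s).trans ?_
    rw [show (2 : ℕ) ^ 6 = 64 by norm_num, ← B.card_S]
    exact Subgroup.orderOf_dvd_natCard _ hs
  refine ⟨N, hN, hSN, fun z hz hz1 g hgN hg => ?_⟩
  obtain ⟨s, hs, i, rfl⟩ := P.exists_cent_z hz hz1 hg
  have hdi : P.d ^ i ∈ N := by
    have := mul_mem (inv_mem (hSN hs)) hgN
    rwa [inv_mul_cancel_left] at this
  rw [hd i hdi, mul_one]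
  exact hs

end Base

end CfsgLib.L34Sylow
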