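import Cfsg.Agent.Lib.L34Sylow.CaseAA
import Cfsg.Agent.Lib.L34Sylow.CaseMixed
import Cfsg.Agent.Lib.L34Sylow.ThreeFinal
import Cfsg.Agent.Lib.L34Sylow.Simple
import Cfsg.Agent.Lib.L34Sylow.EmbedBorel
import Cfsg.Agent.Lib.L34Sylow.EmbedParabolic
import Cfsg.Agent.Lib.PSolvable

/-!
Sylow 2-subgroups of the type of `PSL₃(4)`: the embedding in `PGL₃(4)` modulo the core.

Blueprint: `blueprint/S3198.md`.
-/

set_option autoImplicit false
set_option linter.unusedSectionVars false
set_option linter.style.haveILetI false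

namespace CfsgLib.L34Sylow

open Subgroup Cfsg
open scoped MatrixGroups

universe u

namespace Base

variable {G : Type u} [Group G] [Finite G] {F : Type*} [Field F] (B : Base G F)

theorem fused_swap_swap (h : B.Fused₁) : B.swap.swap.Fused₁ := by
  obtain ⟨g, z, hz, h1, h2⟩ := h
  refine ⟨g, z, ?_, ?_, ?_⟩
  · rwa [swap_Z, swap_Z]
  · rwa [swap_E₁, swap_E₂]
  · rwa [swap_Z, swap_Z]

include B in
/-- The embedding for a group without core. -/
theorem exists_embed [Fintype F] (hF : Fintype.card F = 4) (hO : oddCore G = ⊥) :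
    ∃ f : G →* GL (Fin 3) F ⧸ Subgroup.center (GL (Fin 3) F), Function.Injective f := by
  by_cases h1 : B.Fused₁
  · by_cases h2 : B.swap.Fused₁
    · by_cases hbig : ∃ z ∈ B.Z, z ≠ 1 ∧ ∃ g : G, g * z = z * g ∧ g ∉ (B.S : Subgroup G)
      · obtain ⟨N, hN, hSN, hcent⟩ := (⟨hO, h1, h2, hbig⟩ : B.Three).exists_normal
        haveI := hN
        exact B.exists_embedding hF hO h1 h2 N hSN hcent
      · push Not at hbig
        exact B.exists_embedding hF hO h1 h2 ⊤ le_top fun z hz hz1 g _ hg => hbig z hz hz1 g hg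
    · refine B.embed_of_normal_E₁ hO ?_ h1
      rw [← swap_E₂]
      exact B.swap.normal_E₂ hO h2 (B.fused_swap_swap h1)
  · by_cases h2 : B.swap.Fused₁
    · refine B.swap.embed_of_normal_E₁ hO ?_ h2
      rw [swap_E₁]
      exact B.normal_E₂ hO h1 h2
    · exact B.embed_of_normal hO (B.normal_S_of_unfused hO h1 h2)

end Base

/-- **The embedding modulo the core.** -/
theorem exists_embed_mod_core {G : Type u} [Group G] [Finite G] {F : Type*} [Field F] [Fintype F]
    (hF : Fintype.card F = 4) (S : Sylow 2 G)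
    (P : Sylow 2 (Matrix.ProjectiveSpecialLinearGroup (Fin 3) F))
    (hS : Nonempty (↥(S : Subgroup G) ≃* ↥(P : Subgroup (Matrix.ProjectiveSpecialLinearGroup (Fin 3) F)))) :
    ∃ f : G ⧸ oddCore G →* GL (Fin 3) F ⧸ Subgroup.center (GL (Fin 3) F), Function.Injective f := by
  obtain ⟨e⟩ := hS
  obtain ⟨e'⟩ := exists_equiv hF P
  let B : Base G F := ⟨S, by rw [Nat.card_eq_fintype_card, hF], e'.trans e.symm⟩
  have hinj : Set.InjOn (QuotientGroup.mk' (oddCore G)) (B.S : Subgroup G) := by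
    intro x hx y hy h
    have h1 : x⁻¹ * y ∈ oddCore G := QuotientGroup.eq.mp h
    have h2 : x⁻¹ * y ∈ (B.S : Subgroup G) := mul_mem (inv_mem hx) hy
    have hc : Nat.Coprime (Nat.card (B.S : Subgroup G)) (Nat.card (oddCore G)) := by
      rw [B.card_S, show (64 : ℕ) = 2 ^ 6 by norm_num]
      exact Nat.Coprime.pow_left 6 (Nat.coprime_two_left.mpr CfsgLib.odd_card_oddCore)
    have h3 := (Subgroup.disjoint_def.mp (Subgroup.disjoint_of_coprime_natCard hc)) h2 h1
    exact inv_mul_eq_one.mp h3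
  exact (B.map _ (QuotientGroup.mk'_surjective _) hinj).exists_embed hF (CfsgLib.pPrimeCore_quotient_eq_bot 2)

end CfsgLib.L34Sylow
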