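import Mathlib

/-!
The unitriangular group of degree three over a field with four elements, and its automorphisms.

Blueprint: `blueprint/S3198.md`.
-/

set_option autoImplicit false
set_option linter.unusedSectionVars false

namespace CfsgLib.L34Sylow

/-- Coordinates of the unitriangular group of degree three. -/
@[ext] structure U (F : Type*) where
  a : F
  b : F
  c : F

namespace U

variable {F : Type*} [Field F]

instance : One (U F) := ⟨⟨0, 0, 0⟩⟩
instance : Mul (U F) := ⟨fun u v => ⟨u.a + v.a, u.b + v.b, u.c + v.c + u.a * v.b⟩⟩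
instance : Inv (U F) := ⟨fun u => ⟨-u.a, -u.b, -u.c + u.a * u.b⟩⟩

@[simp] theorem one_a : (1 : U F).a = 0 := rfl
@[simp] theorem one_b : (1 : U F).b = 0 := rfl
@[simp] theorem one_c : (1 : U F).c = 0 := rfl
@[simp] theorem mul_a (u v : U F) : (u * v).a = u.a + v.a := rfl
@[simp] theorem mul_b (u v : U F) : (u * v).b = u.b + v.b := rfl
@[simp] theorem mul_c (u v : U F) : (u * v).c = u.c + v.c + u.a * v.b := rfl
@[simp] theorem inv_a (u : U F) : u⁻¹.a = -u.a := rfl
@[simp] theorem inv_b (u : U F) : u⁻¹.b = -u.b := rfl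
@[simp] theorem inv_c (u : U F) : u⁻¹.c = -u.c + u.a * u.b := rfl

instance : Group (U F) where
  mul_assoc u v w := by ext <;> simp <;> ring
  one_mul u := by ext <;> simp
  mul_one u := by ext <;> simp
  inv_mul_cancel u := by ext <;> simp

/-- The equivalence with triples. -/
def equivProd : U F ≃ F × F × F where
  toFun u := (u.a, u.b, u.c)
  invFun x := ⟨x.1, x.2.1, x.2.2⟩

instance [Finite F] : Finite (U F) := Finite.of_equiv _ equivProd.symm

theorem card_U : Nat.card (U F) = Nat.card F * (Nat.card F * Nat.card F) := by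
  rw [Nat.card_congr equivProd, Nat.card_prod, Nat.card_prod]

/-- The unitriangular matrix. -/
def mat (u : U F) : Matrix (Fin 3) (Fin 3) F := !![1, u.a, u.c; 0, 1, u.b; 0, 0, 1]

theorem det_mat (u : U F) : (mat u).det = 1 := by
  simp [mat, Matrix.det_fin_three]

theorem mat_mul (u v : U F) : mat (u * v) = mat u * mat v := by
  ext i j
  fin_cases i <;> fin_cases j <;> simp [mat, Matrix.mul_apply, Fin.sum_univ_three] <;> ring

theorem mat_one : mat (1 : U F) = 1 := by
  ext i j
  fin_cases i <;> fin_cases j <;> simp [mat]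

/-- The embedding into the special linear group. -/
def toSL : U F →* Matrix.SpecialLinearGroup (Fin 3) F where
  toFun u := ⟨mat u, det_mat u⟩
  map_one' := Subtype.ext mat_one
  map_mul' u v := Subtype.ext (mat_mul u v)

/-- The embedding into the projective special linear group. -/
def toPSL : U F →* Matrix.ProjectiveSpecialLinearGroup (Fin 3) F :=
  (QuotientGroup.mk' _).comp toSL

theorem toPSL_injective : Function.Injective (toPSL (F := F)) := by
  rw [← MonoidHom.ker_eq_bot_iff, Subgroup.eq_bot_iff_forall]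
  intro u hu
  have h : toSL u ∈ Subgroup.center (Matrix.SpecialLinearGroup (Fin 3) F) := (QuotientGroup.eq_one_iff _).mp hu
  obtain ⟨r, -, hr⟩ := Matrix.SpecialLinearGroup.mem_center_iff.mp h
  have e : ∀ i j : Fin 3, (Matrix.scalar (Fin 3) r) i j = mat u i j := fun i j => by
    rw [hr]; rfl
  have e01 := e 0 1
  have e02 := e 0 2
  have e12 := e 1 2
  simp [mat, Matrix.scalar_apply] at e01 e02 e12
  ext
  · exact e01.symm
  · exact e12.symm
  · exact e02.symm

end U

section Four

variable {F : Type*} [Field F] (hF : Nat.card F = 4)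

include hF

theorem finite_four : Finite F := Nat.finite_of_card_ne_zero (by omega)

theorem pow_four (x : F) : x ^ 4 = x := by
  haveI := finite_four hF
  haveI := Fintype.ofFinite F
  have h := FiniteField.pow_card x
  rwa [← Nat.card_eq_fintype_card, hF] at h

theorem two_eq_zero : (2 : F) = 0 := by
  have h := pow_four hF (-1 : F)
  norm_num at h
  rw [← one_add_one_eq_two]
  linear_combination h

theorem add_self (x : F) : x + x = 0 := by
  rw [← two_mul, two_eq_zero hF, zero_mul]

theorem neg_eq (x : F) : -x = x := neg_eq_of_add_eq_zero_left (add_self hF x)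

theorem cube {x : F} (hx : x ≠ 0) : x ^ 3 = 1 :=
  mul_left_cancel₀ hx (by rw [← pow_succ', mul_one]; exact pow_four hF x)

theorem eq_add_iff {x y z : F} : x = y + z ↔ x + z = y := by
  constructor
  · rintro rfl; rw [add_assoc, add_self hF, add_zero]
  · rintro rfl; rw [add_assoc, add_self hF, add_zero]

/-- Outside the prime field the elements are the two roots of `x ^ 2 + x + 1`. -/
theorem quad {x : F} (h0 : x ≠ 0) (h1 : x ≠ 1) : x ^ 2 = x + 1 := by
  have h : (x - 1) * (x ^ 2 + x + 1) = 0 := by linear_combination cube hF h0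
  have h' := (mul_eq_zero.mp h).resolve_left (sub_ne_zero.mpr h1)
  linear_combination h' - (x + 1) * two_eq_zero hF

theorem exists_omega : ∃ w : F, w ≠ 0 ∧ w ≠ 1 := by
  classical
  haveI := finite_four hF
  haveI := Fintype.ofFinite F
  by_contra hc
  push Not at hc
  have hsub : (Finset.univ : Finset F) ⊆ {0, 1} := fun x _ => by
    by_cases hx : x = 0
    · simp [hx]
    · simp [hc x hx]
  have := (Finset.card_le_card hsub).trans Finset.card_le_two
  rw [Finset.card_univ, ← Nat.card_eq_fintype_card, hF] at this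
  omega

/-- The four elements. -/
theorem cases_four {w : F} (h0 : w ≠ 0) (h1 : w ≠ 1) (x : F) : x = 0 ∨ x = 1 ∨ x = w ∨ x = w + 1 := by
  by_cases hx0 : x = 0
  · exact Or.inl hx0
  by_cases hx1 : x = 1
  · exact Or.inr (Or.inl hx1)
  have h : (x - w) * (x - (w + 1)) = 0 := by
    linear_combination quad hF hx0 hx1 - quad hF h0 h1 - (x * w - w ^ 2) * two_eq_zero hF
  rcases mul_eq_zero.mp h with h | h
  · exact Or.inr (Or.inr (Or.inl (sub_eq_zero.mp h)))
  · exact Or.inr (Or.inr (Or.inr (sub_eq_zero.mp h)))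

namespace U

/-- The model has order `64`. -/
theorem card_eq : Nat.card (U F) = 64 := by rw [card_U, hF]

theorem sq_eq (u : U F) : u * u = ⟨0, 0, u.a * u.b⟩ := by
  ext <;> simp [add_self hF]

theorem sq_one_iff {u : U F} : u * u = 1 ↔ u.a = 0 ∨ u.b = 0 := by
  rw [sq_eq hF, U.ext_iff]
  simp

theorem comm_iff {u v : U F} : u * v = v * u ↔ u.a * v.b = v.a * u.b := by
  rw [U.ext_iff]
  simp [add_comm]

omit hF in
theorem center_of_zero {z : U F} (ha : z.a = 0) (hb : z.b = 0) (u : U F) : z * u = u * z := by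
  ext <;> simp [ha, hb, add_comm]

/-- The commutator. -/
theorem comm_eq (u v : U F) : u * v * u⁻¹ * v⁻¹ = ⟨0, 0, u.a * v.b + v.a * u.b⟩ := by
  have h : u * v = (⟨0, 0, u.a * v.b + v.a * u.b⟩ : U F) * (v * u) := by
    ext
    · simp [add_comm]
    · simp [add_comm]
    · simp only [mul_c, mul_a, mul_b]
      linear_combination -(v.a * u.b) * two_eq_zero hF
  calc u * v * u⁻¹ * v⁻¹ = (⟨0, 0, u.a * v.b + v.a * u.b⟩ : U F) * (v * u) * u⁻¹ * v⁻¹ := by rw [← h]
    _ = _ := by group

omit hF in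
theorem zero_of_center {u : U F} (h : ∀ v, u * v = v * u) : u.a = 0 ∧ u.b = 0 := by
  refine ⟨?_, ?_⟩
  · have := congrArg U.c (h ⟨0, 1, 0⟩)
    simpa using this
  · have := congrArg U.c (h ⟨1, 0, 0⟩)
    simpa using this

/-! ### Automorphisms -/

/-- An automorphism respecting the first elementary piece. -/
def Keeps (φ : U F ≃* U F) : Prop := ∀ u : U F, u.b = 0 → (φ u).b = 0

/-- An automorphism respecting the second elementary piece. -/
def Keeps' (φ : U F ≃* U F) : Prop := ∀ u : U F, u.a = 0 → (φ u).a = 0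

omit hF in
theorem map_center (φ : U F ≃* U F) {z : U F} (ha : z.a = 0) (hb : z.b = 0) : (φ z).a = 0 ∧ (φ z).b = 0 := by
  refine zero_of_center fun v => ?_
  obtain ⟨v, rfl⟩ := φ.surjective v
  rw [← map_mul, ← map_mul, center_of_zero ha hb]

/-- Every automorphism keeps or exchanges the two pieces. -/
theorem keeps_or (φ : U F ≃* U F) :
    (Keeps φ ∧ Keeps' φ) ∨ ((∀ u : U F, u.b = 0 → (φ u).a = 0) ∧ ∀ u : U F, u.a = 0 → (φ u).b = 0) := by
  have hsq : ∀ u : U F, u * u = 1 → (φ u).a = 0 ∨ (φ u).b = 0 := fun u hu =>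
    (sq_one_iff hF).mp (by rw [← map_mul, hu, map_one])
  have hc : ∀ u v : U F, u.a * v.b = v.a * u.b → (φ u).a * (φ v).b = (φ v).a * (φ u).b := fun u v h =>
    (comm_iff hF).mp (by rw [← map_mul, ← map_mul, (comm_iff hF).mpr h])
  have hz : ∀ u : U F, (φ u).a = 0 → (φ u).b = 0 → u.a = 0 ∧ u.b = 0 := fun u ha hb => by
    have := map_center φ.symm ha hb
    simpa using this
  set p := φ ⟨1, 0, 0⟩ with hp
  set q := φ ⟨0, 1, 0⟩ with hq
  have hpne : p.a ≠ 0 ∨ p.b ≠ 0 := by
    by_contra hcon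
    push Not at hcon
    simpa using (hz ⟨1, 0, 0⟩ hcon.1 hcon.2).1
  have hqne : q.a ≠ 0 ∨ q.b ≠ 0 := by
    by_contra hcon
    push Not at hcon
    simpa using (hz ⟨0, 1, 0⟩ hcon.1 hcon.2).2
  have hpq : p.a * q.b ≠ q.a * p.b := fun h => by
    have h1 : (⟨1, 0, 0⟩ : U F) * ⟨0, 1, 0⟩ = ⟨0, 1, 0⟩ * ⟨1, 0, 0⟩ :=
      φ.injective (by rw [map_mul, map_mul]; exact (comm_iff hF).mpr h)
    simpa using (comm_iff hF).mp h1
  rcases hsq ⟨1, 0, 0⟩ ((sq_one_iff hF).mpr (Or.inr rfl)) with hpa | hpb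
  · have hpb : p.b ≠ 0 := hpne.resolve_left (not_not_intro hpa)
    have hqa : q.a ≠ 0 := fun h => hpq (by rw [hpa, h]; ring)
    have hqb : q.b = 0 := (hsq ⟨0, 1, 0⟩ ((sq_one_iff hF).mpr (Or.inl rfl))).resolve_left hqa
    refine Or.inr ⟨fun u hu => ?_, fun u hu => ?_⟩
    · rcases hsq u ((sq_one_iff hF).mpr (Or.inr hu)) with h | h
      · exact h
      · have := hc u ⟨1, 0, 0⟩ (by simp [hu])
        rw [← hp, hpa, h, mul_zero] at this
        exact (mul_eq_zero.mp this).resolve_right hpb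
    · rcases hsq u ((sq_one_iff hF).mpr (Or.inl hu)) with h | h
      · have := hc u ⟨0, 1, 0⟩ (by simp [hu])
        rw [← hq, hqb, h, zero_mul] at this
        exact (mul_eq_zero.mp this.symm).resolve_left hqa
      · exact h
  · have hpa : p.a ≠ 0 := hpne.resolve_right (not_not_intro hpb)
    have hqb : q.b ≠ 0 := fun h => hpq (by
      rw [show p.b = 0 from hpb, h]; ring)
    have hqa : q.a = 0 := (hsq ⟨0, 1, 0⟩ ((sq_one_iff hF).mpr (Or.inl rfl))).resolve_right hqb
    refine Or.inl ⟨fun u hu => ?_, fun u hu => ?_⟩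
    · rcases hsq u ((sq_one_iff hF).mpr (Or.inr hu)) with h | h
      · have := hc u ⟨1, 0, 0⟩ (by simp [hu])
        rw [← hp, show p.b = 0 from hpb, h, zero_mul] at this
        exact (mul_eq_zero.mp this.symm).resolve_left hpa
      · exact h
    · rcases hsq u ((sq_one_iff hF).mpr (Or.inl hu)) with h | h
      · exact h
      · have := hc u ⟨0, 1, 0⟩ (by simp [hu])
        rw [← hq, hqa, h, zero_mul] at this
        exact (mul_eq_zero.mp this).resolve_right hqb

/-- The action of an automorphism is linear with multipliers `l`, `m`. -/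
def Lin (φ : U F ≃* U F) (l m : F) : Prop := ∀ u : U F, (φ u).a = l * u.a ∧ (φ u).b = m * u.b

/-- The action of an automorphism is semilinear for the automorphism `σ` of the field. -/
def Semi (φ : U F ≃* U F) (σ : F → F) (l m : F) : Prop :=
  ∀ u : U F, (φ u).a = l * σ u.a ∧ (φ u).b = m * σ u.b

/-- An automorphism keeping the pieces is semilinear. -/
theorem exists_semi {φ : U F ≃* U F} (h1 : Keeps φ) (h2 : Keeps' φ) :
    ∃ l m : F, l ≠ 0 ∧ m ≠ 0 ∧ (Lin φ l m ∨ Semi φ (fun x => x ^ 2) l m) := by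
  set α : F → F := fun x => (φ ⟨x, 0, 0⟩).a with hα
  set β : F → F := fun y => (φ ⟨0, y, 0⟩).b with hβ
  set γ : F → F := fun z => (φ ⟨0, 0, z⟩).c with hγ
  have hsplit : ∀ u : U F, (φ u).a = α u.a ∧ (φ u).b = β u.b := by
    intro u
    have e : u = ⟨u.a, 0, 0⟩ * ⟨0, u.b, 0⟩ * ⟨0, 0, u.c + u.a * u.b⟩ := by
      ext
      · simp
      · simp
      · simp only [mul_c, mul_a, mul_b]
        linear_combination -(u.a * u.b) * two_eq_zero hF
    have hz := map_center φ (z := (⟨0, 0, u.c + u.a * u.b⟩ : U F)) rfl rfl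
    constructor
    · conv_lhs => rw [e, map_mul, map_mul, mul_a, mul_a, hz.1, h2 (⟨0, u.b, 0⟩ : U F) rfl, add_zero, add_zero]
    · conv_lhs => rw [e, map_mul, map_mul, mul_b, mul_b, hz.2, h1 (⟨u.a, 0, 0⟩ : U F) rfl, add_zero, zero_add]
  have hαadd : ∀ x y, α (x + y) = α x + α y := fun x y => by
    have e : (⟨x + y, 0, 0⟩ : U F) = ⟨x, 0, 0⟩ * ⟨y, 0, 0⟩ := by ext <;> simp
    simp only [hα, e, map_mul, mul_a]
  have hαinj : ∀ x, α x = 0 → x = 0 := fun x hx => by
    have := map_center φ.symm (z := φ ⟨x, 0, 0⟩) hx (h1 _ rfl)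
    simpa using this.1
  have hmul : ∀ x y, α x * β y = γ (x * y) := fun x y => by
    have e := congrArg φ (comm_eq hF (⟨x, 0, 0⟩ : U F) ⟨0, y, 0⟩)
    simp only [map_mul, map_inv] at e
    rw [comm_eq hF] at e
    have := congrArg U.c e
    simp only [mul_zero, zero_mul, add_zero] at this
    simp only [hγ]
    rw [← this]
    simp [hα, hβ, h2 (⟨0, y, 0⟩ : U F) rfl]
  have hl : α 1 ≠ 0 := fun h => one_ne_zero (hαinj 1 h)
  have hm : β 1 ≠ 0 := fun h => by
    have := map_center φ.symm (z := φ ⟨0, 1, 0⟩) (h2 _ rfl) h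
    simp at this
  have hβα : ∀ y, β y = β 1 / α 1 * α y := fun y => by
    have h := hmul 1 y
    have h' := hmul y 1
    rw [one_mul] at h
    rw [mul_one, ← h] at h'
    rw [div_mul_eq_mul_div, eq_div_iff hl]
    linear_combination -h'
  obtain ⟨w, hw0, hw1⟩ := exists_omega hF
  have hw2 : w ^ 2 = w + 1 := quad hF hw0 hw1
  have hα0 : α 0 = 0 := by
    have := hαadd 0 0
    rw [add_zero] at this
    linear_combination -this
  set s := α w / α 1 with hs
  have hαw : α w = α 1 * s := by rw [hs, mul_div_cancel₀ _ hl]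
  have hs0 : s ≠ 0 := fun h => hw0 (hαinj w (by rw [hαw, h, mul_zero]))
  have hs1 : s ≠ 1 := fun h => hw1 (by
    have h' : α (w + 1) = 0 := by rw [hαadd, hαw, h, mul_one, add_self hF]
    exact (eq_add_iff hF).mpr (hαinj _ h') |>.trans (zero_add 1))
  refine ⟨α 1, β 1, hl, hm, ?_⟩
  rcases cases_four hF hw0 hw1 s with h | h | h | h
  · exact absurd h hs0
  · exact absurd h hs1
  · refine Or.inl fun u => ?_
    have key : ∀ x, α x = α 1 * x := fun x => by
      rcases cases_four hF hw0 hw1 x with rfl | rfl | rfl | rfl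
      · rw [hα0, mul_zero]
      · rw [mul_one]
      · rw [hαw, h]
      · rw [hαadd, hαw, h]; ring
    refine ⟨by rw [(hsplit u).1, key], ?_⟩
    rw [(hsplit u).2, hβα, key u.b]
    field_simp
  · refine Or.inr fun u => ?_
    have key : ∀ x, α x = α 1 * x ^ 2 := fun x => by
      rcases cases_four hF hw0 hw1 x with rfl | rfl | rfl | rfl
      · rw [hα0]; ring
      · ring
      · rw [hαw, h, hw2]
      · rw [hαadd, hαw, h]
        linear_combination -(α 1) * hw2 - α 1 * (w + 0) * two_eq_zero hF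
    refine ⟨by rw [(hsplit u).1, key], ?_⟩
    rw [(hsplit u).2, hβα, key u.b]
    field_simp

omit hF in
/-- A linear automorphism multiplies the centre by the product of the multipliers. -/
theorem lin_center {φ : U F ≃* U F} {l m : F} (h : Lin φ l m) (h2 : (2 : F) = 0) {z : U F} (ha : z.a = 0)
    (hb : z.b = 0) : (φ z).c = l * m * z.c := by
  have e : z = ⟨z.c, 0, 0⟩ * ⟨0, 1, 0⟩ * (⟨z.c, 0, 0⟩ : U F)⁻¹ * (⟨0, 1, 0⟩ : U F)⁻¹ := by
    ext <;> simp [ha, hb]
  conv_lhs => rw [e]
  simp only [map_mul, map_inv, mul_c, mul_a, mul_b, inv_a, inv_b, inv_c]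
  rw [(h _).1, (h _).2, (h _).1, (h _).2]
  ring

omit hF in
theorem lin_mul {φ ψ : U F ≃* U F} {l m l' m' : F} (h : Lin φ l m) (h' : Lin ψ l' m') :
    Lin (ψ.trans φ) (l * l') (m * m') := fun u => by
  rw [MulEquiv.trans_apply, (h _).1, (h _).2, (h' u).1, (h' u).2]
  exact ⟨by ring, by ring⟩

omit hF in
theorem lin_symm {φ : U F ≃* U F} {l m : F} (hl : l ≠ 0) (hm : m ≠ 0) (h : Lin φ l m) :
    Lin φ.symm l⁻¹ m⁻¹ := fun u => by
  have := h (φ.symm u)
  rw [MulEquiv.apply_symm_apply] at this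
  rw [this.1, this.2, inv_mul_cancel_left₀ hl, inv_mul_cancel_left₀ hm]
  exact ⟨rfl, rfl⟩

/-- The square of a semilinear automorphism is linear. -/
theorem semi_sq {φ : U F ≃* U F} {l m : F} (h : Semi φ (fun x => x ^ 2) l m) :
    Lin (φ.trans φ) (l * l ^ 2) (m * m ^ 2) := fun u => by
  rw [MulEquiv.trans_apply, (h _).1, (h _).2, (h u).1, (h u).2]
  have ha := pow_four hF u.a
  have hb := pow_four hF u.b
  exact ⟨by linear_combination (l * l ^ 2) * ha, by linear_combination (m * m ^ 2) * hb⟩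

end U

end Four

end CfsgLib.L34Sylow
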