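import Cfsg.Agent.Lib.L34Sylow.ThreeTorus
import Cfsg.Agent.Lib.CIT.L34Base
import Cfsg.Agent.Lib.SLCard
import Cfsg.Agent.Lib.Homogeneous.Models

/-!
Centralisers of involutions equal to the Sylow subgroup: the pieces of the configuration of order sixty-four.

Blueprint: `blueprint/S3198.md`, section 4.
-/

set_option autoImplicit false
set_option linter.unusedSectionVars false
set_option linter.style.haveILetI false

namespace CfsgLib.L34Sylow

open Subgroup Cfsg
open scoped MatrixGroups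

universe u

variable {G : Type u} [Group G] [Finite G] {F : Type*} [Field F]

namespace Base

variable (B : Base G F)

/-- Both pieces fused and the centralisers of the central involutions equal to the Sylow subgroup. -/
structure Small : Prop where
  hO : oddCore G = ⊥
  h1 : B.Fused₁
  h2 : B.swap.Fused₁
  cent : ∀ z ∈ B.Z, z ≠ 1 → ∀ g : G, g * z = z * g → g ∈ (B.S : Subgroup G)

theorem fused₁_congr {B' : Base G F} (hZ : B'.Z = B.Z) (hE : B'.E₁ = B.E₁) : B'.Fused₁ ↔ B.Fused₁ := by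
  unfold Fused₁
  rw [hZ, hE]

variable {B}

theorem Small.swap (h : B.Small) : B.swap.Small := by
  refine ⟨h.hO, h.h2, ?_, fun z hz => h.cent z (B.swap_Z ▸ hz)⟩
  obtain ⟨g, z, hz, h1, h2⟩ := h.h1
  refine ⟨g, z, by rw [swap_Z, swap_Z]; exact hz, ?_, by rw [swap_Z, swap_Z]; exact h2⟩
  rw [swap_E₁, swap_E₂]
  exact h1

theorem Small.congr (h : B.Small) {B' : Base G F} (hS : B'.S = B.S) (hZ : B'.Z = B.Z) (hE₁ : B'.E₁ = B.E₁)
    (hE₂ : B'.E₂ = B.E₂) : B'.Small := by
  refine ⟨h.hO, (B.fused₁_congr hZ hE₁).mpr h.h1, (B.swap.fused₁_congr ?_ ?_).mpr h.h2, ?_⟩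
  · rw [swap_Z, swap_Z, hZ]
  · rw [swap_E₁, swap_E₁, hE₂]
  · rw [hS, hZ]; exact h.cent

/-- The centralisers of involutions are two-groups. -/
theorem Small.isCIT (h : B.Small) : CIT.IsCIT G := by
  intro t ht
  obtain ⟨z, hz, hz1⟩ := B.exists_Z_ne
  obtain ⟨g, hg⟩ := isConj_iff.mp (B.isConj_of_fused h.h1 h.h2 hz hz1 ht)
  have hle : centralizer ({t} : Set G) ≤ cj g (B.S : Subgroup G) := by
    intro x hx
    refine mem_cj.mpr (h.cent z hz hz1 _ ?_)
    have hx' : x * t = t * x := Subgroup.mem_centralizer_singleton_iff.mp hx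
    calc g⁻¹ * x * g * z = g⁻¹ * (x * (g * z * g⁻¹)) * g := by group
      _ = g⁻¹ * (g * z * g⁻¹ * x) * g := by rw [hg, hx']
      _ = _ := by group
  exact ((B.S.isPGroup').map (MulAut.conj g).toMonoidHom).to_le hle

/-- The normaliser of the first piece has order 960. -/
theorem Small.card_normalizer (h : B.Small) : Nat.card (normalizer (B.E₁ : Set G)) = 960 := by
  classical
  obtain ⟨z, hz, hz1⟩ := B.exists_Z_ne
  set N := normalizer (B.E₁ : Set G)
  have hcard : Nat.card {e : B.E₁ // e ≠ 1} = 15 := by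
    haveI := Fintype.ofFinite B.E₁
    rw [Nat.card_eq_fintype_card, Fintype.card_subtype_compl, Fintype.card_subtype_eq, ← Nat.card_eq_fintype_card,
      B.card_E₁]
  rw [show 960 = Nat.card {e : B.E₁ // e ≠ 1} * 64 by rw [hcard]]
  refine card_eq_mul_of_fibres (fun m : N => (⟨⟨(m : G) * z * (m : G)⁻¹,
    (Subgroup.mem_normalizer_iff.mp m.2 z).mp (B.Z_le₁ hz)⟩, fun e => hz1 (conj_eq_one_iff.mp (congrArg Subtype.val e))⟩ :
      {e : B.E₁ // e ≠ 1})) fun e => ?_
  obtain ⟨n, hn, hnz⟩ := B.transitive₁ h.h1 hz hz1 e.1.2 (fun h => e.2 (Subtype.ext h))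
  rw [← B.card_S]
  refine Nat.card_congr
    { toFun := fun m => ⟨n⁻¹ * (m.1 : G), h.cent z hz hz1 _ ?_⟩
      invFun := fun s => ⟨⟨n * (s : G), mul_mem hn (B.S_le_normalizer₁ s.2)⟩, Subtype.ext (Subtype.ext ?_)⟩
      left_inv := fun m => Subtype.ext (Subtype.ext (mul_inv_cancel_left n (m.1 : G)))
      right_inv := fun s => Subtype.ext (inv_mul_cancel_left n (s : G)) }
  · have h' : (m.1 : G) * z * (m.1 : G)⁻¹ = n * z * n⁻¹ :=
      (congrArg (fun x : {e : B.E₁ // e ≠ 1} => ((x.1 : B.E₁) : G)) m.2).trans hnz.symm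
    calc n⁻¹ * (m.1 : G) * z = n⁻¹ * ((m.1 : G) * z * (m.1 : G)⁻¹) * m.1 := by group
      _ = n⁻¹ * (n * z * n⁻¹) * m.1 := by rw [h']
      _ = _ := by group
  · show n * (s : G) * z * (n * (s : G))⁻¹ = _
    rw [← hnz, mul_assoc n, ← B.Z_comm hz s.2]
    group

theorem Small.normalizer_Z (h : B.Small) {g : G} (hg : g ∈ normalizer (B.E₁ : Set G))
    (hgZ : g ∈ normalizer (B.Z : Set G)) : g ∈ normalizer ((B.S : Subgroup G) : Set G) := by
  obtain ⟨n, hn, hgn⟩ := B.exists_sameOn_normalizer hg hgZ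
  obtain ⟨z, hz, hz1⟩ := B.exists_Z_ne
  have hc : n⁻¹ * g * z = z * (n⁻¹ * g) := by
    calc n⁻¹ * g * z = n⁻¹ * (g * z * g⁻¹) * g := by group
      _ = n⁻¹ * (n * z * n⁻¹) * g := by rw [hgn z (B.Z_le₁ hz)]
      _ = _ := by group
  have := mul_mem hn (Subgroup.le_normalizer (h.cent z hz hz1 _ hc))
  rwa [mul_inv_cancel_left] at this

theorem Small.centralizer_le (h : B.Small) : centralizer (B.E₁ : Set G) ≤ B.E₁ := by
  intro g hg
  obtain ⟨z, hz, hz1⟩ := B.exists_Z_ne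
  obtain ⟨x, hx, hxZ⟩ : ∃ x ∈ B.E₁, x ∉ B.Z :=
    ⟨B.pt ⟨1, 0, 0⟩, B.pt_mem_E₁.mpr rfl, fun h => one_ne_zero (B.pt_mem_Z.mp h).1⟩
  have hs := h.cent z hz hz1 g (Subgroup.mem_centralizer_iff.mp hg z (B.Z_le₁ hz)).symm
  exact B.mem_E₁_of_comm hx hxZ hs (Subgroup.mem_centralizer_iff.mp hg x hx)

/-- An element moving the centre to the standard complement. -/
theorem exists_upper {ρ : ↥(normalizer (B.E₁ : Set G)) →* GL (Fin 2) F}
    (hρ : ∀ m x, B.img m x = ((ρ m : Matrix (Fin 2) (Fin 2) F) 0 0 * x.1 + (ρ m : Matrix (Fin 2) (Fin 2) F) 0 1 * x.2,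
      (ρ m : Matrix (Fin 2) (Fin 2) F) 1 0 * x.1 + (ρ m : Matrix (Fin 2) (Fin 2) F) 1 1 * x.2))
    (hA : B.Adapted) :
    ∃ g : ↥(normalizer (B.E₁ : Set G)), (ρ g : Matrix (Fin 2) (Fin 2) F) 1 1 = 0 ∧
      (ρ g : Matrix (Fin 2) (Fin 2) F) 0 1 ≠ 0 := by
  obtain ⟨g, hg, hline⟩ := hA
  refine ⟨⟨g, hg⟩, ?_⟩
  have h : B.q (B.img ⟨g, hg⟩ (0, 1)) ∈ cj g B.Z := by
    rw [B.q_img]
    exact conj_mem_cj (B.q_mem_Z.mpr rfl)
  have h2 := (hline _).mp h
  rw [hρ] at h2
  simp only [mul_zero, mul_one, zero_add] at h2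
  refine ⟨h2, fun h1 => ?_⟩
  have hz : B.img ⟨g, hg⟩ (0, 1) = B.img ⟨g, hg⟩ 0 := by
    rw [B.img_zero, hρ]
    simp only [mul_zero, mul_one, zero_add, h1, h2]
    rfl
  have := congrArg Prod.snd (B.img_injective _ hz)
  exact one_ne_zero this

open Matrix in
/-- **The action on the piece is that of `SL(2,4)`.** -/
theorem Small.exists_sl (h : B.Small) :
    ∃ f : ↥(normalizer (B.E₁ : Set G)) →* Matrix.SpecialLinearGroup (Fin 2) F,
      Function.Surjective f ∧ (∀ m, m ∈ f.ker ↔ (m : G) ∈ B.E₁) ∧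
      ∀ s : ↥(normalizer (B.E₁ : Set G)), (s : G) ∈ (B.S : Subgroup G) → (f s).1 0 1 = 0 := by
  classical
  obtain ⟨B', hS, hZ, hE₁, hE₂, hA⟩ := B.exists_adapted h.h1
  have h' := h.congr hS hZ hE₁ hE₂
  rw [← hE₁, ← hS]
  haveI := finite_four B.hF
  haveI := Fintype.ofFinite F
  set N := normalizer (B'.E₁ : Set G)
  obtain ⟨ρ, hker, hρ⟩ := B'.exists_rho hA
  have hkerE : ∀ m : N, m ∈ ρ.ker ↔ (m : G) ∈ B'.E₁ := fun m => by
    rw [hker]
    exact ⟨fun hm => h'.centralizer_le hm,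
      fun hm => Subgroup.mem_centralizer_iff.mpr fun e he => B'.comm_E₁ he hm⟩
  have hS' : ∀ s : N, (s : G) ∈ (B'.S : Subgroup G) → (ρ s : Matrix (Fin 2) (Fin 2) F) 0 1 = 0 := by
    intro s hs
    obtain ⟨u, hu⟩ := B'.exists_pt hs
    have h1 : B'.img s (0, 1) = (0, 1) := B'.q_injective (by
      rw [B'.q_img, ← hu]
      exact mul_inv_eq_iff_eq_mul.mpr (B'.Z_comm (B'.q_mem_Z.mpr rfl) (B'.pt_mem u)).symm)
    rw [hρ] at h1
    simpa using congrArg Prod.fst h1
  -- the transvections in the image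
  have hlow : ∀ t : F, ∃ m : N, (ρ m : Matrix (Fin 2) (Fin 2) F) = !![1, 0; t, 1] := by
    intro t
    refine ⟨⟨B'.pt ⟨0, t, 0⟩, B'.S_le_normalizer₁ (B'.pt_mem _)⟩, ?_⟩
    have key : ∀ x, B'.img ⟨B'.pt ⟨0, t, 0⟩, B'.S_le_normalizer₁ (B'.pt_mem _)⟩ x = (x.1, x.2 + x.1 * t) := fun x =>
      B'.q_injective (by rw [B'.q_img]; exact B'.shift_q t x)
    have h1 := (hρ _ (1, 0)).symm.trans (key (1, 0))
    have h2 := (hρ _ (0, 1)).symm.trans (key (0, 1))
    simp only [mul_one, mul_zero, add_zero, zero_add, one_mul, zero_mul, Prod.mk.injEq] at h1 h2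
    rw [Matrix.eta_fin_two ((ρ _ : Matrix (Fin 2) (Fin 2) F)), h1.1, h1.2, h2.1, h2.2]
  obtain ⟨g, hg11, hg01⟩ := exists_upper hρ hA
  set M := (ρ g : Matrix (Fin 2) (Fin 2) F)
  have hup : ∀ t : F, ∃ m : N, (ρ m : Matrix (Fin 2) (Fin 2) F) = !![1, t; 0, 1] := by
    intro t
    set b := M 0 1
    set c := M 1 0
    have hc : c ≠ 0 := fun hc => by
      have hdet := (Matrix.isUnit_iff_isUnit_det _).mp (ρ g).isUnit
      rw [Matrix.det_fin_two] at hdet
      have : M 0 0 * M 1 1 - M 0 1 * M 1 0 = 0 := by rw [show M 1 0 = c from rfl, hc, hg11]; ring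
      exact hdet.ne_zero this
    obtain ⟨m, hm⟩ := hlow (t * c / b)
    refine ⟨g * m * g⁻¹, ?_⟩
    have e : M * (ρ m : Matrix (Fin 2) (Fin 2) F) = !![1, t; 0, 1] * M := by
      rw [hm, Matrix.eta_fin_two M, hg11, Matrix.mul_fin_two, Matrix.mul_fin_two]
      ext i j
      fin_cases i <;> fin_cases j <;> simp [hg01]
      field_simp
      ring
    rw [map_mul, map_mul, map_inv, Units.val_mul, Units.val_mul, e, Matrix.mul_assoc, ← Units.val_mul,
      mul_inv_cancel, Units.val_one, Matrix.mul_one]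
  let Im : Set (Matrix (Fin 2) (Fin 2) F) := Set.range fun m : N => (ρ m : Matrix (Fin 2) (Fin 2) F)
  have hmul : ∀ X ∈ Im, ∀ Y ∈ Im, X * Y ∈ Im := by
    rintro _ ⟨a, rfl⟩ _ ⟨b, rfl⟩
    exact ⟨a * b, by simp⟩
  have hsl : ∀ A : Matrix (Fin 2) (Fin 2) F, A.det = 1 → A ∈ Im := by
    have hne : ∀ A : Matrix (Fin 2) (Fin 2) F, A.det = 1 → A 1 0 ≠ 0 → A ∈ Im := by
      intro A hA hc
      obtain ⟨u1, hu1⟩ := hup ((A 0 0 - 1) / A 1 0)
      obtain ⟨l, hl⟩ := hlow (A 1 0)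
      obtain ⟨u2, hu2⟩ := hup ((A 1 1 - 1) / A 1 0)
      have e : A = !![1, (A 0 0 - 1) / A 1 0; 0, 1] * !![1, 0; A 1 0, 1] * !![1, (A 1 1 - 1) / A 1 0; 0, 1] := by
        rw [Matrix.det_fin_two] at hA
        conv_lhs => rw [Matrix.eta_fin_two A]
        rw [Matrix.mul_fin_two, Matrix.mul_fin_two]
        ext i j
        fin_cases i <;> fin_cases j <;> simp <;> field_simp
        all_goals first | linear_combination hA | linear_combination -hA | ring
      rw [e]
      exact hmul _ (hmul _ ⟨u1, hu1⟩ _ ⟨l, hl⟩) _ ⟨u2, hu2⟩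
    intro A hA
    by_cases hc : A 1 0 = 0
    · obtain ⟨l, hl⟩ := hlow (-1)
      have ha : A 0 0 ≠ 0 := by
        intro ha
        rw [Matrix.det_fin_two, ha, hc] at hA
        simp at hA
      have hX : (!![(1 : F), 0; 1, 1] * A) 1 0 ≠ 0 := by
        simp [Matrix.mul_apply, Fin.sum_univ_two, hc, ha]
      have hd : (!![(1 : F), 0; 1, 1] * A).det = 1 := by rw [Matrix.det_mul, hA]; simp [Matrix.det_fin_two]
      have e : A = !![(1 : F), 0; -1, 1] * (!![(1 : F), 0; 1, 1] * A) := by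
        have e1 : !![(1 : F), 0; -1, 1] * !![(1 : F), 0; 1, 1] = 1 := by
          rw [Matrix.mul_fin_two, Matrix.one_fin_two]
          ext i j
          fin_cases i <;> fin_cases j <;> simp
        rw [← Matrix.mul_assoc, e1, Matrix.one_mul]
      rw [e]
      exact hmul _ ⟨l, hl⟩ _ (hne _ hd hX)
    · exact hne A hA hc
  choose σ hσ using fun A : Matrix.SpecialLinearGroup (Fin 2) F => hsl A.1 A.2
  have hcardR : Nat.card ρ.range = 60 := by
    have h1 := ρ.ker.card_mul_index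
    rw [Subgroup.index_ker] at h1
    have h16 : Nat.card ρ.ker = 16 := by
      rw [← B'.card_E₁]
      exact Nat.card_congr
        { toFun := fun m => ⟨m.1.1, (hkerE m.1).mp m.2⟩
          invFun := fun e => ⟨⟨e.1, Subgroup.le_normalizer e.2⟩, (hkerE _).mpr e.2⟩
          left_inv := fun _ => rfl
          right_inv := fun _ => rfl }
    rw [h16, h'.card_normalizer] at h1
    omega
  have hcardSL : Nat.card (Matrix.SpecialLinearGroup (Fin 2) F) = 60 := by
    rw [CfsgLib.SLCard.card_SL_two, ← Nat.card_eq_fintype_card, B.hF]; norm_num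
  have hbij : Function.Bijective fun A : Matrix.SpecialLinearGroup (Fin 2) F => (⟨ρ (σ A), ⟨_, rfl⟩⟩ : ρ.range) := by
    refine Function.Injective.bijective_of_nat_card_le (fun A A' e => ?_) (by rw [hcardR, hcardSL])
    have e' : (ρ (σ A) : Matrix (Fin 2) (Fin 2) F) = (ρ (σ A') : Matrix (Fin 2) (Fin 2) F) :=
      congrArg (fun x : ρ.range => ((x : GL (Fin 2) F) : Matrix (Fin 2) (Fin 2) F)) e
    exact Subtype.ext (((hσ A).symm.trans e').trans (hσ A'))
  have hdet : ∀ m : N, (ρ m : Matrix (Fin 2) (Fin 2) F).det = 1 := by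
    intro m
    obtain ⟨A, hA⟩ := hbij.2 ⟨ρ m, ⟨m, rfl⟩⟩
    have e' : (ρ (σ A) : Matrix (Fin 2) (Fin 2) F) = (ρ m : Matrix (Fin 2) (Fin 2) F) :=
      congrArg (fun x : ρ.range => ((x : GL (Fin 2) F) : Matrix (Fin 2) (Fin 2) F)) hA
    rw [← e', show (ρ (σ A) : Matrix (Fin 2) (Fin 2) F) = A.1 from hσ A]
    exact A.2
  let f : N →* Matrix.SpecialLinearGroup (Fin 2) F :=
    { toFun := fun m => ⟨(ρ m : Matrix (Fin 2) (Fin 2) F), hdet m⟩
      map_one' := Subtype.ext (by simp)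
      map_mul' := fun a b => Subtype.ext (by simp; rfl) }
  refine ⟨f, fun A => ⟨σ A, Subtype.ext (hσ A)⟩, fun m => ?_, fun s hs => hS' s hs⟩
  rw [← hkerE, MonoidHom.mem_ker, MonoidHom.mem_ker]
  exact ⟨fun hm => Units.ext (congrArg Subtype.val hm), fun hm => Subtype.ext (congrArg Units.val hm)⟩

/-- **The first piece.** -/
theorem Small.piece (h : B.Small) : CIT.Piece (B.S : Subgroup G) B.E₁ 2 := by
  classical
  haveI := two_fact
  haveI := finite_four B.hF
  haveI := Fintype.ofFinite F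
  set N := normalizer (B.E₁ : Set G) with hN
  obtain ⟨f, hf, hfker, hfS⟩ := h.exists_sl
  have hsyl : CIT.IsSyl (B.S : Subgroup G) N := CIT.IsSyl.of_sylow B.S B.S_le_normalizer₁
  have hle : CIT.O2 N ≤ B.E₁ := by
    intro x hx
    -- the image lies in every conjugate of the lower triangular group
    obtain ⟨g, hg⟩ := hf ⟨!![0, 1; -1, 0], by simp [Matrix.det_fin_two]⟩
    have hxN := CIT.O2_le N hx
    have hxS := CIT.O2_le_syl hsyl hx
    have hy : (g : G)⁻¹ * x * (g : G) ∈ CIT.O2 N := by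
      have := (Subgroup.mem_normalizer_iff.mp (CIT.le_normalizer_O2 N (inv_mem g.2)) x).mp hx
      simpa using this
    have h2 := hfS (g⁻¹ * ⟨x, hxN⟩ * g) (CIT.O2_le_syl hsyl hy)
    have h1 := hfS ⟨x, hxN⟩ hxS
    set A := f ⟨x, hxN⟩ with hA
    rw [map_mul, map_mul, map_inv, hg, ← hA] at h2
    have h2' : ((!![(0 : F), 1; -1, 0]).adjugate * A.1 * !![(0 : F), 1; -1, 0]) 0 1 = 0 := h2
    rw [Matrix.adjugate_fin_two, Matrix.eta_fin_two A.1, Matrix.mul_fin_two] at h2'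
    simp [Matrix.mul_apply, Fin.sum_univ_two] at h2'
    have h10 : A.1 1 0 = 0 := by simpa using h2'
    refine (hfker ⟨x, hxN⟩).mp (MonoidHom.mem_ker.mpr ?_)
    have hdiag : A.1 0 0 * A.1 1 1 = 1 := by
      have := A.2
      rw [Matrix.det_fin_two, h1, zero_mul, sub_zero] at this
      exact this
    obtain ⟨k, hk⟩ := (CIT.O2_two N) ⟨x, hx⟩
    have hk' : (⟨x, hxN⟩ : N) ^ 2 ^ k = 1 := Subtype.ext (congrArg (fun y : CIT.O2 N => (y : G)) hk)
    have h3 : A ^ 3 = 1 := by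
      refine Subtype.ext ?_
      have ha0 : A.1 0 0 ≠ 0 := left_ne_zero_of_mul_eq_one hdiag
      have hd0 : A.1 1 1 ≠ 0 := right_ne_zero_of_mul_eq_one hdiag
      rw [Matrix.SpecialLinearGroup.coe_pow, Matrix.SpecialLinearGroup.coe_one, Matrix.eta_fin_two A.1, h1, h10,
        pow_three, Matrix.mul_fin_two, Matrix.mul_fin_two, Matrix.one_fin_two]
      ext i j
      fin_cases i <;> fin_cases j <;> simp
      · rw [← pow_three]; exact L34Sylow.cube B.hF ha0
      · rw [← pow_three]; exact L34Sylow.cube B.hF hd0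
    refine orderOf_eq_one_iff.mp (Nat.eq_one_of_dvd_coprimes (a := 2 ^ k) (b := 3)
      ((show Nat.Coprime 2 3 by norm_num).pow_left k) ?_ (orderOf_dvd_of_pow_eq_one h3))
    exact orderOf_dvd_of_pow_eq_one ((map_pow f _ _).symm.trans ((congrArg f hk').trans (map_one f)))
  have hcore : CIT.O2 N = B.E₁ := le_antisymm hle (CIT.le_O2 B.isPGroup_E₁ Subgroup.le_normalizer le_rfl)
  refine ⟨⟨hsyl, ?_, ?_⟩, hcore, B.E₁_le, by rw [B.card_E₁]; norm_num, fun x hx => B.sq_E₁ hx, ?_⟩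
  · rw [hcore]
    intro e
    have := B.card_E₁
    rw [e, Subgroup.card_bot] at this
    omega
  · intro hn
    obtain ⟨z, hz, hz1⟩ := B.exists_Z_ne
    obtain ⟨g, hg, hdis⟩ := B.exists_disjoint h.h1
    have hgZ : g ∈ normalizer (B.Z : Set G) := B.mem_normalizer_Z (hn hg)
    exact hz1 (hdis z hz (by rw [cj_eq_of_mem hgZ]; exact hz))
  · haveI : Fintype (GaloisField 2 2) := Fintype.ofFinite _
    have hcF : Fintype.card (GaloisField 2 2) = 4 := by
      rw [← Nat.card_eq_fintype_card, GaloisField.card 2 2 two_ne_zero]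
      norm_num
    let r : F ≃+* GaloisField 2 2 := FiniteField.ringEquivOfCardEq (by
      rw [hcF, ← Nat.card_eq_fintype_card, B.hF])
    let es : Matrix.SpecialLinearGroup (Fin 2) F ≃* Matrix.SpecialLinearGroup (Fin 2) (GaloisField 2 2) :=
      { Matrix.SpecialLinearGroup.map (r : F →+* GaloisField 2 2) with
        invFun := Matrix.SpecialLinearGroup.map (r.symm : GaloisField 2 2 →+* F)
        left_inv := fun A => Subtype.ext (Matrix.ext fun i j => r.symm_apply_apply _)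
        right_inv := fun A => Subtype.ext (Matrix.ext fun i j => r.apply_symm_apply _) }
    refine ⟨GaloisField 2 2, inferInstance, inferInstance, by rw [hcF]; norm_num,
      (QuotientGroup.mk' _).comp (es.toMonoidHom.comp f),
      (QuotientGroup.mk'_surjective _).comp (es.surjective.comp hf), ?_⟩
    ext m
    rw [MonoidHom.mem_ker, MonoidHom.comp_apply, QuotientGroup.mk'_apply, QuotientGroup.eq_one_iff,
      Subgroup.mem_subgroupOf, ← hfker, MonoidHom.mem_ker, MonoidHom.comp_apply]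
    constructor
    · intro hm
      refine es.injective ?_
      rw [map_one]
      obtain ⟨a, ha, hm'⟩ := Matrix.SpecialLinearGroup.mem_center_iff.mp hm
      refine Subtype.ext ?_
      rw [Fintype.card_fin] at ha
      have hF' : Nat.card (GaloisField 2 2) = 4 := by rw [Nat.card_eq_fintype_card, hcF]
      have ha1 : a = 1 := sub_eq_zero.mp (mul_self_eq_zero.mp
        (show (a - 1) * (a - 1) = 0 by linear_combination ha + (1 - a) * two_eq_zero hF'))
      change (es (f m)).1 = (1 : Matrix (Fin 2) (Fin 2) (GaloisField 2 2))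
      rw [show (es.toMonoidHom (f m)).1 = (es (f m)).1 from rfl] at hm'
      rw [← hm', ha1]
      simp
    · intro hm
      rw [hm, map_one]
      exact one_mem _

/-- **The configuration.** -/
theorem Small.pair (h : B.Small) : CIT.Pair4 (B.S : Subgroup G) B.E₁ B.E₂ := by
  refine ⟨h.piece, ?_, B.E₁_ne_E₂, by rw [B.card_S]; norm_num, h.isCIT, fun R hR hle => B.S.is_maximal' hR hle⟩
  have := h.swap.piece
  rwa [swap_E₁, swap_S] at this

end Base

end CfsgLib.L34Sylow
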