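import Cfsg.Agent.Lib.L34Sylow.ThreeSwap
import Cfsg.Agent.Lib.L34Sylow.ThreeOdd
import Cfsg.Agent.Lib.L34Sylow.FourInvol

/-!
The centraliser of an element of order three centralising the centre of the Sylow subgroup.

Blueprint: `blueprint/S3198.md`, section 5.
-/

set_option autoImplicit false
set_option linter.unusedSectionVars false
set_option linter.style.haveILetI false

namespace CfsgLib.L34Sylow

open Subgroup Cfsg

universe u

variable {G : Type u} [Group G] [Finite G] {F : Type*} [Field F]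

namespace Base

variable (B : Base G F)

/-- An element of two-power order of the normaliser lies in the Sylow subgroup. -/
theorem mem_S_of_two_pow {n : G} (hn : n ∈ normalizer ((B.S : Subgroup G) : Set G)) {k : ℕ} (hk : n ^ 2 ^ k = 1) :
    n ∈ (B.S : Subgroup G) := by
  obtain ⟨j, hj⟩ := B.exists_odd_pow_mem hn
  have hco : (2 * j + 1).Coprime (orderOf n) :=
    ((Nat.coprime_two_left.mpr ⟨j, rfl⟩).pow_left k).symm.coprime_dvd_right (orderOf_dvd_of_pow_eq_one hk)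
  obtain ⟨i, hi⟩ := exists_pow_eq_self_of_coprime hco
  rw [← hi]
  exact pow_mem hj i

/-- A torus with the two swaps. -/
structure Frame where
  h : B.Three
  τ : B.Torus
  w : F
  hw0 : w ≠ 0
  hw1 : w ≠ 1
  u : G
  v : G
  hu2 : u * u = 1
  hv2 : v * v = 1
  hu : ∀ l m : F, l ≠ 0 → m ≠ 0 → u * τ.t l m * u⁻¹ = τ.t (l * m) m⁻¹
  hv : ∀ l m : F, l ≠ 0 → m ≠ 0 → v * τ.t l m * v⁻¹ = τ.t l⁻¹ (l * m)

variable {B}

theorem Three.exists_frame (h : B.Three) : Nonempty B.Frame := by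
  obtain ⟨τ⟩ := h.exists_torus
  obtain ⟨w, hw0, hw1⟩ := exists_omega B.hF
  obtain ⟨u, -, hu2, hu⟩ := τ.exists_swap h hw0 hw1
  obtain ⟨v, -, hv2, hv⟩ := τ.swap.exists_swap h.swap hw0 hw1
  refine ⟨⟨h, τ, w, hw0, hw1, u, v, hu2, hv2, hu, fun l m hl hm => ?_⟩⟩
  have := hv m l hm hl
  change v * τ.t l m * v⁻¹ = τ.t l⁻¹ (m * l) at this
  rw [this, mul_comm]

namespace Frame

variable (P : B.Frame)

/-- The square of the generator. -/
abbrev q : F := P.w * P.w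

theorem hq0 : P.q ≠ 0 := mul_ne_zero P.hw0 P.hw0

theorem w_q : P.w * P.q = 1 := by
  rw [q, ← pow_three]; exact L34Sylow.cube B.hF P.hw0

theorem q_w : P.q * P.w = 1 := by rw [mul_comm]; exact P.w_q

theorem q_q : P.q * P.q = P.w := by
  calc P.q * P.q = P.w * (P.w * P.q) := by rw [q]; ring
    _ = P.w := by rw [P.w_q, mul_one]

theorem inv_w : P.w⁻¹ = P.q := inv_eq_of_mul_eq_one_right P.w_q

theorem inv_q : P.q⁻¹ = P.w := inv_eq_of_mul_eq_one_right P.q_w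

theorem hq1 : P.q ≠ 1 := fun e => P.hw1 (by have := P.w_q; rwa [e, mul_one] at this)

theorem w_ne_q : P.w ≠ P.q := fun e => P.hw1 (by
  refine mul_left_cancel₀ P.hw0 ?_
  rw [mul_one]; exact e.symm)

/-- The element centralising the centre. -/
def d : G := P.τ.t P.w P.q

/-- The element acting on the centre and centralised by `σ`. -/
def e : G := P.τ.t P.q P.q

/-- The involution inverting `e` and fixing `d`. -/
def u₀ : G := P.u * P.v * P.u

/-- The element of order three permuting the triple. -/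
def σ : G := P.u * P.v

theorem d_mem : P.d ∈ P.τ.T := P.τ.mem P.hw0 P.hq0

theorem e_mem : P.e ∈ P.τ.T := P.τ.mem P.hq0 P.hq0

theorem orderOf_d : orderOf P.d = 3 := by
  haveI : Fact (Nat.Prime 3) := ⟨Nat.prime_three⟩
  refine orderOf_eq_prime (P.τ.cube P.d_mem) fun h => P.hw1 ?_
  rw [← P.τ.one] at h
  exact (P.τ.inj P.hw0 P.hq0 one_ne_zero one_ne_zero h).1

theorem orderOf_e : orderOf P.e = 3 := by
  haveI : Fact (Nat.Prime 3) := ⟨Nat.prime_three⟩
  refine orderOf_eq_prime (P.τ.cube P.e_mem) fun h => P.hq1 ?_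
  rw [← P.τ.one] at h
  exact (P.τ.inj P.hq0 P.hq0 one_ne_zero one_ne_zero h).1

theorem conj_u {l m : F} (hl : l ≠ 0) (hm : m ≠ 0) : P.u * P.τ.t l m * P.u⁻¹ = P.τ.t (l * m) m⁻¹ := P.hu l m hl hm

theorem conj_u₀ {l m : F} (hl : l ≠ 0) (hm : m ≠ 0) : P.u₀ * P.τ.t l m * P.u₀⁻¹ = P.τ.t m⁻¹ l⁻¹ := by
  rw [u₀, show P.u * P.v * P.u * P.τ.t l m * (P.u * P.v * P.u)⁻¹ =
    P.u * (P.v * (P.u * P.τ.t l m * P.u⁻¹) * P.v⁻¹) * P.u⁻¹ by group, P.hu l m hl hm,
    P.hv _ _ (mul_ne_zero hl hm) (inv_ne_zero hm), P.hu _ _ (inv_ne_zero (mul_ne_zero hl hm))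
      (mul_ne_zero (mul_ne_zero hl hm) (inv_ne_zero hm))]
  congr 1 <;> field_simp

theorem conj_σ {l m : F} (hl : l ≠ 0) (hm : m ≠ 0) : P.σ * P.τ.t l m * P.σ⁻¹ = P.τ.t m (l * m)⁻¹ := by
  rw [σ, show P.u * P.v * P.τ.t l m * (P.u * P.v)⁻¹ = P.u * (P.v * P.τ.t l m * P.v⁻¹) * P.u⁻¹ by group,
    P.hv l m hl hm, P.hu _ _ (inv_ne_zero hl) (mul_ne_zero hl hm)]
  congr 1
  field_simp

theorem u₀_sq : P.u₀ * P.u₀ = 1 := by
  rw [u₀, show P.u * P.v * P.u * (P.u * P.v * P.u) = P.u * P.v * (P.u * P.u) * P.v * P.u by group, P.hu2, mul_one,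
    mul_assoc P.u, P.hv2, mul_one, P.hu2]

theorem u₀_inv : P.u₀⁻¹ = P.u₀ := inv_eq_of_mul_eq_one_right P.u₀_sq

theorem u₀_σ : P.u₀ * P.σ * P.u₀⁻¹ = P.σ⁻¹ := by
  have hu : P.u⁻¹ = P.u := inv_eq_of_mul_eq_one_right P.hu2
  have hv : P.v⁻¹ = P.v := inv_eq_of_mul_eq_one_right P.hv2
  simp only [u₀, σ, mul_inv_rev, hu, hv]
  rw [show P.u * P.v * P.u * (P.u * P.v) * (P.u * (P.v * P.u)) =
      P.u * P.v * (P.u * P.u) * P.v * P.u * P.v * P.u by group, P.hu2, mul_one, mul_assoc P.u, P.hv2, mul_one,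
    P.hu2, one_mul]

theorem u₀_d : P.u₀ * P.d * P.u₀⁻¹ = P.d := by
  rw [d, P.conj_u₀ P.hw0 P.hq0, P.inv_q, P.inv_w]

theorem u₀_e : P.u₀ * P.e * P.u₀⁻¹ = P.e⁻¹ := by
  rw [e, P.conj_u₀ P.hq0 P.hq0, P.τ.inv P.hq0 P.hq0]

theorem σ_e : P.σ * P.e * P.σ⁻¹ = P.e := by
  rw [e, P.conj_σ P.hq0 P.hq0, P.q_q, P.inv_w]

theorem σ_d : P.σ * P.d * P.σ⁻¹ = P.d * P.e⁻¹ := by
  rw [d, e, P.conj_σ P.hw0 P.hq0, P.w_q, inv_one, P.τ.inv P.hq0 P.hq0, P.inv_q,
    P.τ.mul P.hw0 P.hq0 P.hw0 P.hw0, P.q_w]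

theorem d_comm_Z {z : G} (hz : z ∈ B.Z) : P.d * z = z * P.d := by
  obtain ⟨c, rfl⟩ : ∃ c, B.pt ⟨0, 0, c⟩ = z := B.pt_c hz
  refine mul_inv_eq_iff_eq_mul.mp ?_
  rw [d, (P.τ.acts P.hw0 P.hq0).conj_Z B (P.τ.mem_N P.hw0 P.hq0), P.w_q, one_mul]

theorem mem_Z_of_comm {s : G} (hs : s ∈ (B.S : Subgroup G)) (h : s * P.d = P.d * s) : s ∈ B.Z := by
  obtain ⟨u, rfl⟩ := B.exists_pt hs
  obtain ⟨v, hv, ha, hb⟩ := (P.τ.acts P.hw0 P.hq0).2.2 u
  change P.d * B.pt u * P.d⁻¹ = _ at hv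
  rw [← h, mul_inv_cancel_right] at hv
  rw [← B.pt_injective hv] at ha hb
  refine B.pt_mem_Z.mpr ⟨?_, ?_⟩
  · by_contra h0
    exact P.hw1 (mul_right_cancel₀ h0 (by rw [one_mul]; exact ha.symm))
  · by_contra h0
    exact P.hq1 (mul_right_cancel₀ h0 (by rw [one_mul]; exact hb.symm))

theorem exists_cent_z {z g : G} (hz : z ∈ B.Z) (hz1 : z ≠ 1) (hg : g * z = z * g) :
    ∃ s ∈ (B.S : Subgroup G), ∃ i : ℕ, g = s * P.d ^ i := by
  have hn := P.h.cent_le hz hz1 hg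
  obtain ⟨l, m, hA⟩ := B.exists_acts hn
  obtain ⟨c, rfl⟩ : ∃ c, B.pt ⟨0, 0, c⟩ = z := B.pt_c hz
  have hlm := acts_comm hn hA (B.c_ne_zero hz1) hg
  obtain ⟨i, hi⟩ : ∃ i : ℕ, B.Acts (P.d ^ i) l m := by
    have hm : m = l⁻¹ := eq_inv_of_mul_eq_one_right hlm
    rw [hm]
    rcases cases_four B.hF P.hw0 P.hw1 l with e | e | e | e
    · exact absurd e hA.1
    · exact ⟨0, by rw [e, pow_zero, inv_one]; exact B.acts_one⟩
    · exact ⟨1, by rw [e, pow_one, P.inv_w]; exact P.τ.acts P.hw0 P.hq0⟩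
    · refine ⟨2, ?_⟩
      rw [e, ← quad B.hF P.hw0 P.hw1, pow_two P.w, pow_two P.d, mul_inv, P.inv_w]
      exact B.acts_mul (P.τ.acts P.hw0 P.hq0) (P.τ.acts P.hw0 P.hq0)
  have hN : P.d ^ i ∈ normalizer ((B.S : Subgroup G) : Set G) := pow_mem (P.τ.le P.d_mem) i
  refine ⟨g * (P.d ^ i)⁻¹, P.h.mem_S (mul_mem hn (inv_mem hN)) ?_, i, (inv_mul_cancel_right _ _).symm⟩
  have := B.acts_mul hA (B.acts_inv hN hi)
  rwa [mul_inv_cancel₀ hA.1, mul_inv_cancel₀ hA.2.1] at this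

theorem cent_inter {z g : G} (hz : z ∈ B.Z) (hz1 : z ≠ 1) (hg : g * z = z * g) (hgd : g * P.d = P.d * g) :
    ∃ s ∈ B.Z, ∃ i : ℕ, g = s * P.d ^ i := by
  obtain ⟨s, hs, i, rfl⟩ := P.exists_cent_z hz hz1 hg
  refine ⟨s, P.mem_Z_of_comm hs ?_, i, rfl⟩
  refine mul_right_cancel (b := P.d ^ i) ?_
  rw [mul_assoc, ← pow_succ', pow_succ, ← mul_assoc, hgd, mul_assoc]

/-- The centraliser of `d` and of a central involution has order twelve. -/
theorem card_inter {z : G} (hz : z ∈ B.Z) (hz1 : z ≠ 1) :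
    Nat.card (centralizer ({P.d} : Set G) ⊓ centralizer ({z} : Set G) : Subgroup G) = 12 := by
  set M := (centralizer ({P.d} : Set G) ⊓ centralizer ({z} : Set G) : Subgroup G)
  have hd : P.d ∈ M := Subgroup.mem_inf.mpr ⟨Subgroup.mem_centralizer_singleton_iff.mpr rfl,
    Subgroup.mem_centralizer_singleton_iff.mpr (P.d_comm_Z hz)⟩
  have hZ : B.Z ≤ M := fun y hy => Subgroup.mem_inf.mpr
    ⟨Subgroup.mem_centralizer_singleton_iff.mpr (P.d_comm_Z hy).symm,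
      Subgroup.mem_centralizer_singleton_iff.mpr (B.Z_comm hy (B.Z_le hz))⟩
  have h12 : 12 ∣ Nat.card M := by
    refine Nat.Coprime.mul_dvd_of_dvd_of_dvd (show Nat.Coprime 4 3 by norm_num) ?_ ?_
    · rw [← B.card_Z]; exact Subgroup.card_dvd_of_le hZ
    · rw [← P.orderOf_d]; exact Subgroup.orderOf_dvd_natCard _ hd
  refine le_antisymm ?_ (Nat.le_of_dvd Nat.card_pos h12)
  rw [show 12 = Nat.card (B.Z × zpowers P.d) by rw [Nat.card_prod, B.card_Z, Nat.card_zpowers, P.orderOf_d]]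
  refine Nat.card_le_card_of_surjective (fun p => ⟨(p.1 : G) * p.2, mul_mem (hZ p.1.2) (zpowers_le.mpr hd p.2.2)⟩)
    fun x => ?_
  obtain ⟨s, hs, i, e⟩ := P.cent_inter hz hz1 (Subgroup.mem_centralizer_singleton_iff.mp x.2.2)
    (Subgroup.mem_centralizer_singleton_iff.mp x.2.1)
  exact ⟨(⟨s, hs⟩, ⟨_, Subgroup.npow_mem_zpowers _ i⟩), Subtype.ext e.symm⟩

include P in
/-- The normaliser of the centre normalises the Sylow subgroup. -/
theorem normalizer_Z_le {g : G} (hg : g ∈ normalizer (B.Z : Set G)) :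
    g ∈ normalizer ((B.S : Subgroup G) : Set G) := by
  obtain ⟨c, hc⟩ := B.pt_c ((Subgroup.mem_normalizer_iff.mp hg _).mp (pt_Z (1 : F)))
  have hc0 : c ≠ 0 := fun e => pt_Z_ne (B := B) one_ne_zero (by
    rw [e, show (⟨0, 0, 0⟩ : U F) = 1 from rfl, map_one] at hc
    exact conj_eq_one_iff.mp hc.symm)
  set r := P.τ.t c 1
  have hr := (P.τ.acts hc0 one_ne_zero).conj_Z B (P.τ.mem_N hc0 one_ne_zero) 1
  rw [mul_one, mul_one] at hr
  have hcomm : r⁻¹ * g * B.pt ⟨0, 0, 1⟩ = B.pt ⟨0, 0, 1⟩ * (r⁻¹ * g) := by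
    calc r⁻¹ * g * B.pt ⟨0, 0, 1⟩ = r⁻¹ * (g * B.pt ⟨0, 0, 1⟩ * g⁻¹) * g := by group
      _ = r⁻¹ * (r * B.pt ⟨0, 0, 1⟩ * r⁻¹) * g := by rw [hr, hc]
      _ = _ := by group
  have := mul_mem (P.τ.mem_N hc0 one_ne_zero) (P.h.cent_le (pt_Z 1) (pt_Z_ne one_ne_zero) hcomm)
  rwa [mul_inv_cancel_left] at this

/-- The normaliser of the Sylow subgroup does not move the torus within itself. -/
theorem conj_eq_of_mem_N {n : G} (hn : n ∈ normalizer ((B.S : Subgroup G) : Set G)) {r : G} (hr : r ∈ P.τ.T)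
    (h : n * r * n⁻¹ ∈ P.τ.T) : n * r * n⁻¹ = r := by
  obtain ⟨l, m, hl, hm, rfl⟩ := P.τ.exists_eq hr
  obtain ⟨a, b, hA⟩ := B.exists_acts hn
  refine P.τ.eq h ?_
  have h' := B.acts_mul (B.acts_mul hA (P.τ.acts hl hm)) (B.acts_inv hn hA)
  rwa [mul_comm a l, mul_comm b m, mul_inv_cancel_right₀ hA.1, mul_inv_cancel_right₀ hA.2.1] at h'

theorem u₀_not_mem : P.u₀ ∉ normalizer (B.Z : Set G) := by
  intro h
  have hm := P.τ.mem (l := P.q) (m := 1) P.hq0 one_ne_zero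
  have e := P.conj_u₀ one_ne_zero P.hw0
  rw [inv_one, P.inv_w] at e
  have := P.conj_eq_of_mem_N (P.normalizer_Z_le h) (P.τ.mem one_ne_zero P.hw0) (e ▸ hm)
  rw [e] at this
  exact P.hq1 (P.τ.inj P.hq0 one_ne_zero one_ne_zero P.hw0 this).1

/-- The Sylow two-subgroup of the centraliser of `d`. -/
theorem exists_sylow : ∃ R : Sylow 2 ↥(centralizer ({P.d} : Set G)),
    (R : Subgroup ↥(centralizer ({P.d} : Set G))) = B.Z.subgroupOf (centralizer ({P.d} : Set G)) := by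
  haveI := two_fact
  set D := centralizer ({P.d} : Set G)
  have hZD : B.Z ≤ D := fun y hy => Subgroup.mem_centralizer_singleton_iff.mpr (P.d_comm_Z hy).symm
  obtain ⟨R, hR⟩ := ((B.isPGroup_S.to_le B.Z_le).comap_subtype (K := D)).exists_le_sylow
  refine ⟨R, le_antisymm ?_ hR⟩
  by_contra hle
  haveI := R.isPGroup'.isNilpotent
  have hne : (B.Z.subgroupOf D).subgroupOf (R : Subgroup D) < ⊤ := lt_of_le_of_ne le_top fun e =>
    hle (Subgroup.subgroupOf_eq_top.mp e)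
  obtain ⟨r, hrN, hrZ⟩ := SetLike.exists_of_lt (normalizerCondition_of_isNilpotent _ hne)
  obtain ⟨k, hk⟩ := R.isPGroup' r
  have hrD : ((r : D) : G) * P.d = P.d * ((r : D) : G) := Subgroup.mem_centralizer_singleton_iff.mp (r : D).2
  have hrnorm : ((r : D) : G) ∈ normalizer (B.Z : Set G) := mem_normalizer_of_forall fun z hz => by
    have := (Subgroup.mem_normalizer_iff.mp hrN ⟨⟨z, hZD hz⟩, hR hz⟩).mp hz
    exact this
  refine hrZ (P.mem_Z_of_comm (B.mem_S_of_two_pow (P.normalizer_Z_le hrnorm) (k := k) ?_) hrD)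
  exact congrArg (fun x : (R : Subgroup D) => ((x : D) : G)) hk

/-- Involutions centralising `d` are moved into the centre. -/
theorem exists_conj_Z {t : G} (ht : orderOf t = 2) (htd : t * P.d = P.d * t) :
    ∃ x : G, x * P.d = P.d * x ∧ x * t * x⁻¹ ∈ B.Z := by
  haveI := two_fact
  set D := centralizer ({P.d} : Set G)
  obtain ⟨R, hR⟩ := P.exists_sylow
  set t' : D := ⟨t, Subgroup.mem_centralizer_singleton_iff.mpr htd⟩
  have ht' : orderOf t' = 2 := by rw [Subgroup.orderOf_mk]; exact ht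
  obtain ⟨R', hR'⟩ := (IsPGroup.of_card (p := 2) (n := 1) (by rw [Nat.card_zpowers, ht', pow_one]) :
    IsPGroup 2 (zpowers t')).exists_le_sylow
  obtain ⟨g, hg⟩ := MulAction.exists_smul_eq D R' R
  refine ⟨g, Subgroup.mem_centralizer_singleton_iff.mp g.2, ?_⟩
  have hm : g * t' * g⁻¹ ∈ ((g • R' : Sylow 2 D) : Subgroup D) := ⟨t', hR' (mem_zpowers t'), rfl⟩
  rw [hg, hR] at hm
  exact hm

/-- The centraliser of `d` has order 180. -/
theorem card_cent_d : Nat.card (centralizer ({P.d} : Set G)) = 180 := by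
  classical
  haveI := two_fact
  set D := centralizer ({P.d} : Set G) with hD
  have hdD : P.d ∈ D := Subgroup.mem_centralizer_singleton_iff.mpr rfl
  have hZD : B.Z ≤ D := fun y hy => Subgroup.mem_centralizer_singleton_iff.mpr (P.d_comm_Z hy).symm
  set K := zpowers (⟨P.d, hdD⟩ : D) with hK
  haveI hKn : K.Normal := ⟨fun x hx g => by
    have hcm : g * x = x * g := by
      obtain ⟨i, rfl⟩ := hx
      exact (Commute.zpow_right (show Commute g ⟨P.d, hdD⟩ from Subtype.ext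
        (Subgroup.mem_centralizer_singleton_iff.mp g.2)) i).eq
    rw [hcm, mul_inv_cancel_right]; exact hx⟩
  have hK3 : Nat.card K = 3 := by rw [hK, Nat.card_zpowers, Subgroup.orderOf_mk]; exact P.orderOf_d
  set π := QuotientGroup.mk' K with hπdef
  have hπ : Function.Surjective π := QuotientGroup.mk'_surjective _
  obtain ⟨R, hR⟩ := P.exists_sylow
  set Tb := R.mapSurjective hπ
  have hTb : ∀ y ∈ (Tb : Subgroup (D ⧸ K)), ∃ z : D, (z : G) ∈ B.Z ∧ π z = y := by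
    rintro _ ⟨z, hz, rfl⟩
    exact ⟨z, by rw [hR] at hz; exact hz, rfl⟩
  have hTb' : ∀ z : D, (z : G) ∈ B.Z → π z ∈ (Tb : Subgroup (D ⧸ K)) := fun z hz =>
    ⟨z, by rw [hR]; exact hz, rfl⟩
  have hker : ∀ z : D, (z : G) ∈ B.Z → π z = 1 → z = 1 := by
    intro z hz h1
    have h2 : z ∈ K := (QuotientGroup.eq_one_iff z).mp h1
    refine orderOf_eq_one_iff.mp (Nat.eq_one_of_dvd_coprimes (show Nat.Coprime 4 3 by norm_num) ?_
      (hK3 ▸ Subgroup.orderOf_dvd_natCard _ h2))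
    rw [← Subgroup.orderOf_coe, ← B.card_Z]
    exact Subgroup.orderOf_dvd_natCard _ hz
  have hT4 : Nat.card (Tb : Subgroup (D ⧸ K)) = 4 := by
    rw [← B.card_Z]
    refine (Nat.card_eq_of_bijective (fun z : B.Z => (⟨π ⟨z.1, hZD z.2⟩, hTb' _ z.2⟩ : (Tb : Subgroup (D ⧸ K))))
      ⟨fun a b e => ?_, fun y => ?_⟩).symm
    · have e' : π ⟨a.1, hZD a.2⟩ = π ⟨b.1, hZD b.2⟩ := congrArg Subtype.val e
      refine Subtype.ext (congrArg (fun x : D => (x : G)) (inv_mul_eq_one.mp (hker (⟨a.1, hZD a.2⟩⁻¹ * ⟨b.1, hZD b.2⟩)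
        (mul_mem (inv_mem a.2) b.2) ?_)) :)
      rw [map_mul, map_inv, e', inv_mul_cancel]
    · obtain ⟨z, hz, e⟩ := hTb y.1 y.2
      exact ⟨⟨z, hz⟩, Subtype.ext e⟩
  have hsq : ∀ y ∈ (Tb : Subgroup (D ⧸ K)), y * y = 1 := fun y hy => by
    obtain ⟨z, hz, rfl⟩ := hTb y hy
    rw [← map_mul, show z * z = 1 from Subtype.ext (B.sq_E₁ (B.Z_le₁ hz)), map_one]
  -- centralisers
  have hcen : ∀ z : D, (z : G) ∈ B.Z → z ≠ 1 →
      centralizer ({π z} : Set (D ⧸ K)) = (Tb : Subgroup (D ⧸ K)) := by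
    intro z hz hz1
    refine le_antisymm (fun y hy => ?_) fun y hy => ?_
    · obtain ⟨x, rfl⟩ := hπ y
      have h1 : x * z * x⁻¹ * z⁻¹ ∈ K := (QuotientGroup.eq_one_iff _).mp (show π (x * z * x⁻¹ * z⁻¹) = 1 by
        rw [map_mul, map_mul, map_mul, map_inv, map_inv, Subgroup.mem_centralizer_singleton_iff.mp hy]; group)
      set c := x * z * x⁻¹ * z⁻¹ with hc
      have hcz : c * z = z * c := by
        obtain ⟨i, hi⟩ := h1
        rw [← hi]
        exact (Commute.zpow_left (show Commute (⟨P.d, hdD⟩ : D) z from Subtype.ext (P.d_comm_Z hz)) i).eq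
      have hzz : z * z = 1 := Subtype.ext (B.sq_E₁ (B.Z_le₁ hz))
      have hsq' : c * c = 1 := by
        calc c * c = (c * z) * (c * z) := by
              rw [show (c * z) * (c * z) = c * (z * c) * z by group, ← hcz,
                show c * (c * z) * z = c * c * (z * z) by group, hzz, mul_one]
          _ = (x * z * x⁻¹) * (x * z * x⁻¹) := by rw [hc]; group
          _ = x * (z * z) * x⁻¹ := by group
          _ = 1 := by rw [hzz]; group
      have hc1 : c = 1 := orderOf_eq_one_iff.mp (Nat.eq_one_of_dvd_coprimes (show Nat.Coprime 2 3 by norm_num)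
        (orderOf_dvd_of_pow_eq_one (by rw [pow_two]; exact hsq')) (hK3 ▸ Subgroup.orderOf_dvd_natCard _ h1))
      have hxz : x * z = z * x := by
        rw [hc] at hc1
        exact mul_inv_eq_iff_eq_mul.mp (mul_inv_eq_one.mp hc1)
      obtain ⟨s, hs, i, e⟩ := P.cent_inter hz (fun e => hz1 (Subtype.ext e)) (congrArg Subtype.val hxz :)
        (Subgroup.mem_centralizer_singleton_iff.mp x.2)
      have ex : x = ⟨s, hZD hs⟩ * ⟨P.d, hdD⟩ ^ i := Subtype.ext (by rw [e, Subgroup.coe_mul, Subgroup.coe_pow])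
      rw [ex, map_mul, show π ((⟨P.d, hdD⟩ : D) ^ i) = 1 from
        (QuotientGroup.eq_one_iff _).mpr (pow_mem (mem_zpowers _) i), mul_one]
      exact hTb' _ hs
    · obtain ⟨x, hx, rfl⟩ := hTb y hy
      refine Subgroup.mem_centralizer_singleton_iff.mpr ?_
      rw [← map_mul, ← map_mul]
      exact congrArg π (Subtype.ext (B.Z_comm hx (B.Z_le hz)))
  have hz₁ : (⟨_, hZD (pt_Z (1 : F))⟩ : D) ≠ 1 := fun e => pt_Z_ne one_ne_zero (congrArg Subtype.val e)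
  set z₁ : D := ⟨_, hZD (pt_Z (1 : F))⟩
  have hord : ∀ z : D, (z : G) ∈ B.Z → z ≠ 1 → orderOf (π z) = 2 := fun z hz hz1 =>
    orderOf_two_of_sq (hsq _ (hTb' z hz)) fun e => hz1 (hker z hz e)
  -- one class
  have hclass : ∀ y : D ⧸ K, orderOf y = 2 → IsConj (π z₁) y := by
    intro y hy
    obtain ⟨Q, hQ⟩ := (IsPGroup.of_card (p := 2) (n := 1) (by rw [Nat.card_zpowers, hy, pow_one]) :
      IsPGroup 2 (zpowers y)).exists_le_sylow
    obtain ⟨g, rfl⟩ := MulAction.exists_smul_eq (D ⧸ K) Tb Q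
    obtain ⟨s, hs, e⟩ := hQ (mem_zpowers y)
    obtain ⟨z, hz, rfl⟩ := hTb s hs
    change g * π z * g⁻¹ = y at e
    obtain ⟨c, hc⟩ := B.pt_c hz
    have hc0 : c ≠ 0 := fun e0 => by
      have : z = 1 := Subtype.ext (by rw [← hc, e0]; exact map_one B.pt)
      rw [this, map_one, mul_one, mul_inv_cancel] at e
      exact ne_one_of_orderOf hy e.symm
    have hr : P.τ.t c 1 ∈ D := Subgroup.mem_centralizer_singleton_iff.mpr
      (P.τ.comm (P.τ.mem hc0 one_ne_zero) P.d_mem)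
    refine isConj_iff.mpr ⟨g * π ⟨_, hr⟩, ?_⟩
    rw [← e, show g * π ⟨_, hr⟩ * π z₁ * (g * π ⟨_, hr⟩)⁻¹ = g * π (⟨_, hr⟩ * z₁ * ⟨_, hr⟩⁻¹) * g⁻¹ by
      rw [map_mul, map_mul, map_inv]; group]
    congr 3
    refine Subtype.ext ?_
    show P.τ.t c 1 * B.pt ⟨0, 0, 1⟩ * (P.τ.t c 1)⁻¹ = (z : G)
    rw [(P.τ.acts hc0 one_ne_zero).conj_Z B (P.τ.mem_N hc0 one_ne_zero), mul_one, mul_one, hc]
  -- no core
  have hO : oddCore (D ⧸ K) = ⊥ := by
    set O := oddCore (D ⧸ K)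
    haveI hOn : O.Normal := inferInstanceAs (pPrimeCore 2 (D ⧸ K)).Normal
    have hinv : ∀ z : D, (z : G) ∈ B.Z → z ≠ 1 → ∀ o ∈ O, π z * o * (π z)⁻¹ = o⁻¹ := by
      intro z hz hz1 o ho
      let β : (D ⧸ K) ≃* (D ⧸ K) := MulAut.conj (π z)
      have hβ : Function.Involutive β := fun y => by
        show π z * (π z * y * (π z)⁻¹) * (π z)⁻¹ = y
        calc π z * (π z * y * (π z)⁻¹) * (π z)⁻¹ = (π z * π z) * y * (π z * π z)⁻¹ := by group
          _ = y := by rw [hsq _ (hTb' z hz)]; group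
      have hOb : ∀ y ∈ O, β y ∈ O := fun y hy => hOn.conj_mem y hy _
      have hfpf : MonoidHom.FixedPointFree (resInv β hβ O hOb) := by
        intro a ha
        have hmem : (a : D ⧸ K) ∈ centralizer ({π z} : Set (D ⧸ K)) :=
          Subgroup.mem_centralizer_singleton_iff.mpr (mul_inv_eq_iff_eq_mul.mp (congrArg Subtype.val ha :)).symm
        rw [hcen z hz hz1] at hmem
        refine Subtype.ext (orderOf_eq_one_iff.mp (Nat.eq_one_of_dvd_coprimes (a := 2) (b := Nat.card O)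
          (Nat.coprime_two_left.mpr CfsgLib.odd_card_oddCore) ?_ (Subgroup.orderOf_dvd_natCard _ a.2)))
        exact orderOf_dvd_of_pow_eq_one (by rw [pow_two]; exact hsq _ hmem)
      exact congrArg Subtype.val (congrFun (hfpf.coe_eq_inv_of_involutive (resInv_involutive β hβ O hOb)) ⟨o, ho⟩)
    refine (Subgroup.eq_bot_iff_forall _).mpr fun o ho => ?_
    set z₂ : D := ⟨_, hZD (pt_Z P.w)⟩
    have hz₂ : z₂ ≠ 1 := fun e => pt_Z_ne P.hw0 (congrArg Subtype.val e)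
    have hz₁₂ : z₁ * z₂ ≠ 1 := fun e => P.hw1 (by
      have h : B.pt ⟨0, 0, 1⟩ * B.pt ⟨0, 0, P.w⟩ = 1 := congrArg Subtype.val e
      rw [← map_mul, ← map_one B.pt] at h
      have h' : (1 : F) + P.w + 0 * 0 = 0 := congrArg U.c (B.pt_injective h)
      linear_combination h' - two_eq_zero B.hF)
    have h1 := hinv z₁ (pt_Z 1) hz₁ _ ho
    have h2 := hinv z₂ (pt_Z P.w) hz₂ _ ho
    have h3 := hinv (z₁ * z₂) (mul_mem (pt_Z 1) (pt_Z P.w)) hz₁₂ _ ho
    have h4 : π (z₁ * z₂) * o * (π (z₁ * z₂))⁻¹ = o := by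
      calc π (z₁ * z₂) * o * (π (z₁ * z₂))⁻¹ = π z₁ * (π z₂ * o * (π z₂)⁻¹) * (π z₁)⁻¹ := by rw [map_mul]; group
        _ = (π z₁ * o * (π z₁)⁻¹)⁻¹ := by rw [h2]; group
        _ = o := by rw [h1, inv_inv]
    rw [h4] at h3
    refine orderOf_eq_one_iff.mp (Nat.eq_one_of_dvd_coprimes (a := 2) (b := Nat.card O)
      (Nat.coprime_two_left.mpr CfsgLib.odd_card_oddCore) ?_ (Subgroup.orderOf_dvd_natCard _ ho))
    refine orderOf_dvd_of_pow_eq_one ?_
    rw [pow_two]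
    nth_rw 2 [h3]
    exact mul_inv_cancel o
  -- not normal
  have hnn : ¬ (Tb : Subgroup (D ⧸ K)).Normal := by
    intro hn
    have hu : P.u₀ ∈ D := Subgroup.mem_centralizer_singleton_iff.mpr (mul_inv_eq_iff_eq_mul.mp P.u₀_d)
    refine P.u₀_not_mem (mem_normalizer_of_forall fun z hz => ?_)
    obtain ⟨z', hz', e⟩ := hTb _ (hn.conj_mem _ (hTb' ⟨z, hZD hz⟩ hz) (π ⟨_, hu⟩))
    rw [← map_inv, ← map_mul, ← map_mul] at e
    have h2 : (z'⁻¹ * (⟨_, hu⟩ * ⟨z, hZD hz⟩ * ⟨_, hu⟩⁻¹) : D) ∈ K := QuotientGroup.eq.mp e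
    obtain ⟨i, hi⟩ := (Submonoid.mem_powers_iff _ _).mp (mem_powers_iff_mem_zpowers.mpr h2)
    have hi' : P.u₀ * z * P.u₀⁻¹ = (z' : G) * P.d ^ i := by
      have := congrArg (fun x : D => (x : G)) hi
      simp only [Subgroup.coe_pow, Subgroup.coe_mul, InvMemClass.coe_inv] at this
      rw [this, mul_inv_cancel_left]
    have hdi : P.d ^ i = 1 := by
      have hcm : Commute (z' : G) (P.d ^ i) := Commute.pow_right (show Commute (z' : G) P.d from (P.d_comm_Z hz').symm) i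
      have h0 : ((z' : G) * P.d ^ i) * ((z' : G) * P.d ^ i) = 1 := by
        rw [← hi', show P.u₀ * z * P.u₀⁻¹ * (P.u₀ * z * P.u₀⁻¹) = P.u₀ * (z * z) * P.u₀⁻¹ by group,
          B.sq_E₁ (B.Z_le₁ hz)]
        group
      rw [show (z' : G) * P.d ^ i * ((z' : G) * P.d ^ i) = (z' : G) * (P.d ^ i * (z' : G)) * P.d ^ i by group,
        ← hcm.eq, show (z' : G) * ((z' : G) * P.d ^ i) * P.d ^ i = ((z' : G) * z') * (P.d ^ i * P.d ^ i) by group,
        B.sq_E₁ (B.Z_le₁ hz'), one_mul] at h0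
      refine orderOf_eq_one_iff.mp (Nat.eq_one_of_dvd_coprimes (show Nat.Coprime 2 3 by norm_num)
        (orderOf_dvd_of_pow_eq_one (by rw [pow_two]; exact h0)) ?_)
      rw [← P.orderOf_d]; exact orderOf_pow_dvd i
    rw [hi', hdi, mul_one]
    exact hz'
  have h60 := card_eq_sixty hO Tb hT4 hsq (fun a b ha hb => (hclass a ha).symm.trans (hclass b hb))
    (hord z₁ (pt_Z 1) hz₁) hnn (by rw [hcen z₁ (pt_Z 1) hz₁, hT4])
  have := K.card_mul_index
  rw [hK3, Subgroup.index_eq_card, h60] at this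
  omega

/-- An element of `G` does not invert `d`. -/
theorem not_real (g : G) : g * P.d * g⁻¹ ≠ P.d⁻¹ := by
  intro hg
  set z := B.pt ⟨0, 0, (1 : F)⟩
  have hz : z ∈ B.Z := pt_Z 1
  have hz1 : z ≠ 1 := pt_Z_ne one_ne_zero
  have hzd : g * z * g⁻¹ * P.d = P.d * (g * z * g⁻¹) := by
    have h := (P.d_comm_Z hz)
    have h' : P.d⁻¹ * z = z * P.d⁻¹ := (Commute.inv_left (h : Commute P.d z)).eq
    have e : g⁻¹ * P.d * g = P.d⁻¹ := by
      conv_lhs => rw [← inv_inv P.d, ← hg]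
      group
    calc g * z * g⁻¹ * P.d = g * (z * (g⁻¹ * P.d * g)) * g⁻¹ := by group
      _ = g * (g⁻¹ * P.d * g * z) * g⁻¹ := by rw [e, h']
      _ = _ := by group
  obtain ⟨x, hx, hxz⟩ := P.exists_conj_Z (t := g * z * g⁻¹)
    (by rw [Involutions.orderOf_conj]; exact orderOf_two_of_sq (B.sq_E₁ (B.Z_le₁ hz)) hz1) hzd
  obtain ⟨c, hc⟩ := B.pt_c hxz
  have hc0 : c ≠ 0 := fun e => hz1 (by
    rw [e] at hc
    exact conj_eq_one_iff.mp (conj_eq_one_iff.mp (hc.symm.trans (map_one B.pt))))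
  have hr := P.τ.mem hc0 one_ne_zero
  set n := (P.τ.t c 1)⁻¹ * x * g with hn
  have hnz : n * z = z * n := by
    calc n * z = (P.τ.t c 1)⁻¹ * (x * (g * z * g⁻¹) * x⁻¹) * (x * g) := by rw [hn]; group
      _ = (P.τ.t c 1)⁻¹ * (P.τ.t c 1 * z * (P.τ.t c 1)⁻¹) * (x * g) := by
        rw [← hc, (P.τ.acts hc0 one_ne_zero).conj_Z B (P.τ.mem_N hc0 one_ne_zero), mul_one, mul_one]
      _ = _ := by rw [hn]; group
  have hcomm := P.τ.comm hr P.d_mem
  have hnd : n * P.d * n⁻¹ = P.d⁻¹ := by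
    calc n * P.d * n⁻¹ = (P.τ.t c 1)⁻¹ * (x * (g * P.d * g⁻¹) * x⁻¹) * P.τ.t c 1 := by rw [hn]; group
      _ = (P.τ.t c 1)⁻¹ * (x * P.d⁻¹ * x⁻¹) * P.τ.t c 1 := by rw [hg]
      _ = (P.τ.t c 1)⁻¹ * (x * P.d * x⁻¹)⁻¹ * P.τ.t c 1 := by group
      _ = (P.τ.t c 1)⁻¹ * P.d⁻¹ * P.τ.t c 1 := by rw [hx, mul_inv_cancel_right]
      _ = (P.τ.t c 1)⁻¹ * (P.d⁻¹ * (P.τ.t c 1 * P.d)) * P.d⁻¹ := by group
      _ = _ := by rw [hcomm]; group
  have h := P.conj_eq_of_mem_N (P.h.cent_le hz hz1 hnz) P.d_mem (by rw [hnd]; exact inv_mem P.d_mem)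
  rw [hnd] at h
  have h2 : P.d ^ 2 = 1 := by rw [pow_two]; nth_rw 1 [← h]; exact inv_mul_cancel _
  have := orderOf_dvd_of_pow_eq_one h2
  rw [P.orderOf_d] at this
  norm_num at this

/-- **The torus is its own centraliser.** -/
theorem centralizer_T {g : G} (hg : ∀ r ∈ P.τ.T, g * r = r * g) : g ∈ P.τ.T := by
  classical
  haveI := two_fact
  haveI : Fact (Nat.Prime 5) := ⟨by norm_num⟩
  set C := centralizer (P.τ.T : Set G) with hC
  set D := centralizer ({P.d} : Set G) with hD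
  have hCD : C ≤ D := fun x hx => Subgroup.mem_centralizer_singleton_iff.mpr
    (Subgroup.mem_centralizer_iff.mp hx _ P.d_mem).symm
  have hTC : P.τ.T ≤ C := fun x hx => Subgroup.mem_centralizer_iff.mpr fun r hr => P.τ.comm hr hx
  suffices h : Nat.card C = 9 by
    have := Subgroup.eq_of_le_of_card_ge hTC (by rw [h, P.τ.card])
    rw [this]
    exact Subgroup.mem_centralizer_iff.mpr fun r hr => (hg r hr).symm
  have h180 := P.card_cent_d
  have hdvd : Nat.card C ∣ 180 := h180 ▸ Subgroup.card_dvd_of_le hCD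
  have h9 : 9 ∣ Nat.card C := P.τ.card ▸ Subgroup.card_dvd_of_le hTC
  have hodd : ¬ 2 ∣ Nat.card C := by
    intro h2
    obtain ⟨t, ht⟩ := exists_prime_orderOf_dvd_card' 2 h2
    rw [← Subgroup.orderOf_coe] at ht
    obtain ⟨x, hx, hxt⟩ := P.exists_conj_Z ht (Subgroup.mem_centralizer_singleton_iff.mp (hCD t.2))
    have hle : cj x P.τ.T ≤ D ⊓ centralizer ({x * (t : G) * x⁻¹} : Set G) := by
      rintro _ ⟨r, hr, rfl⟩
      have hrd := P.τ.comm hr P.d_mem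
      refine Subgroup.mem_inf.mpr ⟨mul_mem (mul_mem (Subgroup.mem_centralizer_singleton_iff.mpr hx)
        (Subgroup.mem_centralizer_singleton_iff.mpr hrd)) (inv_mem (Subgroup.mem_centralizer_singleton_iff.mpr hx)),
        Subgroup.mem_centralizer_singleton_iff.mpr ?_⟩
      have h := Subgroup.mem_centralizer_iff.mp t.2 r hr
      show x * r * x⁻¹ * (x * (t : G) * x⁻¹) = x * (t : G) * x⁻¹ * (x * r * x⁻¹)
      calc x * r * x⁻¹ * (x * (t : G) * x⁻¹) = x * (r * (t : G)) * x⁻¹ := by group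
        _ = x * ((t : G) * r) * x⁻¹ := by rw [h]
        _ = _ := by group
    have := Subgroup.card_dvd_of_le hle
    rw [card_cj, P.τ.card, P.card_inter hxt (fun e => ne_one_of_orderOf ht (conj_eq_one_iff.mp e))] at this
    norm_num at this
  by_contra hne
  have h45 : Nat.card C = 45 := by
    obtain ⟨k, hk⟩ := h9
    rw [hk] at hdvd hodd hne ⊢
    have hk' : k ∣ 20 := (Nat.mul_dvd_mul_iff_left (show 0 < 9 by norm_num)).mp hdvd
    have hle : k ≤ 20 := Nat.le_of_dvd (by norm_num) hk'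
    interval_cases k <;> first | omega | (norm_num at hk')
  obtain ⟨y, hy⟩ := exists_prime_orderOf_dvd_card' 5 (show 5 ∣ Nat.card C by rw [h45]; norm_num)
  set y' : D := ⟨y.1, hCD y.2⟩ with hy'
  have hyo : orderOf y' = 5 := by rw [hy', Subgroup.orderOf_mk, Subgroup.orderOf_coe]; exact hy
  set R : Sylow 5 D := Sylow.ofCard (zpowers y') (by
    rw [Nat.card_zpowers, hyo, h180, show (180 : ℕ) = 36 * 5 ^ 1 by norm_num,
      Nat.factorization_mul (by norm_num) (by norm_num), Finsupp.add_apply,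
      Nat.factorization_eq_zero_of_not_dvd (show ¬ 5 ∣ 36 by norm_num), (show Nat.Prime 5 by norm_num).factorization_pow]
    simp)
  have hcard45 : 45 ∣ Nat.card (normalizer ((R : Subgroup D) : Set D)) := by
    refine Nat.Coprime.mul_dvd_of_dvd_of_dvd (show Nat.Coprime 9 5 by norm_num) ?_ ?_
    · have hle : P.τ.T.subgroupOf D ≤ normalizer ((R : Subgroup D) : Set D) := fun r hr =>
        mem_normalizer_of_forall fun x hx => by
          obtain ⟨i, rfl⟩ := (hx : x ∈ zpowers y')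
          have hc : Commute r y' := Subtype.ext (Subgroup.mem_centralizer_iff.mp y.2 _ hr)
          rw [(hc.zpow_right i).eq, mul_inv_cancel_right]
          exact Subgroup.zpow_mem _ (mem_zpowers y') i
      have h9' : Nat.card (P.τ.T.subgroupOf D) = 9 := by
        rw [Nat.card_congr (Subgroup.subgroupOfEquivOfLe (hTC.trans hCD)).toEquiv, P.τ.card]
      exact h9' ▸ Subgroup.card_dvd_of_le hle
    · have h5 := Subgroup.card_dvd_of_le (show zpowers y' ≤ normalizer ((R : Subgroup D) : Set D) from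
        Subgroup.le_normalizer (H := (R : Subgroup D)))
      rwa [Nat.card_zpowers, hyo] at h5
  have hRn : (R : Subgroup D).Normal := by
    refine Subgroup.normalizer_eq_top_iff.mp (Subgroup.index_eq_one.mp ?_)
    have h1 := card_sylow_modEq_one 5 D
    rw [R.card_eq_index_normalizer] at h1
    have h2 := (normalizer ((R : Subgroup D) : Set D)).card_mul_index
    rw [h180] at h2
    obtain ⟨k, hk⟩ := hcard45
    rw [hk] at h2
    have hi : (normalizer ((R : Subgroup D) : Set D)).index ∣ 4 := ⟨k, by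
      have : 45 * (k * (normalizer ((R : Subgroup D) : Set D)).index) = 45 * 4 := by rw [← mul_assoc, h2]
      rw [mul_comm]; exact (Nat.eq_of_mul_eq_mul_left (by norm_num) this).symm⟩
    have hle := Nat.le_of_dvd (by norm_num) hi
    unfold Nat.ModEq at h1
    interval_cases (normalizer ((R : Subgroup D) : Set D)).index <;> omega
  have hinv : ∀ z : G, z ∈ B.Z → z ≠ 1 → z * (y : G) * z⁻¹ = (y : G)⁻¹ := by
    intro z hz hz1
    have hzz := B.sq_E₁ (B.Z_le₁ hz)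
    set zD : D := ⟨z, Subgroup.mem_centralizer_singleton_iff.mpr (P.d_comm_Z hz).symm⟩
    have hm := hRn.conj_mem y' (mem_zpowers y') zD
    obtain ⟨i, hi⟩ := (hm : zD * y' * zD⁻¹ ∈ zpowers y')
    have hi' : z * (y : G) * z⁻¹ = (y : G) ^ i := (congrArg (fun x : D => (x : G)) hi).symm
    set r := (y : G) * (z * (y : G) * z⁻¹) with hr
    have hcm : (y : G) * (z * (y : G) * z⁻¹) = z * (y : G) * z⁻¹ * (y : G) := by
      rw [hi']; exact (Commute.zpow_right (Commute.refl _) i).eq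
    have hfix : r * z = z * r := by
      have hz' : z⁻¹ = z := inv_eq_of_mul_eq_one_right hzz
      refine (mul_inv_eq_iff_eq_mul.mp ?_).symm
      calc z * r * z⁻¹ = (z * (y : G) * z⁻¹) * ((z * z) * (y : G) * (z * z)⁻¹) := by rw [hr]; group
        _ = z * (y : G) * z⁻¹ * (y : G) := by rw [hzz]; group
        _ = r := hcm.symm
    have hmemR : r ∈ zpowers (y : G) := by
      rw [hr, hi']; exact mul_mem (mem_zpowers _) (Subgroup.zpow_mem _ (mem_zpowers _) i)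
    have h5 : orderOf r ∣ 5 := by
      refine (Subgroup.orderOf_dvd_natCard _ hmemR).trans (dvd_of_eq ?_)
      rw [Nat.card_zpowers, Subgroup.orderOf_coe, hy]
    have h12 : orderOf r ∣ 12 := by
      rw [← P.card_inter hz hz1]
      refine Subgroup.orderOf_dvd_natCard _ (Subgroup.mem_inf.mpr ⟨?_, Subgroup.mem_centralizer_singleton_iff.mpr hfix⟩)
      rw [hr, hi']
      exact mul_mem (hCD y.2) (Subgroup.zpow_mem _ (hCD y.2) i)
    have h1 : r = 1 := orderOf_eq_one_iff.mp (Nat.eq_one_of_dvd_coprimes (show Nat.Coprime 5 12 by norm_num) h5 h12)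
    exact eq_inv_of_mul_eq_one_right h1
  set z₁ := B.pt ⟨0, 0, (1 : F)⟩
  set z₂ := B.pt ⟨0, 0, P.w⟩
  have e12 : z₁ * z₂ ≠ 1 := fun e => P.hw1 (by
    rw [← map_mul, ← map_one B.pt] at e
    have h' : (1 : F) + P.w + 0 * 0 = 0 := congrArg U.c (B.pt_injective e)
    linear_combination h' - two_eq_zero B.hF)
  have h1 := hinv z₁ (pt_Z 1) (pt_Z_ne one_ne_zero)
  have h2 := hinv z₂ (pt_Z P.w) (pt_Z_ne P.hw0)
  have h3 := hinv (z₁ * z₂) (mul_mem (pt_Z 1) (pt_Z P.w)) e12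
  rw [show z₁ * z₂ * (y : G) * (z₁ * z₂)⁻¹ = z₁ * (z₂ * (y : G) * z₂⁻¹) * z₁⁻¹ by group, h2,
    show z₁ * (y : G)⁻¹ * z₁⁻¹ = (z₁ * (y : G) * z₁⁻¹)⁻¹ by group, h1, inv_inv] at h3
  have h4 : (y : G) ^ 2 = 1 := by rw [pow_two]; nth_rw 1 [h3]; exact inv_mul_cancel _
  have := orderOf_dvd_of_pow_eq_one h4
  rw [Subgroup.orderOf_coe, hy] at this
  norm_num at this

/-- Subgroups of order nine of the centraliser of `d` are conjugate there. -/
theorem exists_conj_T {R : Subgroup G} (hR : R ≤ centralizer ({P.d} : Set G)) (hR9 : Nat.card R = 9) :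
    ∃ x : G, x * P.d = P.d * x ∧ cj x R = P.τ.T := by
  haveI : Fact (Nat.Prime 3) := ⟨Nat.prime_three⟩
  set D := centralizer ({P.d} : Set G)
  have hsyl : ∀ Q : Subgroup G, Q ≤ D → Nat.card Q = 9 → ∃ S' : Sylow 3 D, (S' : Subgroup D) = Q.subgroupOf D := by
    intro Q hQ hQ9
    refine ⟨Sylow.ofCard (Q.subgroupOf D) ?_, rfl⟩
    rw [P.card_cent_d, Nat.card_congr (Subgroup.subgroupOfEquivOfLe hQ).toEquiv, hQ9,
      show (180 : ℕ) = 20 * 3 ^ 2 by norm_num, Nat.factorization_mul (by norm_num) (by norm_num),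
      Finsupp.add_apply, Nat.factorization_eq_zero_of_not_dvd (show ¬ 3 ∣ 20 by norm_num),
      Nat.prime_three.factorization_pow]
    simp
  have hTD : P.τ.T ≤ D := fun r hr => Subgroup.mem_centralizer_singleton_iff.mpr (P.τ.comm hr P.d_mem)
  obtain ⟨P₁, hP₁⟩ := hsyl _ hTD P.τ.card
  obtain ⟨P₂, hP₂⟩ := hsyl R hR hR9
  obtain ⟨c, hc⟩ := MulAction.exists_smul_eq D P₂ P₁
  refine ⟨c, Subgroup.mem_centralizer_singleton_iff.mp c.2,
    Subgroup.eq_of_le_of_card_ge ?_ (by rw [card_cj, hR9, P.τ.card])⟩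
  rintro _ ⟨r, hr, rfl⟩
  have hm : c * ⟨r, hR hr⟩ * c⁻¹ ∈ ((c • P₂ : Sylow 3 D) : Subgroup D) :=
    ⟨⟨r, hR hr⟩, by rw [hP₂]; exact hr, rfl⟩
  rw [hc, hP₁] at hm
  exact hm

end Frame

end Base

end CfsgLib.L34Sylow
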