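import Cfsg.Agent.Lib.L34Sylow.ThreeFour

/-!
The centraliser of the fixed-point-free element and its Sylow three-subgroup.

Blueprint: `blueprint/S3198.md`, section 5.
-/

set_option autoImplicit false
set_option linter.unusedSectionVars false
set_option linter.style.haveILetI false

namespace CfsgLib.L34Sylow

open Subgroup Cfsg

universe u

variable {G : Type u} [Group G] [Finite G] {F : Type*} [Field F]

theorem cj_mem_centralizer {g x : G} {R : Subgroup G} (h : R ≤ centralizer ({x} : Set G)) :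
    cj g R ≤ centralizer ({g * x * g⁻¹} : Set G) := by
  rintro _ ⟨r, hr, rfl⟩
  refine Subgroup.mem_centralizer_singleton_iff.mpr ?_
  show g * r * g⁻¹ * (g * x * g⁻¹) = g * x * g⁻¹ * (g * r * g⁻¹)
  calc g * r * g⁻¹ * (g * x * g⁻¹) = g * (r * x) * g⁻¹ := by group
    _ = g * (x * r) * g⁻¹ := by rw [Subgroup.mem_centralizer_singleton_iff.mp (h hr)]
    _ = _ := by group

theorem mem_zpowers_sq {x : G} (h : Odd (orderOf x)) : x ∈ zpowers (x ^ 2) := by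
  obtain ⟨m, hm⟩ := h
  refine Subgroup.mem_zpowers_iff.mpr ⟨(m : ℤ) + 1, ?_⟩
  rw [show ((m : ℤ) + 1) = ((m + 1 : ℕ) : ℤ) by push_cast; ring, zpow_natCast, ← pow_mul,
    show 2 * (m + 1) = orderOf x + 1 by omega, pow_succ, pow_orderOf_eq_one, one_mul]

/-- An element of odd order inverting or fixing fixes. -/
theorem fix_of_odd {r e : G} (h : Odd (orderOf r)) (he : r * e * r⁻¹ = e⁻¹) : r * e * r⁻¹ = e := by
  have h2 : r ^ 2 ∈ centralizer ({e} : Set G) := by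
    refine Subgroup.mem_centralizer_singleton_iff.mpr (mul_inv_eq_iff_eq_mul.mp ?_)
    calc r ^ 2 * e * (r ^ 2)⁻¹ = r * (r * e * r⁻¹) * r⁻¹ := by rw [pow_two]; group
      _ = r * e⁻¹ * r⁻¹ := by rw [he]
      _ = (r * e * r⁻¹)⁻¹ := by group
      _ = e := by rw [he, inv_inv]
  exact mul_inv_eq_iff_eq_mul.mpr (Subgroup.mem_centralizer_singleton_iff.mp
    ((zpowers_le.mpr h2) (mem_zpowers_sq h)))

namespace Base

namespace Frame

variable {B : Base G F} (P : B.Frame)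

theorem d_pow_eq {i : ℕ} : P.d ^ i = 1 ↔ i % 3 = 0 := by
  rw [← orderOf_dvd_iff_pow_eq_one, P.orderOf_d, Nat.dvd_iff_mod_eq_zero]

theorem e_pow_eq {i : ℕ} : P.e ^ i = 1 ↔ i % 3 = 0 := by
  rw [← orderOf_dvd_iff_pow_eq_one, P.orderOf_e, Nat.dvd_iff_mod_eq_zero]

theorem de_comm : Commute P.d P.e := P.τ.comm P.d_mem P.e_mem

theorem σ_pow_d (i : ℕ) : P.σ * P.d ^ i * P.σ⁻¹ = P.d ^ i * (P.e ^ i)⁻¹ := by
  rw [← MulAut.conj_apply, map_pow, MulAut.conj_apply, P.σ_d, (P.de_comm.inv_right).mul_pow, inv_pow]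

theorem σ_pow_e (i : ℕ) : P.σ * P.e ^ i * P.σ⁻¹ = P.e ^ i := by
  rw [← MulAut.conj_apply, map_pow, MulAut.conj_apply, P.σ_e]

theorem e_not_zpowers : P.e ∉ zpowers P.d := by
  intro h
  obtain ⟨i, hi⟩ := (Submonoid.mem_powers_iff _ _).mp (mem_powers_iff_mem_zpowers.mpr h)
  have h1 := P.σ_pow_d i
  rw [hi, P.σ_e, left_eq_mul, inv_eq_one, P.e_pow_eq] at h1
  rw [P.d_pow_eq.mpr h1] at hi
  have := P.orderOf_e
  rw [← hi, orderOf_one] at this
  omega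

theorem exists_coord {r : G} (hr : r ∈ P.τ.T) : ∃ i j : ℕ, r = P.d ^ i * P.e ^ j := by
  have hinj : Function.Injective fun p : zpowers P.d × zpowers P.e =>
      (⟨(p.1 : G) * p.2, mul_mem (zpowers_le.mpr P.d_mem p.1.2) (zpowers_le.mpr P.e_mem p.2.2)⟩ : P.τ.T) := by
    intro p q h
    refine Subgroup.mul_injective_of_disjoint (Subgroup.disjoint_def.mpr fun {a} ha hb => ?_)
      (congrArg (fun x : P.τ.T => (x : G)) h)
    by_contra ha1
    refine P.e_not_zpowers ?_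
    have hle : zpowers a ≤ zpowers P.e := zpowers_le.mpr hb
    have hc : Nat.card (zpowers a) = 3 := by
      have := Subgroup.card_dvd_of_le hle
      rw [Nat.card_zpowers, Nat.card_zpowers, P.orderOf_e] at this
      rw [Nat.card_zpowers]
      exact ((Nat.dvd_prime Nat.prime_three).mp this).resolve_left fun h1 => ha1 (orderOf_eq_one_iff.mp h1)
    have heq := Subgroup.eq_of_le_of_card_ge hle (by rw [hc, Nat.card_zpowers, P.orderOf_e])
    exact (zpowers_le.mpr ha) (heq.symm ▸ mem_zpowers P.e)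
  obtain ⟨⟨⟨a, ha⟩, ⟨b, hb⟩⟩, hab⟩ := (hinj.bijective_of_nat_card_le (by
    rw [Nat.card_prod, Nat.card_zpowers, Nat.card_zpowers, P.orderOf_d, P.orderOf_e, P.τ.card])).2 ⟨r, hr⟩
  obtain ⟨i, rfl⟩ := (Submonoid.mem_powers_iff _ _).mp (mem_powers_iff_mem_zpowers.mpr ha)
  obtain ⟨j, rfl⟩ := (Submonoid.mem_powers_iff _ _).mp (mem_powers_iff_mem_zpowers.mpr hb)
  exact ⟨i, j, (congrArg (fun x : P.τ.T => (x : G)) hab).symm⟩

theorem T_le_cent_e : P.τ.T ≤ centralizer ({P.e} : Set G) := fun _ hr =>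
  Subgroup.mem_centralizer_singleton_iff.mpr (P.τ.comm hr P.e_mem)

theorem mem_T_of_comm {g : G} (hd : g * P.d = P.d * g) (he : g * P.e = P.e * g) : g ∈ P.τ.T := by
  refine P.centralizer_T fun r hr => ?_
  obtain ⟨i, j, rfl⟩ := P.exists_coord hr
  exact ((Commute.pow_right (hd : Commute g P.d) i).mul_right (Commute.pow_right (he : Commute g P.e) j)).eq

theorem σ_T {r : G} (hr : r ∈ P.τ.T) : P.σ * r * P.σ⁻¹ ∈ P.τ.T := by
  obtain ⟨l, m, hl, hm, rfl⟩ := P.τ.exists_eq hr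
  rw [P.conj_σ hl hm]
  exact P.τ.mem hm (inv_ne_zero (mul_ne_zero hl hm))

/-- The element of the Sylow subgroup is not conjugate to `d` or its inverse. -/
theorem e_not_conj (g : G) : g * P.e * g⁻¹ ∉ zpowers P.d := by
  intro hg
  set D := g * P.e * g⁻¹ with hD
  have hD1 : D ≠ 1 := fun h => by
    have := P.orderOf_e
    rw [conj_eq_one_iff.mp h, orderOf_one] at this
    omega
  have hdD : P.d ∈ zpowers D := by
    have hle : zpowers D ≤ zpowers P.d := zpowers_le.mpr hg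
    have hc : Nat.card (zpowers P.d) ≤ Nat.card (zpowers D) := by
      rw [Nat.card_zpowers, Nat.card_zpowers, P.orderOf_d, hD, Involutions.orderOf_conj, P.orderOf_e]
    exact (Subgroup.eq_of_le_of_card_ge hle hc).symm ▸ mem_zpowers P.d
  have hle : cj g P.τ.T ≤ centralizer ({P.d} : Set G) := fun x hx => by
    have h := cj_mem_centralizer P.T_le_cent_e hx
    obtain ⟨i, hi⟩ := hdD
    rw [Subgroup.mem_centralizer_singleton_iff, ← hi]
    exact (Commute.zpow_right (show Commute x D from Subgroup.mem_centralizer_singleton_iff.mp h) i).eq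
  obtain ⟨x, hx, hxT⟩ := P.exists_conj_T hle (by rw [card_cj, P.τ.card])
  rw [cj_mul] at hxT
  set n := x * g with hn
  have hne : n * P.e * n⁻¹ = D := by
    obtain ⟨i, hi⟩ := hg
    have hcm : Commute x D := by rw [← hi]; exact Commute.zpow_right (hx : Commute x P.d) i
    calc n * P.e * n⁻¹ = x * D * x⁻¹ := by rw [hn, hD]; group
      _ = D := by rw [hcm.eq, mul_inv_cancel_right]
  have hy : n⁻¹ * P.e * n ∈ P.τ.T := mem_cj.mp (hxT.symm ▸ P.e_mem : P.e ∈ cj n P.τ.T)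
  obtain ⟨i, j, hij⟩ := P.exists_coord hy
  have hi : ¬ i % 3 = 0 := by
    intro hi
    rw [P.d_pow_eq.mpr hi, one_mul] at hij
    refine P.e_not_zpowers ?_
    obtain ⟨k, hk⟩ := hg
    rw [show P.e = n * (n⁻¹ * P.e * n) * n⁻¹ by group, hij, ← MulAut.conj_apply, map_pow, MulAut.conj_apply, hne, ← hk]
    exact pow_mem (Subgroup.zpow_mem _ (mem_zpowers _) k) j
  set τ' := n * P.σ * n⁻¹ with hτ'
  have hτd : τ' * P.d * τ'⁻¹ = P.d := by
    obtain ⟨k, hk⟩ := hdD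
    have hc : Commute τ' D := by
      refine mul_inv_eq_iff_eq_mul.mp ?_
      rw [← hne, hτ', show n * P.σ * n⁻¹ * (n * P.e * n⁻¹) * (n * P.σ * n⁻¹)⁻¹ = n * (P.σ * P.e * P.σ⁻¹) * n⁻¹ by
        group, P.σ_e]
    rw [← hk, (hc.zpow_right k).eq, mul_inv_cancel_right]
  have hτe : τ' * P.e * τ'⁻¹ = P.e * (D ^ i)⁻¹ := by
    have hDi : D ^ i = n * P.e ^ i * n⁻¹ := by rw [← MulAut.conj_apply, map_pow, MulAut.conj_apply, hne]
    calc τ' * P.e * τ'⁻¹ = n * (P.σ * (n⁻¹ * P.e * n) * P.σ⁻¹) * n⁻¹ := by rw [hτ']; group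
      _ = n * ((P.σ * P.d ^ i * P.σ⁻¹) * (P.σ * P.e ^ j * P.σ⁻¹)) * n⁻¹ := by rw [hij]; group
      _ = n * (P.d ^ i * ((P.e ^ i)⁻¹ * P.e ^ j)) * n⁻¹ := by rw [P.σ_pow_d, P.σ_pow_e]; group
      _ = n * (P.d ^ i * P.e ^ j * (P.e ^ i)⁻¹) * n⁻¹ := by
        rw [((Commute.refl P.e).pow_pow i j).inv_left.eq]; group
      _ = P.e * (n * P.e ^ i * n⁻¹)⁻¹ := by rw [← hij]; group
      _ = _ := by rw [hDi]
  -- some power moves `e` to `e * d`
  obtain ⟨t, htd, hte⟩ : ∃ t, t * P.d * t⁻¹ = P.d ∧ t * P.e * t⁻¹ = P.e * P.d := by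
    have hDi : D ^ i ∈ zpowers P.d := pow_mem hg i
    obtain ⟨k, hk⟩ := (Submonoid.mem_powers_iff _ _).mp (mem_powers_iff_mem_zpowers.mpr hDi)
    have hk3 : ¬ k % 3 = 0 := fun hk0 => by
      rw [P.d_pow_eq.mpr hk0] at hk
      have h1 : n * P.e ^ i * n⁻¹ = 1 := by rw [← MulAut.conj_apply, map_pow, MulAut.conj_apply, hne, ← hk]
      exact hi (P.e_pow_eq.mp (conj_eq_one_iff.mp h1))
    rw [← hk, ← pow_mod_orderOf P.d k, P.orderOf_d] at hτe
    rcases (by omega : k % 3 = 1 ∨ k % 3 = 2) with hk' | hk' <;> rw [hk'] at hτe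
    · refine ⟨τ'⁻¹, ?_, ?_⟩
      · conv_lhs => rw [← hτd]
        group
      · have h1 : τ'⁻¹ * P.d * τ'⁻¹⁻¹ = P.d := by
          conv_lhs => rw [← hτd]
          group
        calc τ'⁻¹ * P.e * τ'⁻¹⁻¹ = τ'⁻¹ * (P.e * (P.d ^ 1)⁻¹) * τ'⁻¹⁻¹ * (τ'⁻¹ * P.d * τ'⁻¹⁻¹) := by group
          _ = τ'⁻¹ * (τ' * P.e * τ'⁻¹) * τ'⁻¹⁻¹ * P.d := by rw [hτe, h1]
          _ = _ := by group
    · refine ⟨τ', hτd, ?_⟩
      rw [hτe]
      congr 1
      refine inv_eq_of_mul_eq_one_right ?_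
      rw [← pow_succ]
      exact P.d_pow_eq.mpr (by norm_num)
  -- compose two transvections
  set y := P.σ⁻¹ * t with hy'
  have hy1 : y * P.d * y⁻¹ = P.d * P.e := by
    calc y * P.d * y⁻¹ = P.σ⁻¹ * (t * P.d * t⁻¹) * P.σ := by rw [hy']; group
      _ = P.σ⁻¹ * P.d * P.σ := by rw [htd]
      _ = P.σ⁻¹ * ((P.σ * P.d * P.σ⁻¹) * (P.σ * P.e * P.σ⁻¹)) * P.σ := by
        rw [P.σ_d, P.σ_e]; group
      _ = _ := by group
  have hy2 : y * P.e * y⁻¹ = P.e * (P.d * P.e) := by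
    calc y * P.e * y⁻¹ = P.σ⁻¹ * (t * P.e * t⁻¹) * P.σ := by rw [hy']; group
      _ = (P.σ⁻¹ * (P.σ * P.e * P.σ⁻¹) * P.σ) * (P.σ⁻¹ * P.d * P.σ) := by rw [hte, P.σ_e]; group
      _ = P.e * (P.σ⁻¹ * P.d * P.σ) := by group
      _ = _ := by
        rw [show P.σ⁻¹ * P.d * P.σ = y * P.d * y⁻¹ by
          calc P.σ⁻¹ * P.d * P.σ = P.σ⁻¹ * (t * P.d * t⁻¹) * P.σ := by rw [htd]
            _ = _ := by rw [hy']; group, hy1]
  refine P.not_real (y * y) ?_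
  calc y * y * P.d * (y * y)⁻¹ = (y * P.d * y⁻¹) * (y * P.e * y⁻¹) := by
        rw [show y * y * P.d * (y * y)⁻¹ = y * (y * P.d * y⁻¹) * y⁻¹ by group]
        conv_lhs => rw [hy1]
        group
    _ = P.d * P.e * (P.e * (P.d * P.e)) := by rw [hy1, hy2]
    _ = P.d * (P.e * P.e * (P.d * P.e)) := by group
    _ = P.d * (P.d * (P.e * P.e) * P.e) := by
      rw [← mul_assoc (P.e * P.e), ((P.de_comm.symm.mul_left P.de_comm.symm) : Commute (P.e * P.e) P.d).eq]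
    _ = P.d ^ 2 * P.e ^ 3 := by rw [pow_two, pow_three]; group
    _ = P.d⁻¹ := by
      rw [P.e_pow_eq.mpr rfl, mul_one]
      refine (inv_eq_of_mul_eq_one_right ?_).symm
      rw [← pow_succ']
      exact P.d_pow_eq.mpr rfl

include P in
/-- The centraliser of a central involution has order 192. -/
theorem card_cent_z {z : G} (hz : z ∈ B.Z) (hz1 : z ≠ 1) : Nat.card (centralizer ({z} : Set G)) = 192 := by
  set M := centralizer ({z} : Set G)
  have hS : (B.S : Subgroup G) ≤ M := fun s hs => Subgroup.mem_centralizer_singleton_iff.mpr (B.Z_comm hz hs).symm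
  have hd : P.d ∈ M := Subgroup.mem_centralizer_singleton_iff.mpr (P.d_comm_Z hz)
  have h192 : 192 ∣ Nat.card M := by
    refine Nat.Coprime.mul_dvd_of_dvd_of_dvd (show Nat.Coprime 64 3 by norm_num) ?_ ?_
    · rw [← B.card_S]; exact Subgroup.card_dvd_of_le hS
    · rw [← P.orderOf_d]; exact Subgroup.orderOf_dvd_natCard _ hd
  refine le_antisymm ?_ (Nat.le_of_dvd Nat.card_pos h192)
  rw [show 192 = Nat.card (↥(B.S : Subgroup G) × ↥(zpowers P.d)) by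
    rw [Nat.card_prod, B.card_S, Nat.card_zpowers, P.orderOf_d]]
  refine Nat.card_le_card_of_surjective (fun p => ⟨(p.1 : G) * p.2, mul_mem (hS p.1.2) (zpowers_le.mpr hd p.2.2)⟩)
    fun x => ?_
  obtain ⟨s, hs, i, e⟩ := P.exists_cent_z hz hz1 (Subgroup.mem_centralizer_singleton_iff.mp x.2)
  exact ⟨(⟨s, hs⟩, ⟨_, Subgroup.npow_mem_zpowers _ i⟩), Subtype.ext e.symm⟩

/-- The centraliser of `e` has odd order. -/
theorem odd_cent_e : Odd (Nat.card (centralizer ({P.e} : Set G))) := by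
  haveI : Fact (Nat.Prime 3) := ⟨Nat.prime_three⟩
  haveI := two_fact
  rw [← Nat.not_even_iff_odd, even_iff_two_dvd]
  intro h2
  obtain ⟨t, ht⟩ := exists_prime_orderOf_dvd_card' 2 h2
  rw [← Subgroup.orderOf_coe] at ht
  have hz := pt_Z (B := B) (1 : F)
  have hz1 := pt_Z_ne (B := B) (one_ne_zero (α := F))
  set z := B.pt ⟨0, 0, (1 : F)⟩
  obtain ⟨g, hg⟩ := isConj_iff.mp (B.isConj_of_fused P.h.h1 P.h.h2 hz hz1 ht).symm
  set M := centralizer ({z} : Set G)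
  have hx : g * P.e * g⁻¹ ∈ M := by
    show g * P.e * g⁻¹ ∈ centralizer ({z} : Set G)
    rw [← hg]
    refine cj_mem_centralizer (R := zpowers P.e) ?_ (conj_mem_cj (mem_zpowers _))
    exact zpowers_le.mpr (Subgroup.mem_centralizer_singleton_iff.mpr
      (Subgroup.mem_centralizer_singleton_iff.mp t.2).symm)
  have hd : P.d ∈ M := Subgroup.mem_centralizer_singleton_iff.mpr (P.d_comm_Z hz)
  have hsyl : ∀ x : M, orderOf x = 3 → ∃ R : Sylow 3 M, (R : Subgroup M) = zpowers x := by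
    intro x hx
    refine ⟨Sylow.ofCard (zpowers x) ?_, rfl⟩
    rw [Nat.card_zpowers, hx, P.card_cent_z hz hz1, show (192 : ℕ) = 64 * 3 ^ 1 by norm_num,
      Nat.factorization_mul (by norm_num) (by norm_num), Finsupp.add_apply,
      Nat.factorization_eq_zero_of_not_dvd (show ¬ 3 ∣ 64 by norm_num), Nat.prime_three.factorization_pow]
    simp
  obtain ⟨R₁, hR₁⟩ := hsyl ⟨_, hx⟩ (by rw [Subgroup.orderOf_mk, Involutions.orderOf_conj]; exact P.orderOf_e)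
  obtain ⟨R₂, hR₂⟩ := hsyl ⟨_, hd⟩ (by rw [Subgroup.orderOf_mk]; exact P.orderOf_d)
  obtain ⟨c, hc⟩ := MulAction.exists_smul_eq M R₁ R₂
  have hm : c * ⟨_, hx⟩ * c⁻¹ ∈ ((c • R₁ : Sylow 3 M) : Subgroup M) := ⟨_, by rw [hR₁]; exact mem_zpowers _, rfl⟩
  rw [hc, hR₂] at hm
  obtain ⟨k, hk⟩ := hm
  refine P.e_not_conj ((c : G) * g) ?_
  have := congrArg (fun y : M => (y : G)) hk
  simp only [Subgroup.coe_zpow, Subgroup.coe_mul, InvMemClass.coe_inv] at this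
  refine ⟨k, this.trans ?_⟩
  group

/-- The Sylow three-subgroup of the centraliser of `e`. -/
structure Pack where
  PP : Subgroup G
  A : Subgroup G
  A_le : A ≤ PP
  le_cent : PP ≤ centralizer ({P.e} : Set G)
  T_le : P.τ.T ≤ PP
  σ_mem : P.σ ∈ PP
  isP : IsPGroup 3 PP
  sylow : ∀ R : Subgroup G, IsPGroup 3 R → R ≤ centralizer ({P.e} : Set G) →
    ∃ y, y * P.e = P.e * y ∧ cj y R ≤ PP
  big : 27 ≤ Nat.card PP
  u₀_mem : ∀ x ∈ PP, P.u₀ * x * P.u₀⁻¹ ∈ PP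
  inverts : ∀ a ∈ A, P.u₀ * a * P.u₀⁻¹ = a⁻¹
  comm : ∀ a ∈ A, ∀ b ∈ A, a * b = b * a
  d_not : P.d ∉ A
  dec : ∀ x ∈ PP, ∃ i : ℕ, x * (P.d ^ i)⁻¹ ∈ A
  fusion : ∀ x ∈ PP, ∀ g, g * P.e = P.e * g → g * x * g⁻¹ ∈ PP → g * x * g⁻¹ * x⁻¹ ∈ A

theorem exists_pack : Nonempty P.Pack := by
  haveI : Fact (Nat.Prime 3) := ⟨Nat.prime_three⟩
  haveI := two_fact
  set Y := centralizer ({P.e} : Set G) with hY
  have hodd : Odd (Nat.card Y) := P.odd_cent_e
  have hu : ∀ y ∈ Y, (MulAut.conj P.u₀) y ∈ Y := fun y hy => by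
    refine Subgroup.mem_centralizer_singleton_iff.mpr ?_
    have h : y * P.e⁻¹ = P.e⁻¹ * y :=
      (Commute.inv_right (Subgroup.mem_centralizer_singleton_iff.mp hy : Commute y P.e)).eq
    show P.u₀ * y * P.u₀⁻¹ * P.e = P.e * (P.u₀ * y * P.u₀⁻¹)
    have he : P.u₀ * P.e⁻¹ * P.u₀⁻¹ = P.e := by
      rw [show P.u₀ * P.e⁻¹ * P.u₀⁻¹ = (P.u₀ * P.e * P.u₀⁻¹)⁻¹ by group, P.u₀_e, inv_inv]
    nth_rw 1 [← he]
    nth_rw 2 [← he]
    calc P.u₀ * y * P.u₀⁻¹ * (P.u₀ * P.e⁻¹ * P.u₀⁻¹) = P.u₀ * (y * P.e⁻¹) * P.u₀⁻¹ := by group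
      _ = P.u₀ * (P.e⁻¹ * y) * P.u₀⁻¹ := by rw [h]
      _ = _ := by group
  have hinv : Function.Involutive (MulAut.conj P.u₀ : G ≃* G) := fun y => by
    show P.u₀ * (P.u₀ * y * P.u₀⁻¹) * P.u₀⁻¹ = y
    calc P.u₀ * (P.u₀ * y * P.u₀⁻¹) * P.u₀⁻¹ = (P.u₀ * P.u₀) * y * (P.u₀ * P.u₀)⁻¹ := by group
      _ = y := by rw [P.u₀_sq]; group
  set α := resInv (MulAut.conj P.u₀ : G ≃* G) hinv Y hu
  have hdY : P.d ∈ Y := P.T_le_cent_e P.d_mem
  set d' : Y := ⟨P.d, hdY⟩ with hd'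
  have hσY : P.σ ∈ Y := Subgroup.mem_centralizer_singleton_iff.mpr (mul_inv_eq_iff_eq_mul.mp P.σ_e)
  -- the fixed points
  have hfix : ∀ y, α y = y → y ∈ zpowers d' := by
    intro y hy
    have hy' : P.u₀ * (y : G) * P.u₀⁻¹ = (y : G) := congrArg Subtype.val hy
    set R := Y ⊓ centralizer ({P.u₀} : Set G)
    have hz := pt_Z (B := B) (1 : F)
    have hz1 := pt_Z_ne (B := B) (one_ne_zero (α := F))
    obtain ⟨g, hg⟩ := isConj_iff.mp (B.isConj_of_fused P.h.h1 P.h.h2 hz hz1 (t := P.u₀) (orderOf_two_of_sq P.u₀_sq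
      fun h => P.u₀_not_mem (h ▸ one_mem _))).symm
    have hle : cj g R ≤ centralizer ({B.pt ⟨0, 0, (1 : F)⟩} : Set G) := hg ▸ cj_mem_centralizer inf_le_right
    have hdvd := Subgroup.card_dvd_of_le hle
    rw [card_cj, P.card_cent_z hz hz1] at hdvd
    have hR3 : Nat.card R ∣ 3 := by
      have ho : Odd (Nat.card R) := hodd.of_dvd_nat (Subgroup.card_dvd_of_le inf_le_left)
      exact ((Nat.coprime_two_right.mpr ho).pow_right 6).dvd_of_dvd_mul_left (show Nat.card R ∣ 2 ^ 6 * 3 from hdvd)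
    have hdR : zpowers P.d ≤ R := zpowers_le.mpr (Subgroup.mem_inf.mpr ⟨hdY,
      Subgroup.mem_centralizer_singleton_iff.mpr (mul_inv_eq_iff_eq_mul.mp P.u₀_d).symm⟩)
    have heq := Subgroup.eq_of_le_of_card_ge hdR (by
      rw [Nat.card_zpowers, P.orderOf_d]; exact Nat.le_of_dvd (by norm_num) hR3)
    have hyR : (y : G) ∈ zpowers P.d := heq.symm ▸ Subgroup.mem_inf.mpr ⟨y.2,
      Subgroup.mem_centralizer_singleton_iff.mpr (mul_inv_eq_iff_eq_mul.mp hy').symm⟩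
    obtain ⟨k, hk⟩ := hyR
    exact ⟨k, Subtype.ext (by rw [Subgroup.coe_zpow]; exact hk)⟩
  have hcent : centralizer ({d'} : Set Y) = P.τ.T.subgroupOf Y := by
    ext y
    rw [Subgroup.mem_centralizer_singleton_iff, Subgroup.mem_subgroupOf]
    exact ⟨fun h => P.mem_T_of_comm (congrArg Subtype.val h :) (Subgroup.mem_centralizer_singleton_iff.mp y.2),
      fun h => Subtype.ext (P.τ.comm h P.d_mem)⟩
  set Q := P.τ.T ⊔ zpowers P.σ with hQ
  have hQY : Q ≤ Y := sup_le P.T_le_cent_e (zpowers_le.mpr hσY)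
  have hσN : P.σ ∈ normalizer (P.τ.T : Set G) := mem_normalizer_of_forall fun r hr => P.σ_T hr
  have hσ3 : P.σ ^ 3 ∈ P.τ.T := by
    refine P.mem_T_of_comm (mul_inv_eq_iff_eq_mul.mp ?_) (mul_inv_eq_iff_eq_mul.mp ?_)
    · have hk : ∀ k : ℕ, P.σ ^ k * P.d * (P.σ ^ k)⁻¹ = P.d * (P.e ^ k)⁻¹ := by
        intro k
        induction k with
        | zero => simp
        | succ k ih =>
          calc P.σ ^ (k + 1) * P.d * (P.σ ^ (k + 1))⁻¹ = P.σ * (P.σ ^ k * P.d * (P.σ ^ k)⁻¹) * P.σ⁻¹ := by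
                rw [pow_succ']; group
            _ = (P.σ * P.d * P.σ⁻¹) * (P.σ * P.e ^ k * P.σ⁻¹)⁻¹ := by rw [ih]; group
            _ = _ := by rw [P.σ_d, P.σ_pow_e, pow_succ]; group
      rw [hk, P.e_pow_eq.mpr rfl, inv_one, mul_one]
    · calc P.σ ^ 3 * P.e * (P.σ ^ 3)⁻¹ = P.σ * (P.σ * (P.σ * P.e * P.σ⁻¹) * P.σ⁻¹) * P.σ⁻¹ := by
            rw [pow_three]; group
        _ = P.e := by rw [P.σ_e, P.σ_e, P.σ_e]
  have hT3 : IsPGroup 3 P.τ.T := IsPGroup.of_card (n := 2) (by rw [P.τ.card]; norm_num)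
  have hQ3 : IsPGroup 3 Q := by
    rw [hQ, sup_comm]
    refine IsPGroup.to_sup_of_normal_right' (IsPGroup.of_card_dvd_pow (n := 2) ?_) hT3 (zpowers_le.mpr hσN)
    rw [Nat.card_zpowers]
    refine orderOf_dvd_of_pow_eq_one ?_
    rw [show 3 ^ 2 = 3 * 3 by norm_num, pow_mul]
    exact P.τ.cube hσ3
  have hQ27 : 27 ≤ Nat.card Q := by
    obtain ⟨k, hk⟩ := IsPGroup.iff_card.mp hQ3
    have hne : Nat.card Q ≠ 9 := fun h9 => by
      have heq := Subgroup.eq_of_le_of_card_ge (le_sup_left : P.τ.T ≤ Q) (by rw [h9, P.τ.card])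
      have hσT : P.σ ∈ P.τ.T := heq.symm ▸ Subgroup.mem_sup_right (mem_zpowers _)
      have h := P.σ_d
      rw [P.τ.comm hσT P.d_mem, mul_inv_cancel_right, left_eq_mul, inv_eq_one] at h
      have := P.orderOf_e
      rw [h, orderOf_one] at this
      omega
    have h9 := Nat.le_of_dvd Nat.card_pos (P.τ.card ▸ Subgroup.card_dvd_of_le (le_sup_left : P.τ.T ≤ Q))
    rw [hk] at hne h9 ⊢
    match k with
    | 0 => simp at h9
    | 1 => norm_num at h9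
    | 2 => norm_num at hne
    | k + 3 => calc 27 = 3 ^ 3 := rfl
        _ ≤ 3 ^ (k + 3) := Nat.pow_le_pow_right (by norm_num) (by omega)
  have hQα : ∀ x ∈ Q.subgroupOf Y, α x ∈ Q.subgroupOf Y := by
    intro x hx
    have hle : Q ≤ Q.comap (MulAut.conj P.u₀).toMonoidHom := by
      rw [hQ]
      refine sup_le (fun r hr => ?_) (zpowers_le.mpr ?_)
      · obtain ⟨l, m, hl, hm, rfl⟩ := P.τ.exists_eq hr
        show P.u₀ * P.τ.t l m * P.u₀⁻¹ ∈ P.τ.T ⊔ zpowers P.σ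
        rw [P.conj_u₀ hl hm]
        exact Subgroup.mem_sup_left (P.τ.mem (inv_ne_zero hm) (inv_ne_zero hl))
      · show P.u₀ * P.σ * P.u₀⁻¹ ∈ P.τ.T ⊔ zpowers P.σ
        rw [P.u₀_σ]
        exact Subgroup.mem_sup_right (inv_mem (mem_zpowers _))
    exact hle hx
  have hQQ : Nat.card (Q.subgroupOf Y) = Nat.card Q := Nat.card_congr (Subgroup.subgroupOfEquivOfLe hQY).toEquiv
  obtain ⟨S₃, A, hAP, hQP, hPb, hAinv, hAcomm, hdA, hdec, hfus⟩ := odd_three hodd α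
    (resInv_involutive _ hinv Y hu) (d := d') (by rw [hd', Subgroup.orderOf_mk]; exact P.orderOf_d)
    (Subtype.ext P.u₀_d) hfix
    (by rw [hcent, Nat.card_congr (Subgroup.subgroupOfEquivOfLe P.T_le_cent_e).toEquiv, P.τ.card])
    hQ3.comap_subtype hQα (hQ27.trans hQQ.ge) (by rw [hcent]; exact fun x hx => Subgroup.mem_sup_left hx)
  refine ⟨{
    PP := (S₃ : Subgroup Y).map Y.subtype
    A := A.map Y.subtype
    A_le := Subgroup.map_mono hAP
    le_cent := Subgroup.map_subtype_le _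
    T_le := fun r hr => ⟨⟨r, P.T_le_cent_e hr⟩, hQP (Subgroup.mem_sup_left hr), rfl⟩
    σ_mem := ⟨⟨P.σ, hσY⟩, hQP (Subgroup.mem_sup_right (mem_zpowers P.σ)), rfl⟩
    isP := S₃.isPGroup'.map _
    sylow := ?_
    big := ?_
    u₀_mem := ?_
    inverts := ?_
    comm := ?_
    d_not := ?_
    dec := ?_
    fusion := ?_ }⟩
  · intro R hR hRY
    obtain ⟨S', hS'⟩ := (hR.comap_subtype (K := Y)).exists_le_sylow
    obtain ⟨y, hy⟩ := MulAction.exists_smul_eq Y S' S₃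
    refine ⟨y, Subgroup.mem_centralizer_singleton_iff.mp y.2, ?_⟩
    rintro _ ⟨r, hr, rfl⟩
    have hm : y * ⟨r, hRY hr⟩ * y⁻¹ ∈ ((y • S' : Sylow 3 Y) : Subgroup Y) := ⟨⟨r, hRY hr⟩, hS' hr, rfl⟩
    rw [hy] at hm
    exact ⟨_, hm, rfl⟩
  · rw [Subgroup.card_map_of_injective Y.subtype_injective]
    exact hQ27.trans (hQQ ▸ Subgroup.card_le_of_le hQP)
  · rintro _ ⟨x, hx, rfl⟩
    exact ⟨α x, hPb x hx, rfl⟩
  · rintro _ ⟨a, ha, rfl⟩
    exact congrArg Subtype.val (hAinv a ha)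
  · rintro _ ⟨a, ha, rfl⟩ _ ⟨b, hb, rfl⟩
    exact congrArg Subtype.val (hAcomm a ha b hb)
  · rintro ⟨a, ha, e⟩
    exact hdA ((Subtype.ext e : a = d') ▸ ha)
  · rintro _ ⟨x, hx, rfl⟩
    obtain ⟨i, hi⟩ := hdec x hx
    exact ⟨i, _, hi, by simp [hd']⟩
  · rintro _ ⟨x, hx, rfl⟩ g hg ⟨r, hr, e⟩
    have hgY : g ∈ Y := Subgroup.mem_centralizer_singleton_iff.mpr hg
    have e' : r = ⟨g, hgY⟩ * x * ⟨g, hgY⟩⁻¹ := Subtype.ext e
    exact ⟨_, hfus x hx ⟨g, hgY⟩ (e' ▸ hr), rfl⟩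

end Frame

end Base

end CfsgLib.L34Sylow
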