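import Cfsg.Agent.Lib.L34Sylow.ThreeTorus

/-!
The involution of the normaliser of the first piece exchanging two characters of the torus.

Blueprint: `blueprint/S3198.md`, section 5.
-/

set_option autoImplicit false
set_option linter.unusedSectionVars false
set_option linter.style.haveILetI false

namespace CfsgLib.L34Sylow

open Subgroup Cfsg

variable {G : Type*} [Group G] [Finite G] {F : Type*} [Field F]

namespace Base

variable {B : Base G F}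

namespace Torus

variable (τ : B.Torus) {w : F}

/-- An element normalising the piece and both lines lies in `E₁T`. -/
theorem exists_split (h : B.Three) (hw0 : w ≠ 0) (hw1 : w ≠ 1) {x : G} (hx : x ∈ normalizer (B.E₁ : Set G))
    (hxZ : x ∈ normalizer (B.Z : Set G)) (hxQ : x ∈ normalizer (τ.Q w : Set G)) :
    ∃ e ∈ B.E₁, ∃ r ∈ τ.T, x = e * r := by
  have hn := h.normalizer_le hx hxZ
  obtain ⟨l, m, hA⟩ := B.exists_acts hn
  have hr := τ.mem hA.1 hA.2.1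
  have hs : x * (τ.t l m)⁻¹ ∈ (B.S : Subgroup G) := by
    refine h.mem_S (mul_mem hn (inv_mem (τ.le hr))) ?_
    have := B.acts_mul hA (B.acts_inv (τ.le hr) (τ.acts hA.1 hA.2.1))
    rwa [mul_inv_cancel₀ hA.1, mul_inv_cancel₀ hA.2.1] at this
  refine ⟨_, ?_, _, hr, (inv_mul_cancel_right x (τ.t l m)).symm⟩
  obtain ⟨u, hu⟩ := B.exists_pt hs
  rw [← hu]
  refine B.pt_mem_E₁.mpr ?_
  obtain ⟨k, hk, -⟩ := τ.exists_Q_coord hw0 hw1 1
  have hQ : ∀ q ∈ τ.Q w, (τ.t l m)⁻¹ * q * τ.t l m ∈ τ.Q w := fun q hq => by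
    refine Subgroup.mem_inf.mpr ⟨?_, Subgroup.mem_centralizer_singleton_iff.mpr ?_⟩
    · exact (Subgroup.mem_normalizer_iff''.mp (B.normalizer_S_le₁ (τ.le hr)) q).mp hq.1
    · have hc : q * τ.t 1 w = τ.t 1 w * q := Subgroup.mem_centralizer_singleton_iff.mp hq.2
      have hc' := τ.comm (τ.mem one_ne_zero hw0) hr
      calc (τ.t l m)⁻¹ * q * τ.t l m * τ.t 1 w = (τ.t l m)⁻¹ * q * (τ.t l m * τ.t 1 w) := by group
        _ = (τ.t l m)⁻¹ * (q * τ.t 1 w) * τ.t l m := by rw [← hc']; group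
        _ = (τ.t l m)⁻¹ * (τ.t 1 w * q) * τ.t l m := by rw [hc]
        _ = (τ.t l m)⁻¹ * (τ.t 1 w * τ.t l m) * (τ.t l m)⁻¹ * q * τ.t l m := by group
        _ = _ := by rw [hc']; group
  have hmem : x * ((τ.t l m)⁻¹ * B.pt ⟨1, 0, k⟩ * τ.t l m) * x⁻¹ ∈ τ.Q w :=
    (Subgroup.mem_normalizer_iff.mp hxQ _).mp (hQ _ hk)
  rw [show x * ((τ.t l m)⁻¹ * B.pt ⟨1, 0, k⟩ * τ.t l m) * x⁻¹ =
    B.pt u * B.pt ⟨1, 0, k⟩ * (B.pt u)⁻¹ by rw [hu]; group, ← map_inv, ← map_mul, ← map_mul] at hmem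
  have hc : u * ⟨1, 0, k⟩ * u⁻¹ = (⟨1, 0, k + u.b⟩ : U F) := U.ext (by simp) (by simp) (by
    simp only [U.mul_c, U.mul_a, U.inv_b, U.inv_c]
    linear_combination -u.b * two_eq_zero B.hF)
  rw [hc] at hmem
  obtain ⟨k', -, hk'⟩ := τ.exists_Q_coord hw0 hw1 1
  exact add_eq_left.mp ((hk' _ hmem).trans (hk' _ hk).symm)

/-- An element of the piece normalising the torus is trivial. -/
theorem eq_one_of_normalises (hw0 : w ≠ 0) (hw1 : w ≠ 1) {e : G} (he : e ∈ B.E₁)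
    (hN : e ∈ normalizer (τ.T : Set G)) : e = 1 := by
  have hcomm : ∀ r ∈ τ.T, e * r = r * e := by
    intro r hr
    refine mul_inv_eq_iff_eq_mul.mp ?_
    have h1 : e * r * e⁻¹ * r⁻¹ ∈ τ.T := mul_mem ((Subgroup.mem_normalizer_iff.mp hN r).mp hr) (inv_mem hr)
    have h2 : e * r * e⁻¹ * r⁻¹ ∈ (B.S : Subgroup G) := by
      rw [show e * r * e⁻¹ * r⁻¹ = e * (r * e⁻¹ * r⁻¹) by group]
      exact mul_mem (B.E₁_le he) ((Subgroup.mem_normalizer_iff.mp (τ.le hr) _).mp (inv_mem (B.E₁_le he)))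
    exact mul_inv_eq_one.mp (τ.eq_one h1 h2)
  have hQ : e ∈ τ.Q w := Subgroup.mem_inf.mpr ⟨he, Subgroup.mem_centralizer_singleton_iff.mpr
    (hcomm _ (τ.mem one_ne_zero hw0))⟩
  refine τ.Q_Z hw0 hw1 hQ ?_
  obtain ⟨a, c, rfl⟩ := τ.exists_Q_pt hQ
  obtain ⟨d, hd, -⟩ := τ.conj_q hw0 one_ne_zero a c
  rw [← hcomm _ (τ.mem hw0 one_ne_zero), mul_inv_cancel_right] at hd
  have ha : a = w * a := congrArg U.a (B.pt_injective hd)
  refine B.pt_mem_Z.mpr ⟨by_contra fun h0 => hw1 ?_, rfl⟩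
  exact mul_right_cancel₀ h0 (by rw [one_mul]; exact ha.symm)

/-- An involution exchanging the centre and the fixed points and normalising the torus. -/
theorem exists_invol (h : B.Three) (hw0 : w ≠ 0) (hw1 : w ≠ 1) :
    ∃ u ∈ normalizer (B.E₁ : Set G), u * u = 1 ∧ u ∈ normalizer (τ.T : Set G) ∧ cj u B.Z = τ.Q w ∧
      cj u (τ.Q w) = B.Z := by
  haveI : Fact (Nat.Prime 3) := ⟨Nat.prime_three⟩
  obtain ⟨-, -, -, g, hg, hgZ, hgQ⟩ := τ.exists_exchange h hw0 hw1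
  set M := normalizer (B.E₁ : Set G) ⊓ (normalizer (B.Z : Set G) ⊓ normalizer (τ.Q w : Set G))
  have hTM : τ.T ≤ M := fun r hr => by
    refine ⟨B.normalizer_S_le₁ (τ.le hr), B.mem_normalizer_Z (τ.le hr), mem_normalizer_of_forall fun q hq => ?_⟩
    refine Subgroup.mem_inf.mpr ⟨(Subgroup.mem_normalizer_iff.mp (B.normalizer_S_le₁ (τ.le hr)) q).mp hq.1,
      Subgroup.mem_centralizer_singleton_iff.mpr ?_⟩
    have hc : q * τ.t 1 w = τ.t 1 w * q := Subgroup.mem_centralizer_singleton_iff.mp hq.2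
    have hc' := τ.comm (τ.mem one_ne_zero hw0) hr
    calc r * q * r⁻¹ * τ.t 1 w = r * q * r⁻¹ * (τ.t 1 w * r) * r⁻¹ := by group
      _ = r * (q * τ.t 1 w) * r⁻¹ := by rw [hc']; group
      _ = r * (τ.t 1 w * q) * r⁻¹ := by rw [hc]
      _ = τ.t 1 w * r * q * r⁻¹ := by rw [hc']; group
      _ = _ := by group
  have hgN : g ∈ normalizer (M : Set G) := mem_normalizer_of_forall fun x hx => by
    refine Subgroup.mem_inf.mpr ⟨mul_mem (mul_mem hg hx.1) (inv_mem hg),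
      Subgroup.mem_inf.mpr ⟨mem_normalizer_of_cj ?_, mem_normalizer_of_cj ?_⟩⟩
    · rw [← hgQ, cj_mul, inv_mul_cancel_right, ← cj_mul g x, cj_eq_of_mem hx.2.2]
    · rw [← hgZ, cj_mul, inv_mul_cancel_right, ← cj_mul g x, cj_eq_of_mem hx.2.1]
  have hgT : cj g τ.T ≤ M := by
    rintro _ ⟨r, hr, rfl⟩
    exact (Subgroup.mem_normalizer_iff.mp hgN r).mp (hTM hr)
  have hcard : Nat.card M ≤ 144 := by
    rw [show 144 = Nat.card (B.E₁ × τ.T) by rw [Nat.card_prod, B.card_E₁, τ.card]]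
    refine Nat.card_le_card_of_surjective (fun p => ⟨(p.1 : G) * p.2, mul_mem
      ⟨Subgroup.le_normalizer p.1.2, B.mem_normalizer_Z (Subgroup.le_normalizer (B.E₁_le p.1.2)),
        mem_normalizer_of_forall fun q hq => by
          rw [B.comm_E₁ p.1.2 hq.1, mul_inv_cancel_right]; exact hq⟩ (hTM p.2.2)⟩) fun x => ?_
    obtain ⟨e, he, r, hr, hx⟩ := τ.exists_split h hw0 hw1 x.2.1 x.2.2.1 x.2.2.2
    exact ⟨(⟨e, he⟩, ⟨r, hr⟩), Subtype.ext hx.symm⟩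
  have hdvd : 16 ∣ Nat.card M := by
    rw [← B.card_E₁]
    exact Subgroup.card_dvd_of_le fun e he => ⟨Subgroup.le_normalizer he,
      B.mem_normalizer_Z (Subgroup.le_normalizer (B.E₁_le he)),
        mem_normalizer_of_forall fun q hq => by rw [B.comm_E₁ he hq.1, mul_inv_cancel_right]; exact hq⟩
  have h9 : 9 ∣ Nat.card M := τ.card ▸ Subgroup.card_dvd_of_le hTM
  have h144 : Nat.card M = 144 := by
    have : 144 ∣ Nat.card M := Nat.Coprime.mul_dvd_of_dvd_of_dvd (by norm_num : Nat.Coprime 16 9) hdvd h9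
    exact le_antisymm hcard (Nat.le_of_dvd Nat.card_pos this)
  -- both tori are Sylow subgroups
  have hsyl : ∀ R : Subgroup G, R ≤ M → Nat.card R = 9 → ∃ P : Sylow 3 M, (P : Subgroup M) = R.subgroupOf M := by
    intro R hR hR9
    refine ⟨Sylow.ofCard (R.subgroupOf M) ?_, rfl⟩
    rw [h144, Nat.card_congr (Subgroup.subgroupOfEquivOfLe hR).toEquiv, hR9,
      show (144 : ℕ) = 2 ^ 4 * 3 ^ 2 by norm_num, Nat.factorization_mul (by norm_num) (by norm_num),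
      Finsupp.add_apply, Nat.prime_two.factorization_pow, Nat.prime_three.factorization_pow]
    simp
  obtain ⟨P₁, hP₁⟩ := hsyl τ.T hTM τ.card
  obtain ⟨P₂, hP₂⟩ := hsyl (cj g τ.T) hgT (by rw [card_cj, τ.card])
  obtain ⟨c, hc⟩ := MulAction.exists_smul_eq M P₂ P₁
  set u₀ := (c : G) * g with hu₀
  have hu₀N : u₀ ∈ normalizer (τ.T : Set G) := mem_normalizer_of_forall fun r hr => by
    have hm : (⟨g * r * g⁻¹, hgT (conj_mem_cj hr)⟩ : M) ∈ (P₂ : Subgroup M) := by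
      rw [hP₂]; exact conj_mem_cj hr
    have hm' : c * ⟨g * r * g⁻¹, hgT (conj_mem_cj hr)⟩ * c⁻¹ ∈ ((c • P₂ : Sylow 3 M) : Subgroup M) :=
      ⟨_, hm, rfl⟩
    rw [hc] at hm'
    rw [hP₁] at hm'
    have : (c : G) * (g * r * g⁻¹) * (c : G)⁻¹ ∈ τ.T := hm'
    convert this using 1
    rw [hu₀]; group
  have hu₀Z : cj u₀ B.Z = τ.Q w := by rw [hu₀, ← cj_mul, hgZ, cj_eq_of_mem c.2.2.2]
  have hu₀Q : cj u₀ (τ.Q w) = B.Z := by rw [hu₀, ← cj_mul, hgQ, cj_eq_of_mem c.2.2.1]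
  have hu₀E : u₀ ∈ normalizer (B.E₁ : Set G) := mul_mem c.2.1 hg
  -- the square lies in the torus
  obtain ⟨e, he, r, hr, her⟩ := τ.exists_split h hw0 hw1 (mul_mem hu₀E hu₀E)
    (mem_normalizer_of_cj (by rw [← cj_mul, hu₀Z, hu₀Q])) (mem_normalizer_of_cj (by rw [← cj_mul, hu₀Q, hu₀Z]))
  have he1 : e = 1 := τ.eq_one_of_normalises hw0 hw1 he (by
    rw [show e = u₀ * u₀ * r⁻¹ by rw [her]; group]
    exact mul_mem (mul_mem hu₀N hu₀N) (inv_mem (Subgroup.le_normalizer hr)))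
  rw [he1, one_mul] at her
  refine ⟨u₀ * r, mul_mem hu₀E (B.normalizer_S_le₁ (τ.le hr)), ?_, mul_mem hu₀N (Subgroup.le_normalizer hr), ?_, ?_⟩
  · -- `r` commutes with `u₀`
    have hcm : u₀ * r = r * u₀ := by rw [← her]; group
    calc u₀ * r * (u₀ * r) = u₀ * (r * u₀) * r := by group
      _ = u₀ * u₀ * (r * r) := by rw [← hcm]; group
      _ = r ^ 3 := by rw [her, pow_three]
      _ = 1 := τ.cube hr
  · rw [← cj_mul, cj_eq_of_mem (B.mem_normalizer_Z (τ.le hr)), hu₀Z]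
  · rw [← cj_mul, cj_eq_of_mem (hTM hr).2.2, hu₀Q]

/-- **The swap.** -/
theorem exists_swap (h : B.Three) (hw0 : w ≠ 0) (hw1 : w ≠ 1) :
    ∃ u ∈ normalizer (B.E₁ : Set G), u * u = 1 ∧
      ∀ l m : F, l ≠ 0 → m ≠ 0 → u * τ.t l m * u⁻¹ = τ.t (l * m) m⁻¹ := by
  haveI := two_fact
  obtain ⟨u, huE, hu2, huN, huZ, huQ⟩ := τ.exists_invol h hw0 hw1
  have conjT : ∀ {r}, r ∈ τ.T → ∃ l m : F, l ≠ 0 ∧ m ≠ 0 ∧ u * r * u⁻¹ = τ.t l m := fun {r} hr =>
    τ.exists_eq ((Subgroup.mem_normalizer_iff.mp huN r).mp hr)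
  obtain ⟨k, hk, -⟩ := τ.exists_Q_coord hw0 hw1 1
  obtain ⟨n₁, hn₁, hn₁Q, -⟩ := τ.exists_exchange h hw0 hw1
  -- scalars fix all conjugates of the centre
  have hscal : ∀ l : F, l ≠ 0 → ∀ n ∈ normalizer (B.E₁ : Set G), cj (τ.t l 1) (cj n B.Z) = cj n B.Z := by
    intro l hl n hn
    by_cases hnZ : n ∈ normalizer (B.Z : Set G)
    · rw [cj_eq_of_mem hnZ, cj_eq_of_mem (B.mem_normalizer_Z (τ.mem_N hl one_ne_zero))]
    have he' : n * B.pt ⟨0, 0, 1⟩ * n⁻¹ ∈ B.E₁ := (Subgroup.mem_normalizer_iff.mp hn _).mp (B.Z_le₁ (pt_Z 1))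
    have he'Z : n * B.pt ⟨0, 0, 1⟩ * n⁻¹ ∉ B.Z := fun hc => hnZ
      (B.Z_disjoint hn (fun e => pt_Z_ne one_ne_zero (conj_eq_one_iff.mp e)) hc (conj_mem_cj (pt_Z 1)))
    obtain ⟨b, hb⟩ := τ.exists_shift_Q hw0 hw1 he' he'Z
    set s := B.pt ⟨0, b, 0⟩
    have hsN : s ∈ normalizer ((B.S : Subgroup G) : Set G) := Subgroup.le_normalizer (B.pt_mem _)
    -- the conjugate is a shift of the fixed points
    have hline : cj s (cj n B.Z) = τ.Q w := by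
      rw [cj_mul, ← hn₁Q]
      have hm : n₁⁻¹ * (s * n) ∈ normalizer (B.E₁ : Set G) :=
        mul_mem (inv_mem hn₁) (mul_mem (B.normalizer_S_le₁ hsN) hn)
      have hq : n₁⁻¹ * (s * n) * B.pt ⟨0, 0, 1⟩ * (n₁⁻¹ * (s * n))⁻¹ ∈ B.Z := by
        rw [← hn₁Q] at hb
        have := mem_cj.mp hb
        convert this using 1
        group
      have hmZ := B.Z_disjoint hm (fun e => pt_Z_ne one_ne_zero (conj_eq_one_iff.mp e)) hq (conj_mem_cj (pt_Z 1))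
      rw [show s * n = n₁ * (n₁⁻¹ * (s * n)) by group, ← cj_mul, cj_eq_of_mem hmZ]
    set t := τ.t l 1
    have htS : s * t * s⁻¹ * t⁻¹ ∈ B.E₁ := by
      obtain ⟨v, hv, hva, hvb⟩ := (τ.acts hl one_ne_zero).2.2 (⟨0, b, 0⟩⁻¹ : U F)
      rw [map_inv] at hv
      rw [show s * t * s⁻¹ * t⁻¹ = s * (t * s⁻¹ * t⁻¹) by group, hv, ← map_mul]
      exact B.pt_mem_E₁.mpr (by simp [hvb])
    have htQ : cj t (τ.Q w) = τ.Q w := by
      refine cj_eq_of_mem (mem_normalizer_of_forall fun q hq => Subgroup.mem_inf.mpr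
        ⟨(Subgroup.mem_normalizer_iff.mp (B.normalizer_S_le₁ (τ.mem_N hl one_ne_zero)) q).mp hq.1,
          Subgroup.mem_centralizer_singleton_iff.mpr ?_⟩)
      have hc : q * τ.t 1 w = τ.t 1 w * q := Subgroup.mem_centralizer_singleton_iff.mp hq.2
      have hc' : τ.t 1 w * t = t * τ.t 1 w := τ.comm (τ.mem one_ne_zero hw0) (τ.mem hl one_ne_zero)
      calc t * q * t⁻¹ * τ.t 1 w = t * q * t⁻¹ * (τ.t 1 w * t) * t⁻¹ := by group
        _ = t * (q * τ.t 1 w) * t⁻¹ := by rw [hc']; group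
        _ = t * (τ.t 1 w * q) * t⁻¹ := by rw [hc]
        _ = τ.t 1 w * t * q * t⁻¹ := by rw [hc']; group
        _ = _ := by group
    have hfix : cj (s * t * s⁻¹ * t⁻¹) (τ.Q w) = τ.Q w := by
      refine cj_eq_of_mem (mem_normalizer_of_forall fun q hq => ?_)
      rw [B.comm_E₁ htS hq.1, mul_inv_cancel_right]
      exact hq
    have hline' : cj n B.Z = cj s⁻¹ (τ.Q w) := by rw [← hline, cj_mul, inv_mul_cancel, cj_one]
    rw [hline']
    conv_rhs => rw [← hfix, cj_mul]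
    rw [cj_mul, show t * s⁻¹ = s⁻¹ * (s * t * s⁻¹ * t⁻¹) * t by group, ← cj_mul _ t, htQ]
  -- the images of the scalars are scalars
  have hscal' : ∀ l : F, l ≠ 0 → ∃ l' : F, l' ≠ 0 ∧ u * τ.t l 1 * u⁻¹ = τ.t l' 1 := by
    intro l hl
    obtain ⟨l', m', hl', hm', e⟩ := conjT (τ.mem hl one_ne_zero)
    refine ⟨l', hl', ?_⟩
    set s := B.pt ⟨0, 1, 0⟩ with hs
    have hsN : s * n₁ ∈ normalizer (B.E₁ : Set G) :=
      mul_mem (B.normalizer_S_le₁ (Subgroup.le_normalizer (B.pt_mem _))) hn₁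
    have hL : cj (τ.t l' m') (cj (s * n₁) B.Z) = cj (s * n₁) B.Z := by
      rw [← e, show u * τ.t l 1 * u⁻¹ = u * (τ.t l 1 * u⁻¹) by group, ← cj_mul, ← cj_mul, cj_mul u⁻¹,
        hscal l hl _ (mul_mem (inv_mem huE) hsN), cj_mul, mul_inv_cancel_left]
    rw [← cj_mul, hn₁Q] at hL
    obtain ⟨d, hd, -⟩ := τ.conj_q hl' hm' 1 k
    obtain ⟨d', hd', -⟩ := τ.conj_q hl' hm' 1 (k + 1)
    have sh : ∀ a c : F, s * B.pt ⟨a, 0, c⟩ * s⁻¹ = B.pt ⟨a, 0, c + a⟩ := fun a c => by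
      rw [hs]
      show B.pt ⟨0, 1, 0⟩ * B.q (a, c) * (B.pt ⟨0, 1, 0⟩)⁻¹ = _
      rw [B.shift_q, q, mul_one]
    have hmem : τ.t l' m' * B.pt ⟨1, 0, k + 1⟩ * (τ.t l' m')⁻¹ ∈ cj (τ.t l' m') (cj s (τ.Q w)) := by
      refine conj_mem_cj ?_
      rw [← sh 1 k]
      exact conj_mem_cj hk
    rw [hL, hd', mem_cj] at hmem
    rw [show s⁻¹ * B.pt ⟨l' * 1, 0, d' + l' * m' * (k + 1)⟩ * s =
      B.pt ⟨l' * 1, 0, d' + l' * m' * (k + 1) + l'⟩ by
        have hh := sh (l' * 1) (d' + l' * m' * (k + 1) + l')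
        rw [show d' + l' * m' * (k + 1) + l' + l' * 1 = d' + l' * m' * (k + 1) by
          linear_combination l' * two_eq_zero B.hF] at hh
        rw [← hh]; group] at hmem
    have hq : τ.t l' m' * B.pt ⟨1, 0, k⟩ * (τ.t l' m')⁻¹ ∈ τ.Q w := by
      refine Subgroup.mem_inf.mpr
        ⟨(Subgroup.mem_normalizer_iff.mp (B.normalizer_S_le₁ (τ.mem_N hl' hm')) _).mp hk.1,
          Subgroup.mem_centralizer_singleton_iff.mpr ?_⟩
      have hc := Subgroup.mem_centralizer_singleton_iff.mp hk.2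
      have hc' := τ.comm (τ.mem one_ne_zero hw0) (τ.mem hl' hm')
      calc τ.t l' m' * B.pt ⟨1, 0, k⟩ * (τ.t l' m')⁻¹ * τ.t 1 w
          = τ.t l' m' * B.pt ⟨1, 0, k⟩ * (τ.t l' m')⁻¹ * (τ.t 1 w * τ.t l' m') * (τ.t l' m')⁻¹ := by group
        _ = τ.t l' m' * (B.pt ⟨1, 0, k⟩ * τ.t 1 w) * (τ.t l' m')⁻¹ := by rw [hc']; group
        _ = τ.t l' m' * (τ.t 1 w * B.pt ⟨1, 0, k⟩) * (τ.t l' m')⁻¹ := by rw [hc]
        _ = τ.t 1 w * τ.t l' m' * B.pt ⟨1, 0, k⟩ * (τ.t l' m')⁻¹ := by rw [hc']; group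
        _ = _ := by group
    rw [hd] at hq
    obtain ⟨k', -, hk'⟩ := τ.exists_Q_coord hw0 hw1 (l' * 1)
    have heq := (hk' _ hmem).trans (hk' _ hq).symm
    have hdd : d' = d := by
      have A1 : τ.t l' m' * B.pt ⟨1, 0, k + 1⟩ * (τ.t l' m')⁻¹ =
          (τ.t l' m' * B.pt ⟨1, 0, k⟩ * (τ.t l' m')⁻¹) * (τ.t l' m' * B.pt ⟨0, 0, 1⟩ * (τ.t l' m')⁻¹) := by
        rw [show (⟨1, 0, k + 1⟩ : U F) = ⟨1, 0, k⟩ * ⟨0, 0, 1⟩ from U.ext (by simp) (by simp) (by simp), map_mul]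
        group
      rw [hd', hd, (τ.acts hl' hm').conj_Z B (τ.mem_N hl' hm'), ← map_mul] at A1
      have A2 : d' + l' * m' * (k + 1) = d + l' * m' * k + l' * m' * 1 := by
        simpa using congrArg U.c (B.pt_injective A1)
      linear_combination A2
    have : l' * m' = l' := by
      rw [hdd] at heq
      linear_combination heq - l' * two_eq_zero B.hF
    rw [e, (mul_eq_left₀ hl').mp this]
  have hone : ∀ l : F, l ≠ 0 → u * τ.t l 1 * u⁻¹ = τ.t l 1 := by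
    intro l hl
    rcases eq_or_ne l 1 with rfl | hl1
    · rw [τ.one]; group
    obtain ⟨l', hl', e⟩ := hscal' l hl
    set t₀ := τ.t l 1 with ht₀
    have hE : ∀ {x : G}, x ∈ normalizer (B.E₁ : Set G) → ∀ {e' : G}, e' ∈ B.E₁ → x * e' * x⁻¹ ∈ B.E₁ :=
      fun {x} hx {e'} he' => (Subgroup.mem_normalizer_iff.mp hx e').mp he'
    let M : Subgroup G :=
      { carrier := {x | x ∈ normalizer (B.E₁ : Set G) ∧ x * t₀ * x⁻¹ * t₀⁻¹ ∈ B.E₁}
        one_mem' := ⟨one_mem _, by simp⟩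
        mul_mem' := fun {x y} hx hy => ⟨mul_mem hx.1 hy.1, by
          have h := mul_mem (hE hx.1 hy.2) hx.2
          convert h using 1
          group⟩
        inv_mem' := fun {x} hx => ⟨inv_mem hx.1, by
          have h := hE (inv_mem hx.1) (inv_mem hx.2)
          convert h using 1
          group⟩ }
    have hN : normalizer ((B.S : Subgroup G) : Set G) ≤ M := by
      intro x hx
      refine ⟨B.normalizer_S_le₁ hx, ?_⟩
      have ht₀N := τ.mem_N hl one_ne_zero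
      obtain ⟨a, b, hA⟩ := B.exists_acts hx
      have hmem : x * t₀ * x⁻¹ * t₀⁻¹ ∈ (B.S : Subgroup G) := by
        refine h.mem_S (mul_mem (mul_mem (mul_mem hx ht₀N) (inv_mem hx)) (inv_mem ht₀N)) ?_
        have := B.acts_mul (B.acts_mul (B.acts_mul hA (τ.acts hl one_ne_zero)) (B.acts_inv hx hA))
          (B.acts_inv ht₀N (τ.acts hl one_ne_zero))
        simpa [mul_comm a, hA.1, hA.2.1, hl] using this
      have hb : B.Acts (τ.t a b)⁻¹ a⁻¹ b⁻¹ := B.acts_inv (τ.mem_N hA.1 hA.2.1) (τ.acts hA.1 hA.2.1)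
      set s := x * (τ.t a b)⁻¹ with hs
      have hsS : s ∈ (B.S : Subgroup G) := by
        refine h.mem_S (mul_mem hx (inv_mem (τ.mem_N hA.1 hA.2.1))) ?_
        have := B.acts_mul hA hb
        simpa [hA.1, hA.2.1] using this
      have hc := τ.comm (τ.mem hA.1 hA.2.1) (τ.mem hl one_ne_zero)
      rw [show x * t₀ * x⁻¹ * t₀⁻¹ = s * (t₀ * s⁻¹ * t₀⁻¹) by
        rw [hs]
        calc x * t₀ * x⁻¹ * t₀⁻¹ = x * (t₀ * τ.t a b) * (τ.t a b)⁻¹ * x⁻¹ * t₀⁻¹ := by group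
          _ = x * (τ.t a b)⁻¹ * (τ.t a b * t₀ * τ.t a b) * (τ.t a b)⁻¹ * x⁻¹ * t₀⁻¹ := by group
          _ = x * (τ.t a b)⁻¹ * (t₀ * τ.t a b * τ.t a b) * (τ.t a b)⁻¹ * x⁻¹ * t₀⁻¹ := by rw [hc]
          _ = _ := by group]
      obtain ⟨v, hv⟩ := B.exists_pt hsS
      obtain ⟨v', hv', -, hvb⟩ := (τ.acts hl one_ne_zero).2.2 v⁻¹
      rw [map_inv, hv] at hv'
      rw [← hv, ht₀]
      rw [hv, hv', ← hv, ← map_mul]
      exact B.pt_mem_E₁.mpr (by simp [hvb])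
    rcases cases_four B.hF hl hl1 l' with hc | hc | hc | hc
    · exact absurd hc hl'
    · exfalso
      rw [hc, τ.one] at e
      have h1 := conj_eq_one_iff.mp e
      rw [← τ.one] at h1
      exact hl1 (τ.inj hl one_ne_zero one_ne_zero one_ne_zero h1).1
    · rw [e, hc]
    have hinv : u * t₀ * u⁻¹ = t₀⁻¹ := by
      rw [e, hc, ht₀, τ.inv hl one_ne_zero, inv_one, ← quad B.hF hl hl1,
        show l⁻¹ = l ^ 2 from inv_eq_of_mul_eq_one_left (by rw [← pow_succ]; exact L34Sylow.cube B.hF hl)]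
    have huM : u ∈ normalizer (M : Set G) := mem_normalizer_of_forall fun x hx => by
      refine ⟨mul_mem (mul_mem huE hx.1) (inv_mem huE), ?_⟩
      have h' : u * (t₀⁻¹ * (x * t₀ * x⁻¹ * t₀⁻¹)⁻¹ * t₀) * u⁻¹ ∈ B.E₁ := by
        refine hE huE ?_
        have := hE (inv_mem (B.normalizer_S_le₁ (τ.mem_N hl one_ne_zero))) (inv_mem hx.2)
        rwa [inv_inv] at this
      have hinv' : u * t₀⁻¹ * u⁻¹ = t₀ := by
        rw [show u * t₀⁻¹ * u⁻¹ = (u * t₀ * u⁻¹)⁻¹ by group, hinv, inv_inv]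
      have hinv2 : u⁻¹ * t₀ * u = t₀⁻¹ := by
        conv_lhs => rw [← hinv']
        group
      convert h' using 1
      calc u * x * u⁻¹ * t₀ * (u * x * u⁻¹)⁻¹ * t₀⁻¹ = u * (x * (u⁻¹ * t₀ * u) * x⁻¹) * u⁻¹ * t₀⁻¹ := by group
        _ = u * (x * t₀⁻¹ * x⁻¹) * u⁻¹ * (u * t₀ * u⁻¹) := by rw [hinv2, hinv]
        _ = _ := by group
    have hSM : (B.S : Subgroup G) ≤ M := fun s hs => hN (Subgroup.le_normalizer hs)
    have h2 : ((u • B.S : Sylow 2 G) : Subgroup G) ≤ M := by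
      rintro _ ⟨s, hs, rfl⟩
      exact (Subgroup.mem_normalizer_iff.mp huM s).mp (hSM hs)
    obtain ⟨m, hm⟩ := MulAction.exists_smul_eq M ((u • B.S).subtype h2) (B.S.subtype hSM)
    rw [Sylow.smul_subtype] at hm
    have hm' := Sylow.subtype_injective hm
    rw [Subgroup.smul_def, smul_smul] at hm'
    have humem : u ∈ M := by
      have := mul_mem (inv_mem m.2) (hN (Sylow.smul_eq_iff_mem_normalizer.mp hm'))
      rwa [inv_mul_cancel_left] at this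
    have h0 : u * t₀ * u⁻¹ * t₀⁻¹ = 1 := τ.eq_one
      (mul_mem ((Subgroup.mem_normalizer_iff.mp huN _).mp (τ.mem hl one_ne_zero)) (inv_mem (τ.mem hl one_ne_zero)))
      (B.E₁_le humem.2)
    exact mul_inv_eq_one.mp h0
  have hw : u * τ.t 1 w * u⁻¹ = τ.t w w⁻¹ := by
    obtain ⟨l', m', hl', hm', e⟩ := conjT (τ.mem one_ne_zero hw0)
    have hz : τ.t l' m' * B.pt ⟨0, 0, 1⟩ = B.pt ⟨0, 0, 1⟩ * τ.t l' m' := by
      have hmem : B.pt ⟨0, 0, 1⟩ ∈ cj u (τ.Q w) := huQ.symm ▸ pt_Z 1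
      have hq := Subgroup.mem_centralizer_singleton_iff.mp (mem_cj.mp hmem).2
      rw [← e]
      calc u * τ.t 1 w * u⁻¹ * B.pt ⟨0, 0, 1⟩ = u * (τ.t 1 w * (u⁻¹ * B.pt ⟨0, 0, 1⟩ * u)) * u⁻¹ := by group
        _ = u * (u⁻¹ * B.pt ⟨0, 0, 1⟩ * u * τ.t 1 w) * u⁻¹ := by rw [hq]
        _ = _ := by group
    have hlm := acts_comm (τ.mem_N hl' hm') (τ.acts hl' hm') one_ne_zero hz
    have hm'' : m' = l'⁻¹ := eq_inv_of_mul_eq_one_right hlm
    subst hm''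
    rcases cases_four B.hF hw0 hw1 l' with hc | hc | hc | hc
    · exact absurd hc hl'
    · exfalso
      rw [hc, inv_one, τ.one] at e
      have h1 := conj_eq_one_iff.mp e
      rw [← τ.one] at h1
      exact hw1 (τ.inj one_ne_zero hw0 one_ne_zero one_ne_zero h1).2
    · rw [e, hc]
    exfalso
    rw [← quad B.hF hw0 hw1] at hc
    have hcube : w ^ 3 = 1 := L34Sylow.cube B.hF hw0
    have hinv : (w ^ 2)⁻¹ = w := inv_eq_of_mul_eq_one_left (by rw [← pow_succ', hcube])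
    subst hc
    rw [hinv] at e
    have e2 : u * τ.t (w ^ 2) w * u⁻¹ = τ.t 1 w := by
      rw [← e, show u * (u * τ.t 1 w * u⁻¹) * u⁻¹ = (u * u) * τ.t 1 w * (u * u)⁻¹ by group, hu2]
      group
    have hsplit : τ.t (w ^ 2) w = τ.t (w ^ 2) 1 * τ.t 1 w := by
      rw [τ.mul hl' one_ne_zero one_ne_zero hw0, mul_one, one_mul]
    rw [hsplit, show u * (τ.t (w ^ 2) 1 * τ.t 1 w) * u⁻¹ = (u * τ.t (w ^ 2) 1 * u⁻¹) * (u * τ.t 1 w * u⁻¹) by group,
      hone _ hl', e, τ.mul hl' one_ne_zero hl' hw0] at e2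
    have h1 := (τ.inj (mul_ne_zero hl' hl') (mul_ne_zero one_ne_zero hw0) one_ne_zero hw0 e2).1
    exact hw1 (by linear_combination h1 - w * hcube)
  refine ⟨u, huE, hu2, fun l m hl hm => ?_⟩
  have hm1 : ∀ m : F, m ≠ 0 → u * τ.t 1 m * u⁻¹ = τ.t m m⁻¹ := by
    intro m hm
    rcases cases_four B.hF hw0 hw1 m with hc | hc | hc | hc
    · exact absurd hc hm
    · rw [hc, inv_one, τ.one]; group
    · rw [hc]; exact hw
    · have h2 : m = w * w := by rw [hc, ← quad B.hF hw0 hw1, pow_two]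
      rw [h2, show τ.t 1 (w * w) = τ.t 1 w * τ.t 1 w by rw [τ.mul one_ne_zero hw0 one_ne_zero hw0, one_mul],
        show u * (τ.t 1 w * τ.t 1 w) * u⁻¹ = (u * τ.t 1 w * u⁻¹) * (u * τ.t 1 w * u⁻¹) by group, hw,
        τ.mul hw0 (inv_ne_zero hw0) hw0 (inv_ne_zero hw0), mul_inv]
  rw [show τ.t l m = τ.t l 1 * τ.t 1 m by rw [τ.mul hl one_ne_zero one_ne_zero hm, mul_one, one_mul],
    show u * (τ.t l 1 * τ.t 1 m) * u⁻¹ = (u * τ.t l 1 * u⁻¹) * (u * τ.t 1 m * u⁻¹) by group, hone l hl, hm1 m hm,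
    τ.mul hl one_ne_zero hm (inv_ne_zero hm), one_mul]

end Torus

end Base

end CfsgLib.L34Sylow
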