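import Cfsg.Agent.Lib.L34Sylow.BothFused
import Cfsg.Agent.Lib.L34Sylow.CentFull
import Cfsg.Agent.Lib.L34Sylow.Linear

/-!
The torus of the normaliser of the Sylow subgroup and the involution exchanging its characters.

Blueprint: `blueprint/S3198.md`, section 5.
-/

set_option autoImplicit false
set_option linter.unusedSectionVars false
set_option linter.style.haveILetI false

namespace CfsgLib.L34Sylow

open Subgroup Cfsg

variable {G : Type*} [Group G] [Finite G] {F : Type*} [Field F]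

namespace Base

variable (B : Base G F)

/-- The setting: both pieces fused, no core, and the centraliser of a central involution larger than `S`. -/
structure Three : Prop where
  hO : oddCore G = ⊥
  h1 : B.Fused₁
  h2 : B.swap.Fused₁
  big : ∃ z ∈ B.Z, z ≠ 1 ∧ ∃ g : G, g * z = z * g ∧ g ∉ (B.S : Subgroup G)

theorem mem_normalizer_Z {n : G} (hn : n ∈ normalizer ((B.S : Subgroup G) : Set G)) :
    n ∈ normalizer (B.Z : Set G) := by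
  obtain ⟨l, m, hA⟩ := B.exists_acts hn
  refine mem_normalizer_of_forall fun z hz => ?_
  obtain ⟨c, rfl⟩ : ∃ c, B.pt ⟨0, 0, c⟩ = z := B.pt_c hz
  rw [hA.conj_Z B hn]
  exact B.pt_mem_Z.mpr ⟨rfl, rfl⟩

variable {B}

theorem Three.swap (h : B.Three) : B.swap.Three := by
  obtain ⟨z, hz, hz1, g, hg, hgS⟩ := h.big
  refine ⟨h.hO, h.h2, ?_, z, B.swap_Z.symm ▸ hz, hz1, g, hg, hgS⟩
  obtain ⟨g, z, hz, h1, h2⟩ := h.h1
  refine ⟨g, z, by rw [swap_Z, swap_Z]; exact hz, ?_, by rw [swap_Z, swap_Z]; exact h2⟩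
  rw [swap_E₁, swap_E₂]
  exact h1

theorem Three.cent_le (h : B.Three) {z g : G} (hz : z ∈ B.Z) (hz1 : z ≠ 1) (hg : g * z = z * g) :
    g ∈ normalizer ((B.S : Subgroup G) : Set G) := B.mem_normalizer_of_comm h.hO h.h1 h.h2 hz hz1 hg

theorem Three.mem_S (h : B.Three) {n : G} (hn : n ∈ normalizer ((B.S : Subgroup G) : Set G)) (hA : B.Acts n 1 1) :
    n ∈ (B.S : Subgroup G) := B.mem_S_of_acts_one h.hO h.h1 h.h2 hn hA

/-- The central element with a given coordinate. -/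
theorem pt_Z (c : F) : B.pt ⟨0, 0, c⟩ ∈ B.Z := B.pt_mem_Z.mpr ⟨rfl, rfl⟩

theorem pt_Z_ne {c : F} (hc : c ≠ 0) : B.pt ⟨0, 0, c⟩ ≠ 1 := fun e =>
  hc (congrArg U.c (B.pt_injective (e.trans (map_one B.pt).symm)))

theorem pt_out {a c : F} (ha : a ≠ 0) : B.pt ⟨a, 0, c⟩ ∉ B.Z := fun h => ha (B.pt_mem_Z.mp h).1

/-- A multiplier on the centre of an element commuting with a central involution. -/
theorem acts_comm {n : G} (hn : n ∈ normalizer ((B.S : Subgroup G) : Set G)) {l m c : F} (hA : B.Acts n l m)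
    (hc : c ≠ 0) (h : n * B.pt ⟨0, 0, c⟩ = B.pt ⟨0, 0, c⟩ * n) : l * m = 1 := by
  have h1 := hA.conj_Z B hn c
  rw [h, mul_inv_cancel_right] at h1
  have h2 : c = l * m * c := congrArg U.c (B.pt_injective h1)
  exact mul_right_cancel₀ hc (by rw [one_mul]; exact h2.symm)

/-- The normaliser of the centre inside the normaliser of the first piece. -/
theorem Three.normalizer_le (h : B.Three) {g : G} (hg : g ∈ normalizer (B.E₁ : Set G))
    (hgZ : g ∈ normalizer (B.Z : Set G)) : g ∈ normalizer ((B.S : Subgroup G) : Set G) := by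
  obtain ⟨n, hn, hgn⟩ := B.exists_sameOn_normalizer hg hgZ
  have hfix : ∀ e ∈ B.E₁, n⁻¹ * g * e = e * (n⁻¹ * g) := fun e he => by
    calc n⁻¹ * g * e = n⁻¹ * (g * e * g⁻¹) * g := by group
      _ = n⁻¹ * (n * e * n⁻¹) * g := by rw [hgn e he]
      _ = _ := by group
  have h1 := h.cent_le (pt_Z 1) (pt_Z_ne one_ne_zero) (hfix _ (B.Z_le₁ (pt_Z 1)))
  rw [show g = n * (n⁻¹ * g) by group]
  exact mul_mem hn h1

/-- The first piece is its own centraliser. -/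
theorem Three.centralizer_E₁ (h : B.Three) {g : G} (hg : ∀ e ∈ B.E₁, g * e = e * g) : g ∈ B.E₁ := by
  have hn := h.cent_le (pt_Z 1) (pt_Z_ne one_ne_zero) (hg _ (B.Z_le₁ (pt_Z 1)))
  obtain ⟨l, m, hA⟩ := B.exists_acts hn
  have hl : l = 1 := by
    obtain ⟨v, hv, ha, -⟩ := hA.2.2 ⟨1, 0, 0⟩
    rw [hg _ (B.pt_mem_E₁.mpr rfl), mul_inv_cancel_right] at hv
    rw [← B.pt_injective hv] at ha
    simpa using ha.symm
  have hm := acts_comm hn hA one_ne_zero (hg _ (B.Z_le₁ (pt_Z 1)))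
  rw [hl, one_mul] at hm
  subst hl hm
  exact B.mem_E₁_of_comm (x := B.pt ⟨1, 0, 0⟩) (B.pt_mem_E₁.mpr rfl) (pt_out one_ne_zero) (h.mem_S hn hA)
    (hg (B.pt ⟨1, 0, 0⟩) (B.pt_mem_E₁.mpr rfl)).symm

/-- All pairs of multipliers occur. -/
theorem Three.inH (h : B.Three) {l m : F} (hl : l ≠ 0) (hm : m ≠ 0) : B.InH l m := by
  obtain ⟨z, hz, hz1, g, hg, hgS⟩ := h.big
  have hgn := h.cent_le hz hz1 hg
  obtain ⟨l₀, m₀, hA⟩ := B.exists_acts hgn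
  obtain ⟨c, rfl⟩ : ∃ c, B.pt ⟨0, 0, c⟩ = z := B.pt_c hz
  have hlm := acts_comm hgn hA (fun e => hz1 (by rw [e]; exact map_one B.pt)) hg
  have hl₀ : l₀ ≠ 1 := fun e => hgS (h.mem_S hgn (by rw [e, one_mul] at hlm; rwa [e, hlm] at hA))
  obtain ⟨w, hw0, hw1⟩ := exists_omega B.hF
  obtain ⟨n, hn, hnz⟩ := B.transitive₁ h.h1 (pt_Z 1) (pt_Z_ne one_ne_zero) (B.Z_le₁ (pt_Z w)) (pt_Z_ne hw0)
  have hnS : n ∈ normalizer ((B.S : Subgroup G) : Set G) := by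
    refine h.normalizer_le hn (B.Z_disjoint hn (pt_Z_ne hw0) (pt_Z w) ?_)
    rw [← hnz]
    exact conj_mem_cj (pt_Z 1)
  obtain ⟨l₁, m₁, hA₁⟩ := B.exists_acts hnS
  have hw : l₁ * m₁ = w := by
    have h1 := hA₁.conj_Z B hnS 1
    rw [hnz, mul_one] at h1
    exact (congrArg U.c (B.pt_injective h1)).symm
  -- the anti-diagonal
  have hanti : ∀ k : F, k ≠ 0 → B.InH k k⁻¹ := by
    intro k hk
    have hm₀ : m₀ = l₀⁻¹ := eq_inv_of_mul_eq_one_right hlm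
    have hl₀0 : l₀ ≠ 0 := hA.1
    rcases cases_four B.hF hl₀0 hl₀ k with e | e | e | e
    · exact absurd e hk
    · exact ⟨1, one_mem _, by rw [e, inv_one]; exact B.acts_one⟩
    · exact ⟨g, hgn, by rw [e, ← hm₀]; exact hA⟩
    · refine ⟨g * g, mul_mem hgn hgn, ?_⟩
      have hq : l₀ * l₀ = k := by rw [e, ← pow_two]; exact quad B.hF hl₀0 hl₀
      rw [← hq, mul_inv, ← hm₀]
      exact B.acts_mul hA hA
  -- an element for every product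
  have hprod : ∀ k : F, k ≠ 0 → ∃ a b : F, a * b = k ∧ B.InH a b := by
    intro k hk
    rcases cases_four B.hF hw0 hw1 k with e | e | e | e
    · exact absurd e hk
    · exact ⟨1, 1, by rw [e, one_mul], 1, one_mem _, B.acts_one⟩
    · exact ⟨l₁, m₁, by rw [e, hw], n, hnS, hA₁⟩
    · exact ⟨l₁ * l₁, m₁ * m₁, by rw [e, ← quad B.hF hw0 hw1, ← hw]; ring, n * n, mul_mem hnS hnS, B.acts_mul hA₁ hA₁⟩
  obtain ⟨a, b, hab, hH⟩ := hprod (l * m) (mul_ne_zero hl hm)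
  have ha : a ≠ 0 := fun e => mul_ne_zero hl hm (by rw [← hab, e, zero_mul])
  have hk := B.inH_mul (hanti (l / a) (div_ne_zero hl ha)) hH
  rwa [div_mul_cancel₀ l ha, show (l / a)⁻¹ * b = m by
    rw [inv_div, div_mul_eq_mul_div, hab, mul_comm, mul_div_assoc, div_self hl, mul_one]] at hk

variable (B) in
/-- A torus: a complement of `S` in its normaliser, parametrised by the multipliers. -/
structure Torus where
  T : Subgroup G
  le : T ≤ normalizer ((B.S : Subgroup G) : Set G)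
  t : F → F → G
  mem : ∀ {l m : F}, l ≠ 0 → m ≠ 0 → t l m ∈ T
  acts : ∀ {l m : F}, l ≠ 0 → m ≠ 0 → B.Acts (t l m) l m
  eq : ∀ {x : G}, x ∈ T → ∀ {l m : F}, B.Acts x l m → x = t l m

/-- A torus exists. -/
theorem Three.exists_torus (h : B.Three) : Nonempty B.Torus := by
  classical
  haveI := two_fact
  set N := normalizer ((B.S : Subgroup G) : Set G)
  haveI : ((B.S : Subgroup G).subgroupOf N).Normal := Subgroup.normal_in_normalizer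
  have hcop : (Nat.card ((B.S : Subgroup G).subgroupOf N)).Coprime ((B.S : Subgroup G).subgroupOf N).index :=
    (B.S.subtype (Subgroup.le_normalizer (H := (B.S : Subgroup G)))).card_coprime_index
  obtain ⟨K, hK⟩ := Subgroup.exists_right_complement'_of_coprime hcop
  have hex : ∀ l m : F, l ≠ 0 ∧ m ≠ 0 → ∃ x ∈ K.map N.subtype, B.Acts x l m := by
    rintro l m ⟨hl, hm⟩
    obtain ⟨n, hn, hA⟩ := h.inH hl hm
    have hsurj := hK.2 ⟨n, hn⟩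
    obtain ⟨⟨⟨s, hs⟩, ⟨k, hk⟩⟩, e⟩ := hsurj
    have e' : (s : G) * k = n := congrArg Subtype.val e
    refine ⟨k, ⟨k, hk, rfl⟩, ?_⟩
    have h1 := B.acts_mul (B.acts_mem (inv_mem (Subgroup.mem_subgroupOf.mp hs))) hA
    rwa [← e', inv_mul_cancel_left, one_mul, one_mul] at h1
  let t : F → F → G := fun l m => if hlm : l ≠ 0 ∧ m ≠ 0 then (hex l m hlm).choose else 1
  have ht : ∀ l m : F, (hlm : l ≠ 0 ∧ m ≠ 0) → t l m ∈ K.map N.subtype ∧ B.Acts (t l m) l m := fun l m hlm => by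
    simp only [t, dif_pos hlm]
    exact (hex l m hlm).choose_spec
  refine ⟨⟨K.map N.subtype, Subgroup.map_subtype_le _, t, fun hl hm => (ht _ _ ⟨hl, hm⟩).1,
    fun hl hm => (ht _ _ ⟨hl, hm⟩).2, fun {x} hx {l m} hA => ?_⟩⟩
  obtain ⟨hy, hAy⟩ := ht l m ⟨hA.1, hA.2.1⟩
  obtain ⟨x', hx', rfl⟩ := hx
  obtain ⟨y', hy', ey⟩ := hy
  rw [← ey] at hAy ⊢
  have h1 := B.acts_mul (B.acts_inv y'.2 hAy) hA
  rw [inv_mul_cancel₀ hA.1, inv_mul_cancel₀ hA.2.1] at h1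
  have hS : y'⁻¹ * x' ∈ (B.S : Subgroup G).subgroupOf N :=
    Subgroup.mem_subgroupOf.mpr (h.mem_S (y'⁻¹ * x').2 h1)
  have := (Subgroup.disjoint_def.mp hK.disjoint) hS (mul_mem (inv_mem hy') hx')
  exact congrArg Subtype.val (inv_mul_eq_one.mp this).symm

namespace Torus

variable (τ : B.Torus)

theorem mem_N {l m : F} (hl : l ≠ 0) (hm : m ≠ 0) : τ.t l m ∈ normalizer ((B.S : Subgroup G) : Set G) :=
  τ.le (τ.mem hl hm)

theorem one : τ.t 1 1 = 1 := (τ.eq τ.T.one_mem B.acts_one).symm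

theorem mul {l m l' m' : F} (hl : l ≠ 0) (hm : m ≠ 0) (hl' : l' ≠ 0) (hm' : m' ≠ 0) :
    τ.t l m * τ.t l' m' = τ.t (l * l') (m * m') :=
  τ.eq (mul_mem (τ.mem hl hm) (τ.mem hl' hm')) (B.acts_mul (τ.acts hl hm) (τ.acts hl' hm'))

theorem inv {l m : F} (hl : l ≠ 0) (hm : m ≠ 0) : (τ.t l m)⁻¹ = τ.t l⁻¹ m⁻¹ :=
  τ.eq (inv_mem (τ.mem hl hm)) (B.acts_inv (τ.mem_N hl hm) (τ.acts hl hm))

theorem exists_eq {x : G} (hx : x ∈ τ.T) : ∃ l m : F, l ≠ 0 ∧ m ≠ 0 ∧ x = τ.t l m := by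
  obtain ⟨l, m, hA⟩ := B.exists_acts (τ.le hx)
  exact ⟨l, m, hA.1, hA.2.1, τ.eq hx hA⟩

theorem comm {x y : G} (hx : x ∈ τ.T) (hy : y ∈ τ.T) : x * y = y * x := by
  obtain ⟨l, m, hl, hm, rfl⟩ := τ.exists_eq hx
  obtain ⟨l', m', hl', hm', rfl⟩ := τ.exists_eq hy
  rw [τ.mul hl hm hl' hm', τ.mul hl' hm' hl hm, mul_comm l, mul_comm m]

theorem inj {l m l' m' : F} (hl : l ≠ 0) (hm : m ≠ 0) (hl' : l' ≠ 0) (hm' : m' ≠ 0) (h : τ.t l m = τ.t l' m') :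
    l = l' ∧ m = m' := B.acts_unique (τ.acts hl hm) (h ▸ τ.acts hl' hm')

theorem eq_one {x : G} (hx : x ∈ τ.T) (hS : x ∈ (B.S : Subgroup G)) : x = 1 :=
  (τ.eq hx (B.acts_mem hS)).trans τ.one

theorem card : Nat.card τ.T = 9 := by
  haveI := finite_four B.hF
  have h : Nat.card (Fˣ × Fˣ) = Nat.card τ.T := by
    refine Nat.card_eq_of_bijective (fun p => ⟨τ.t (p.1 : F) (p.2 : F), τ.mem p.1.ne_zero p.2.ne_zero⟩)
      ⟨fun p q e => ?_, fun x => ?_⟩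
    · obtain ⟨h1, h2⟩ := τ.inj p.1.ne_zero p.2.ne_zero q.1.ne_zero q.2.ne_zero (congrArg Subtype.val e)
      exact Prod.ext (Units.ext h1) (Units.ext h2)
    · obtain ⟨l, m, hl, hm, e⟩ := τ.exists_eq x.2
      exact ⟨(Units.mk0 l hl, Units.mk0 m hm), Subtype.ext e.symm⟩
  rw [← h, Nat.card_prod, Nat.card_units, B.hF]

theorem cube {x : G} (hx : x ∈ τ.T) : x ^ 3 = 1 := by
  obtain ⟨l, m, hl, hm, rfl⟩ := τ.exists_eq hx
  rw [pow_three, τ.mul hl hm hl hm, τ.mul hl hm (mul_ne_zero hl hl) (mul_ne_zero hm hm), ← pow_three, ← pow_three,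
    L34Sylow.cube B.hF hl, L34Sylow.cube B.hF hm, τ.one]

/-- The torus with the characters exchanged. -/
def swap : B.swap.Torus where
  T := τ.T
  le := τ.le
  t l m := τ.t m l
  mem hl hm := τ.mem hm hl
  acts hl hm := (τ.acts hm hl).swap B
  eq {x} hx {l m} hA := by
    obtain ⟨l', m', hA'⟩ := B.exists_acts (τ.le hx)
    obtain ⟨rfl, rfl⟩ := B.swap.acts_unique hA (hA'.swap B)
    exact τ.eq hx hA'

/-- The images of the first piece and the centre. -/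
theorem conj_q {l m : F} (hl : l ≠ 0) (hm : m ≠ 0) (a c : F) :
    ∃ c', τ.t l m * B.pt ⟨a, 0, c⟩ * (τ.t l m)⁻¹ = B.pt ⟨l * a, 0, c' + l * m * c⟩ ∧
      τ.t l m * B.pt ⟨a, 0, 0⟩ * (τ.t l m)⁻¹ = B.pt ⟨l * a, 0, c'⟩ := by
  obtain ⟨v, hv, ha, hb⟩ := (τ.acts hl hm).2.2 ⟨a, 0, 0⟩
  have hv' : v = ⟨l * a, 0, v.c⟩ := U.ext (by simpa using ha) (by simpa using hb) rfl
  rw [hv'] at hv
  refine ⟨v.c, ?_, hv⟩
  rw [show (⟨a, 0, c⟩ : U F) = ⟨a, 0, 0⟩ * ⟨0, 0, c⟩ from U.ext (by simp) (by simp) (by simp), map_mul,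
    show τ.t l m * (B.pt ⟨a, 0, 0⟩ * B.pt ⟨0, 0, c⟩) * (τ.t l m)⁻¹ =
      (τ.t l m * B.pt ⟨a, 0, 0⟩ * (τ.t l m)⁻¹) * (τ.t l m * B.pt ⟨0, 0, c⟩ * (τ.t l m)⁻¹) by group,
    hv, (τ.acts hl hm).conj_Z B (τ.mem_N hl hm), ← map_mul]
  congr 1
  exact U.ext (by simp) (by simp) (by simp)

/-- The fixed points in the first piece of `t 1 w`. -/
def Q (w : F) : Subgroup G := B.E₁ ⊓ centralizer ({τ.t 1 w} : Set G)

variable {w : F}

theorem exists_Q_coord (hw0 : w ≠ 0) (hw1 : w ≠ 1) (a : F) :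
    ∃ k : F, B.pt ⟨a, 0, k⟩ ∈ τ.Q w ∧ ∀ c, B.pt ⟨a, 0, c⟩ ∈ τ.Q w → c = k := by
  obtain ⟨c', -, h0⟩ := τ.conj_q one_ne_zero hw0 a 0
  have hne : (1 : F) - w ≠ 0 := sub_ne_zero.mpr hw1.symm
  have key : ∀ c, B.pt ⟨a, 0, c⟩ ∈ τ.Q w ↔ (1 - w) * c = c' := by
    intro c
    obtain ⟨d, hd, hd0⟩ := τ.conj_q one_ne_zero hw0 a c
    have hdc : d = c' := congrArg U.c (B.pt_injective (hd0.symm.trans h0))
    subst hdc
    rw [one_mul, one_mul] at hd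
    constructor
    · intro hq
      have h : τ.t 1 w * B.pt ⟨a, 0, c⟩ * (τ.t 1 w)⁻¹ = B.pt ⟨a, 0, c⟩ := by
        rw [← Subgroup.mem_centralizer_singleton_iff.mp hq.2, mul_inv_cancel_right]
      rw [hd] at h
      have h' : d + w * c = c := congrArg U.c (B.pt_injective h)
      linear_combination -h'
    · intro hc
      refine Subgroup.mem_inf.mpr ⟨B.pt_mem_E₁.mpr rfl, Subgroup.mem_centralizer_singleton_iff.mpr ?_⟩
      rw [show d + w * c = c by linear_combination -hc] at hd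
      exact (mul_inv_eq_iff_eq_mul.mp hd).symm
  exact ⟨c' / (1 - w), (key _).mpr (by field_simp), fun c hc => by
    rw [eq_div_iff hne, mul_comm]; exact (key c).mp hc⟩

theorem exists_Q_pt {x : G} (hx : x ∈ τ.Q w) : ∃ a c : F, B.pt ⟨a, 0, c⟩ = x := by
  obtain ⟨u, hu, rfl⟩ := hx.1
  exact ⟨u.a, u.c, congrArg B.pt (U.ext rfl hu.symm rfl)⟩

theorem Q_Z (hw0 : w ≠ 0) (hw1 : w ≠ 1) {x : G} (hx : x ∈ τ.Q w) (hxZ : x ∈ B.Z) : x = 1 := by
  obtain ⟨a, c, rfl⟩ := τ.exists_Q_pt hx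
  have ha : a = 0 := (B.pt_mem_Z.mp hxZ).1
  subst ha
  obtain ⟨k, -, hk⟩ := τ.exists_Q_coord hw0 hw1 0
  rw [hk c hx, ← hk 0 (by rw [show (⟨0, 0, 0⟩ : U F) = 1 from rfl, map_one]; exact one_mem _)]
  exact map_one B.pt

theorem card_Q (hw0 : w ≠ 0) (hw1 : w ≠ 1) : Nat.card (τ.Q w) = 4 := by
  haveI := finite_four B.hF
  choose k hk hk' using τ.exists_Q_coord hw0 hw1
  rw [← B.hF]
  refine (Nat.card_eq_of_bijective (fun a : F => (⟨B.pt ⟨a, 0, k a⟩, hk a⟩ : τ.Q w)) ⟨fun a b e => ?_, fun x => ?_⟩).symm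
  · exact congrArg U.a (B.pt_injective (show B.pt ⟨a, 0, k a⟩ = B.pt ⟨b, 0, k b⟩ from congrArg (fun x : τ.Q w => (x : G)) e))
  · obtain ⟨a, c, e⟩ := τ.exists_Q_pt x.2
    exact ⟨a, Subtype.ext (by rw [← e, hk' a c (by rw [e]; exact x.2)])⟩

/-- An outer element of the first piece is moved into the fixed points by the Sylow subgroup. -/
theorem exists_shift_Q (hw0 : w ≠ 0) (hw1 : w ≠ 1) {e : G} (he : e ∈ B.E₁) (heZ : e ∉ B.Z) :
    ∃ b : F, B.pt ⟨0, b, 0⟩ * e * (B.pt ⟨0, b, 0⟩)⁻¹ ∈ τ.Q w := by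
  obtain ⟨u, hu, rfl⟩ := he
  have ha : u.a ≠ 0 := fun h => heZ (B.pt_mem_Z.mpr ⟨h, hu⟩)
  obtain ⟨k, hk, -⟩ := τ.exists_Q_coord hw0 hw1 u.a
  refine ⟨(k - u.c) / u.a, ?_⟩
  rw [show u = ⟨u.a, 0, u.c⟩ from U.ext rfl hu rfl]
  show B.pt ⟨0, (k - u.c) / u.a, 0⟩ * B.q (u.a, u.c) * (B.pt ⟨0, (k - u.c) / u.a, 0⟩)⁻¹ ∈ _
  rw [B.shift_q, q, mul_div_cancel₀ _ ha, add_sub_cancel]
  exact hk

/-- **The fixed points are a conjugate of the centre, and some element exchanges both.** -/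
theorem exists_exchange (h : B.Three) (hw0 : w ≠ 0) (hw1 : w ≠ 1) :
    ∃ n ∈ normalizer (B.E₁ : Set G), cj n B.Z = τ.Q w ∧ ∃ g ∈ normalizer (B.E₁ : Set G), cj g B.Z = τ.Q w ∧
      cj g (τ.Q w) = B.Z := by
  obtain ⟨k, hk, -⟩ := τ.exists_Q_coord hw0 hw1 1
  obtain ⟨n, hn, hnq⟩ := B.transitive₁ h.h1 (pt_Z 1) (pt_Z_ne one_ne_zero) hk.1
    (fun e => one_ne_zero (congrArg U.a (B.pt_injective (e.trans (map_one B.pt).symm))))
  -- any conjugate of the centre meeting the fixed points equals them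
  have hmeet : ∀ g ∈ normalizer (B.E₁ : Set G), ∀ z ∈ B.Z, z ≠ 1 → g * z * g⁻¹ ∈ τ.Q w → cj g B.Z = τ.Q w := by
    intro g hg z hz hz1 hgz
    have hfix : g⁻¹ * τ.t 1 w * g * z = z * (g⁻¹ * τ.t 1 w * g) := by
      have hc : g * z * g⁻¹ * τ.t 1 w = τ.t 1 w * (g * z * g⁻¹) := Subgroup.mem_centralizer_singleton_iff.mp hgz.2
      calc g⁻¹ * τ.t 1 w * g * z = g⁻¹ * (τ.t 1 w * (g * z * g⁻¹)) * g := by group
        _ = g⁻¹ * (g * z * g⁻¹ * τ.t 1 w) * g := by rw [hc]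
        _ = _ := by group
    have hN := h.cent_le hz hz1 hfix
    obtain ⟨l, m, hA⟩ := B.exists_acts hN
    obtain ⟨c, rfl⟩ : ∃ c, B.pt ⟨0, 0, c⟩ = z := B.pt_c hz
    have hlm := acts_comm hN hA (B.c_ne_zero hz1) hfix
    refine Subgroup.eq_of_le_of_card_ge ?_ (by rw [card_cj, B.card_Z, τ.card_Q hw0 hw1])
    rintro _ ⟨y, hy, rfl⟩
    refine Subgroup.mem_inf.mpr ⟨(Subgroup.mem_normalizer_iff.mp hg y).mp (B.Z_le₁ hy),
      Subgroup.mem_centralizer_singleton_iff.mpr ?_⟩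
    obtain ⟨d, rfl⟩ : ∃ d, B.pt ⟨0, 0, d⟩ = y := B.pt_c hy
    have h1 := hA.conj_Z B hN d
    rw [hlm, one_mul] at h1
    show g * B.pt ⟨0, 0, d⟩ * g⁻¹ * τ.t 1 w = τ.t 1 w * (g * B.pt ⟨0, 0, d⟩ * g⁻¹)
    calc g * B.pt ⟨0, 0, d⟩ * g⁻¹ * τ.t 1 w =
          g * (g⁻¹ * τ.t 1 w * g * B.pt ⟨0, 0, d⟩ * (g⁻¹ * τ.t 1 w * g)⁻¹) * g⁻¹ * τ.t 1 w := by rw [h1]
      _ = _ := by group
  have hnQ := hmeet n hn _ (pt_Z 1) (pt_Z_ne one_ne_zero) (hnq.symm ▸ hk)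
  have hnZ : n ∉ normalizer (B.Z : Set G) := fun hc => by
    rw [cj_eq_of_mem hc] at hnQ
    exact pt_out one_ne_zero (hnQ.symm ▸ hk)
  have hn' : n⁻¹ * B.pt ⟨0, 0, 1⟩ * n⁻¹⁻¹ ∉ B.Z := fun hc => hnZ (inv_inv n ▸ inv_mem
    (B.Z_disjoint (inv_mem hn) (fun e => pt_Z_ne one_ne_zero (conj_eq_one_iff.mp e)) hc
      (conj_mem_cj (pt_Z 1))))
  obtain ⟨b, hb⟩ := τ.exists_shift_Q hw0 hw1
    ((Subgroup.mem_normalizer_iff.mp (inv_mem hn) _).mp (B.Z_le₁ (pt_Z 1))) hn'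
  set s := B.pt ⟨0, b, 0⟩
  have hs : s ∈ normalizer ((B.S : Subgroup G) : Set G) := Subgroup.le_normalizer (B.pt_mem _)
  have hg : s * n⁻¹ ∈ normalizer (B.E₁ : Set G) := mul_mem (B.normalizer_S_le₁ hs) (inv_mem hn)
  refine ⟨n, hn, hnQ, s * n⁻¹, hg, hmeet _ hg _ (pt_Z 1) (pt_Z_ne one_ne_zero) ?_, ?_⟩
  · rw [show s * n⁻¹ * B.pt ⟨0, 0, 1⟩ * (s * n⁻¹)⁻¹ = s * (n⁻¹ * B.pt ⟨0, 0, 1⟩ * n⁻¹⁻¹) * s⁻¹ by group]
    exact hb
  · rw [← hnQ, cj_mul, show s * n⁻¹ * n = s by group]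
    exact cj_eq_of_mem (B.mem_normalizer_Z hs)

end Torus

end Base

end CfsgLib.L34Sylow
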